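import Groth.Agent.DerCompLib.Sec
import Groth.Agent.ModSiteLib.ExtZero
import Groth.Agent.ModSiteLib.Colimits
import Mathlib.CategoryTheory.Localization.Adjunction
import Groth.Agent.DerLib.KInjDerived

/-!
# Restriction to `C/U` on derived categories
-/

set_option autoImplicit false
set_option linter.style.haveILetI false
set_option linter.unusedSectionVars false

universe u

open CategoryTheory CategoryTheory.Limits Opposite

attribute [local instance] HasDerivedCategory.standard

namespace Groth.Agent.DerCompLib

/-- An adjunction of exact functors gives one on derived categories. -/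
noncomputable def exactAdjD {A B : Type (u + 1)} [Category.{u} A] [Category.{u} B] [Abelian A] [Abelian B]
    {G : B ⥤ A} {R : A ⥤ B} (adj : G ⊣ R) [G.Additive] [R.Additive] [PreservesFiniteLimits G]
    [PreservesFiniteColimits G] [PreservesFiniteLimits R] [PreservesFiniteColimits R] :
    G.mapDerivedCategory ⊣ R.mapDerivedCategory :=
  letI : CatCommSq (G.mapHomologicalComplex (ComplexShape.up ℤ)) DerivedCategory.Q
      DerivedCategory.Q G.mapDerivedCategory := ⟨G.mapDerivedCategoryFactors.symm⟩
  letI : CatCommSq (R.mapHomologicalComplex (ComplexShape.up ℤ)) DerivedCategory.Q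
      DerivedCategory.Q R.mapDerivedCategory := ⟨R.mapDerivedCategoryFactors.symm⟩
  (DerLib.KInjDerived.mapHomologicalComplexAdj adj _).localization DerivedCategory.Q
    (HomologicalComplex.quasiIso _ _) DerivedCategory.Q
    (HomologicalComplex.quasiIso _ _) G.mapDerivedCategory R.mapDerivedCategory

variable {C : Type u} [SmallCategory C] {J : GrothendieckTopology C} (O : Sheaf J CommRingCat.{u})
  (U : C)

instance preservesFiniteLimits_extZero' : PreservesFiniteLimits (ModSite.extZero O U) :=
  ModSiteLib.preservesFiniteLimits_extZero O U

instance preservesFiniteColimits_extZero' : PreservesFiniteColimits (ModSite.extZero O U) :=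
  haveI : PreservesColimitsOfSize.{0, 0} (ModSite.extZero O U) :=
    (ModSite.extZeroAdj O U).leftAdjoint_preservesColimits
  PreservesColimitsOfSize.preservesFiniteColimits _

instance preservesFiniteLimits_restr' : PreservesFiniteLimits (ModSite.restr O U) :=
  haveI : PreservesLimitsOfSize.{0, 0} (ModSite.restr O U) :=
    (ModSite.extZeroAdj O U).rightAdjoint_preservesLimits
  PreservesLimitsOfSize.preservesFiniteLimits _

instance isLeftAdjoint_restr' : (ModSite.restr O U).IsLeftAdjoint :=
  ModSiteLib.pushforward_isLeftAdjoint_of_isCocontinuous (Over.forget U) (J := J.over U) (K := J) _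

instance preservesFiniteColimits_restr' : PreservesFiniteColimits (ModSite.restr O U) :=
  haveI : PreservesColimitsOfSize.{0, 0} (ModSite.restr O U) :=
    (Adjunction.ofIsLeftAdjoint (ModSite.restr O U)).leftAdjoint_preservesColimits
  PreservesColimitsOfSize.preservesFiniteColimits _

/-- Restriction on derived categories. -/
noncomputable abbrev restrD :
    DerivedCategory (ModSite.Mod O) ⥤ DerivedCategory (ModSite.Mod (O.over U)) :=
  (ModSite.restr O U).mapDerivedCategory

/-- Extension by zero on derived categories. -/
noncomputable abbrev extZeroD :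
    DerivedCategory (ModSite.Mod (O.over U)) ⥤ DerivedCategory (ModSite.Mod O) :=
  (ModSite.extZero O U).mapDerivedCategory

/-- `j_! ⊣ restriction` on derived categories. -/
noncomputable def extRestrAdj : extZeroD O U ⊣ restrD O U := exactAdjD (ModSite.extZeroAdj O U)

variable {O U}

/-- `j_! j'_! O_{W,f} = j_! O_{W,f}`. -/
noncomputable def extAwayIso (W : Over U) (f : O.obj.obj (op W.left)) :
    (ModSite.extZero O U).obj (awayMod (O := O.over U) W f) ≅ awayMod W.left f :=
  ModSiteLib.isoOfHomEquiv
    (fun M => (((ModSite.extZeroAdj O U).homEquiv _ M).trans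
      ((awayEquiv (O := O.over U) W f ((ModSite.restr O U).obj M)).trans
        { toFun := fun x => (⟨x.1, x.2⟩ : AwaySeq W.left f M)
          invFun := fun x => ⟨x.1, x.2⟩
          left_inv := fun _ => rfl
          right_inv := fun _ => rfl })).trans (awayEquiv W.left f M).symm)
    fun {M N} a p => by
      apply (awayEquiv W.left f N).injective
      refine ((awayEquiv W.left f N).apply_symm_apply _).trans ?_
      refine Subtype.ext (funext fun n => ?_)
      rw [awayEquiv_comp]
      simp only [Equiv.trans_apply, Equiv.apply_symm_apply]
      rw [(ModSite.extZeroAdj O U).homEquiv_naturality_right]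
      exact awayEquiv_comp (O := O.over U) W f _ ((ModSite.restr O U).map p) n

theorem tests_restr_iff (W : Over U) (f : O.obj.obj (op W.left)) (K : DerivedCategory (ModSite.Mod O))
    (n : ℤ) :
    Subsingleton (SiteCmp.inD (O.over U) (awayMod (O := O.over U) W f) ⟶ ((restrD O U).obj K)⟦n⟧) ↔
      Subsingleton (SiteCmp.inD O (awayMod W.left f) ⟶ K⟦n⟧) := by
  let e : (extZeroD O U).obj (SiteCmp.inD (O.over U) (awayMod (O := O.over U) W f)) ≅
      SiteCmp.inD O (awayMod W.left f) :=
    ((ModSite.extZero O U).mapDerivedCategorySingleFunctor 0).app _ ≪≫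
      (DerivedCategory.singleFunctor _ 0).mapIso (extAwayIso W f)
  exact (((Iso.refl _).homCongr (((restrD O U).commShiftIso n).app K).symm).trans
    (((extRestrAdj O U).homEquiv _ _).symm.trans (e.homCongr (Iso.refl _)))).subsingleton_congr

theorem tv_restr_iff (W : Over U) (f : O.obj.obj (op W.left)) (K : DerivedCategory (ModSite.Mod O)) :
    TV (O := O.over U) W f ((restrD O U).obj K) ↔ TV W.left f K := by
  rw [← subsingleton_tests_iff, ← subsingleton_tests_iff]
  exact forall_congr' (tests_restr_iff W f K)

end Groth.Agent.DerCompLib
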