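import Mathlib.CategoryTheory.Abelian.GrothendieckCategory.Subobject
import Mathlib.CategoryTheory.Limits.Constructions.Filtered
import Mathlib.CategoryTheory.Abelian.GrothendieckAxioms.Basic
import Mathlib.CategoryTheory.Limits.Connected
import Mathlib.CategoryTheory.Filtered.Connected

/-!
# The telescope map is a monomorphism
-/

set_option autoImplicit false
set_option linter.style.haveILetI false
set_option backward.isDefEq.respectTransparency false

universe v u

open CategoryTheory CategoryTheory.Limits CoproductsFromFiniteFiltered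

namespace Groth.Agent.DerCompLib

variable {A : Type u} [Category.{v} A] [Abelian A] [IsGrothendieckAbelian.{v} A]

/-- A map out of a countable coproduct is mono if it is so on finite parts. -/
theorem mono_sigma_desc (X : ℕ → A) {Y : A} (a : ∐ X ⟶ Y)
    (h : ∀ S : Finset (Discrete ℕ), Mono ((finiteSubcoproductsCocone X).ι.app S ≫ a)) : Mono a := by
  haveI : HasColimitsOfSize.{0, 0} A := hasColimitsOfSizeShrink.{0, 0, v, v} A
  haveI : AB5OfSize.{0, 0} A := AB5OfSize_of_univLE.{0, 0, v, v} A
  haveI := IsFiltered.isConnected (Finset (Discrete ℕ))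
  let α : liftToFinsetObj (Discrete.functor X) ⟶ (Functor.const _).obj Y :=
    { app := fun S => (finiteSubcoproductsCocone X).ι.app S ≫ a
      naturality := fun S S' φ => by
        rw [← Category.assoc, (finiteSubcoproductsCocone X).w φ]
        exact (Category.comp_id _).symm }
  haveI : ∀ S, Mono (α.app S) := h
  haveI := NatTrans.mono_of_mono_app α
  exact colim.map_mono' α (isColimitFiniteSubproductsCocone X)
    (isColimitConstCocone (Finset (Discrete ℕ)) Y) a (fun S => by simp [α])

variable {X : A} (m : X ⟶ X)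

/-- Powers of an endomorphism. -/
noncomputable def pw : ℕ → (X ⟶ X)
  | 0 => 𝟙 X
  | k + 1 => m ≫ pw k

theorem mono_telescope (a : (∐ fun _ : ℕ => X) ⟶ ∐ fun _ : ℕ => X)
    (ha : ∀ n, Sigma.ι (fun _ : ℕ => X) n ≫ a =
      Sigma.ι (fun _ : ℕ => X) n - m ≫ Sigma.ι (fun _ : ℕ => X) (n + 1)) : Mono a := by
  classical
  refine mono_sigma_desc (fun _ : ℕ => X) a fun S => ?_
  let T : A := ∐ fun x : S => X
  let r : (∐ fun _ : ℕ => X) ⟶ T := Sigma.desc fun i =>
    ∑ j : S, if i ≤ j.1.as then pw m (j.1.as - i) ≫ Sigma.ι (fun _ : S => X) j else 0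
  refine (SplitMono.mono (f := (finiteSubcoproductsCocone fun _ : ℕ => X).ι.app S ≫ a) ⟨r, ?_⟩)
  refine Limits.Sigma.hom_ext _ _ fun s => ?_
  change Sigma.ι (fun _ : S => X) s ≫ ((Sigma.desc fun t : S => Sigma.ι (fun _ : ℕ => X) t.1.as) ≫ a) ≫ r = _ ≫ 𝟙 _
  rw [Category.comp_id, Category.assoc, Sigma.ι_desc_assoc, ← Category.assoc, ha,
    Preadditive.sub_comp, Category.assoc]
  simp only [r, Sigma.ι_desc, Preadditive.comp_sum]
  rw [← Finset.sum_sub_distrib, Finset.sum_eq_single s]
  · rw [if_pos le_rfl, if_neg (by omega), comp_zero, sub_zero, Nat.sub_self]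
    exact Category.id_comp _
  · intro j _ hj
    have hne : j.1.as ≠ s.1.as := fun h => hj (Subtype.ext (Discrete.ext h))
    rcases lt_or_gt_of_ne hne with h | h
    · rw [if_neg (by omega), if_neg (by omega), comp_zero, sub_zero]
    · rw [if_pos h.le, if_pos (by omega), show j.1.as - s.1.as = j.1.as - (s.1.as + 1) + 1 by omega]
      exact sub_eq_zero.2 (Category.assoc _ _ _)
  · simp

end Groth.Agent.DerCompLib
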