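import Groth.Agent.DerCompLib.GlobalRHom
import Groth.Agent.PerfLib.Coherent
import Groth.Agent.PerfLib.PCoh
import Groth.Agent.TildeDerLib.Tower
import Groth.Agent.QRlimLib.Unbounded
import Groth.Agent.QRlimLib.Exact
import Groth.Agent.QCohLib.AffineFinite
import Groth.Agent.DRingLib.RgammaHat
import Groth.Agent.KFlatLib.PerfectPull

/-!
# `RΓ(X, -)` of objects with coherent cohomology on an affine scheme
-/

set_option autoImplicit false
set_option linter.style.haveILetI false
set_option linter.unusedSectionVars false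
set_option backward.isDefEq.respectTransparency false

universe u

open CategoryTheory CategoryTheory.Limits Opposite HomologicalComplex AlgebraicGeometry
open TopologicalSpace
open CategoryTheory.Pretriangulated (Triangle)
open CochainComplex.HomComplex
attribute [local instance] HasDerivedCategory.standard

noncomputable section

namespace Groth.Agent.DerCompLib.AffineGlobal

section Linear

variable {C : Type (u + 1)} [Category.{u} C] [Abelian C] {R : Type u} [CommRing R] [Linear R C] (n : ℤ)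

instance linear_homology :
    (HomologicalComplex.homologyFunctor C (ComplexShape.up ℤ) n).Linear R where
  map_smul f r := (ShortComplex.homologyFunctor C).map_smul r
    ((HomologicalComplex.shortComplexFunctor C (ComplexShape.up ℤ) n).map f)

instance linear_homotopyHomology :
    (HomotopyCategory.homologyFunctor C (ComplexShape.up ℤ) n).Linear R where
  map_smul {K L} f r := by
    obtain ⟨K, rfl⟩ := HomotopyCategory.quotient_obj_surjective K
    obtain ⟨L, rfl⟩ := HomotopyCategory.quotient_obj_surjective L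
    obtain ⟨f, rfl⟩ := (HomotopyCategory.quotient _ _).map_surjective f
    have h := Functor.linear_of_iso (R := R)
      (HomotopyCategory.homologyFunctorFactors C (ComplexShape.up ℤ) n).symm
    rw [← Functor.map_smul]
    exact h.map_smul f r

instance linear_derivedHomology : (DerivedCategory.homologyFunctor C n).Linear R := by
  haveI : Localization.Lifting DerivedCategory.Qh (HomotopyCategory.quasiIso C (ComplexShape.up ℤ))
      (HomotopyCategory.homologyFunctor C (ComplexShape.up ℤ) n) (DerivedCategory.homologyFunctor C n) :=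
    ⟨DerivedCategory.homologyFunctorFactorsh _ n⟩
  rw [← Localization.functor_linear_iff DerivedCategory.Qh (HomotopyCategory.quasiIso _
    (ComplexShape.up ℤ)) R (HomotopyCategory.homologyFunctor C (ComplexShape.up ℤ) n)]
  infer_instance

end Linear

variable {X : Scheme.{u}}

/-- `O_X` in degree `0`. -/
abbrev oD (X : Scheme.{u}) : DCoh.D X :=
  (DerivedCategory.singleFunctor X.Modules 0).obj (Coh.structureModule X)

/-- `O_X` in degree `0`, on the site. -/
abbrev oS (X : Scheme.{u}) : DerivedCategory (ModSite.Mod X.sheaf) :=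
  SiteCmp.inD X.sheaf (ModSite.unit X.sheaf)

/-- `H⁰`. -/
abbrev h0 (X : Scheme.{u}) : DCoh.D X ⥤ X.Modules :=
  DerivedCategory.homologyFunctor X.Modules 0

/-- `O_X` is `H⁰` of itself. -/
def ι0 (X : Scheme.{u}) : Coh.structureModule X ≅ (h0 X).obj (oD X) :=
  ((DerivedCategory.singleFunctorCompHomologyFunctorIso X.Modules 0).app
    (Coh.structureModule X)).symm

/-- The map induced on `H⁰`. -/
def evH {Y : DCoh.D X} (t : oD X ⟶ Y) :
    Coh.structureModule X ⟶ (h0 X).obj Y :=
  (ι0 X).hom ≫ (h0 X).map t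

theorem evH_comp {Y Y' : DCoh.D X} (t : oD X ⟶ Y) (g : Y ⟶ Y') :
    evH (t ≫ g) = evH t ≫ (h0 X).map g := by
  simp only [evH, Functor.map_comp]
  exact (Category.assoc _ _ _).symm

theorem bijective_evH_of_iso {Y Y' : DCoh.D X} (e : Y ≅ Y')
    (h : Function.Bijective (evH (X := X) (Y := Y))) : Function.Bijective (evH (X := X) (Y := Y')) := by
  have := (((h0 X).mapIso e).homToEquiv.bijective).comp (h.comp e.symm.homToEquiv.bijective)
  convert this using 1
  funext t
  change evH t = evH (t ≫ e.inv) ≫ (h0 X).map e.hom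
  rw [← evH_comp, Category.assoc, Iso.inv_hom_id, Category.comp_id]

theorem bijective_evH_kInjective (J : CochainComplex X.Modules ℤ) [J.IsKInjective]
    (hJ : QRlimLib.AffExact J ⊤ 0) :
    Function.Bijective (evH (X := X) (Y := DerivedCategory.Q.obj J)) := by
  let U : X.Modules := Coh.structureModule X
  let S : CochainComplex X.Modules ℤ := (single X.Modules (ComplexShape.up ℤ) 0).obj U
  have hd : ∀ k l, S.d k l = 0 := fun k l => single_obj_d _ _ _ _ _
  let a : oD X ≅ DerivedCategory.Q.obj S :=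
    (DerivedCategory.singleFunctorIsoCompQ X.Modules 0).app (Coh.structureModule X)
  let facS := (DerivedCategory.homologyFunctorFactors X.Modules 0).app S
  let facJ := (DerivedCategory.homologyFunctorFactors X.Modules 0).app J
  let e : U ≅ S.homology 0 := ι0 X ≪≫ (h0 X).mapIso a ≪≫ facS
  haveI hi : IsIso (S.iCycles 0) := S.isIso_iCycles 0 1 (by simp) (hd _ _)
  haveI hp : IsIso (S.homologyπ 0) := S.isIso_homologyπ (-1) 0 (by simp) (hd _ _)
  let j : U ≅ S.cycles 0 := e ≪≫ (asIso (S.homologyπ 0)).symm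
  let q : U ≅ S.X 0 := j ≪≫ asIso (S.iCycles 0)
  have key : ∀ f : S ⟶ J, evH (a.hom ≫ DerivedCategory.Q.map f) ≫ facJ.hom =
      (j.hom ≫ cyclesMap f 0) ≫ J.homologyπ 0 := by
    intro f
    rw [Category.assoc, ← homologyπ_naturality]
    simp only [j, e, Iso.trans_hom, Iso.symm_hom, asIso_inv, Category.assoc, IsIso.inv_hom_id_assoc,
      evH, Functor.map_comp, Functor.mapIso_hom]
    refine congrArg ((ι0 X).hom ≫ ·) ?_
    refine (Category.assoc _ _ _).trans (congrArg ((h0 X).map a.hom ≫ ·) ?_)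
    exact (DerivedCategory.homologyFunctorFactors X.Modules 0).hom.naturality f
  have hcyc : ∀ f : S ⟶ J, (j.hom ≫ cyclesMap f 0) ≫ J.iCycles 0 = q.hom ≫ f.f 0 := by
    intro f
    simp [q]
  constructor
  · intro t₁ t₂ ht
    obtain ⟨f₁, hf₁⟩ := DerLib.KInjUse.Q_map_surjective S J (a.inv ≫ t₁)
    obtain ⟨f₂, hf₂⟩ := DerLib.KInjUse.Q_map_surjective S J (a.inv ≫ t₂)
    have e₁ : t₁ = a.hom ≫ DerivedCategory.Q.map f₁ := by rw [hf₁, Iso.hom_inv_id_assoc]
    have e₂ : t₂ = a.hom ≫ DerivedCategory.Q.map f₂ := by rw [hf₂, Iso.hom_inv_id_assoc]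
    rw [e₁, e₂] at ht
    have h3 := congrArg (fun φ : U ⟶ (h0 X).obj (DerivedCategory.Q.obj J) => φ ≫ facJ.hom) ht
    simp only [key] at h3
    let f := f₁ - f₂
    have h4 : (j.hom ≫ cyclesMap f 0) ≫ J.homologyπ 0 = 0 := by
      rw [show cyclesMap f 0 = cyclesMap f₁ 0 - cyclesMap f₂ 0 by
          rw [← cancel_mono (J.iCycles 0)]
          simp [f], Preadditive.comp_sub, Preadditive.sub_comp, h3, sub_self]
    let z : Γ(J.cycles 0, ⊤) := KFlatLib.unitSecEquiv _ (j.hom ≫ cyclesMap f 0)
    have hz : (J.homologyπ 0).app ⊤ z = 0 := by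
      rw [← KFlatLib.unitSecEquiv_comp, h4]
      rfl
    obtain ⟨w, hw⟩ := hJ.exact z hz
    have hh : QCohLib.unitHom _ w ≫ J.toCycles (0 - 1) 0 = j.hom ≫ cyclesMap f 0 := by
      rw [QCohLib.app_unitHom_app, hw]
      exact (KFlatLib.unitSecEquiv _).symm_apply_apply _
    let g : U ⟶ J.X (0 - 1) := QCohLib.unitHom _ w
    let v : U ⟶ J.X (-1) := (singleObjXSelf (ComplexShape.up ℤ) 0 U).inv ≫ q.inv ≫ g
    have hv : v ≫ J.d (-1) 0 = (singleObjXSelf (ComplexShape.up ℤ) 0 U).inv ≫ f.f 0 := by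
      have : g ≫ J.d (-1) 0 = q.hom ≫ f.f 0 := by
        rw [← hcyc, ← hh]
        simp [g]
      simp [v, this]
    let β : Cochain ((CochainComplex.singleFunctor X.Modules 0).obj U) J (-1) :=
      Cochain.fromSingleMk v (zero_add _)
    have hβ : Cochain.ofHom f = δ (-1) 0 β + Cochain.ofHom 0 := by
      rw [Cochain.ofHom_zero, add_zero, Cochain.δ_fromSingleMk _ _ 0 0 (add_zero 0), hv]
      apply (Cochain.fromSingleEquiv (add_zero (0 : ℤ))).injective
      rw [Cochain.fromSingleEquiv_fromSingleMk]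
      simp [Cochain.fromSingleEquiv]
    have hq0 := HomotopyCategory.eq_of_homotopy _ _ ((Cochain.equivHomotopy _ _).symm ⟨β, hβ⟩)
    rw [Functor.map_zero] at hq0
    have h5 := DerLib.KInjUse.Q_map_zero_of_quotient hq0
    rw [Functor.map_sub, sub_eq_zero] at h5
    rw [e₁, e₂, h5]
  · intro φ
    obtain ⟨z, hz⟩ := hJ.surj (KFlatLib.unitSecEquiv (J.homology 0) (φ ≫ facJ.hom))
    let ψ : U ⟶ J.cycles 0 := QCohLib.unitHom _ z
    have hψ : ψ ≫ J.homologyπ 0 = φ ≫ facJ.hom := by
      rw [QCohLib.app_unitHom_app, hz]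
      exact (KFlatLib.unitSecEquiv _).symm_apply_apply _
    let φ' : U ⟶ J.X 0 := (singleObjXSelf (ComplexShape.up ℤ) 0 U).inv ≫ q.inv ≫ ψ ≫ J.iCycles 0
    let f : S ⟶ J := mkHomFromSingle φ' fun k _ => by simp [φ']
    have hf : j.hom ≫ cyclesMap f 0 = ψ := by
      rw [← cancel_mono (J.iCycles 0), hcyc]
      simp [f, φ', mkHomFromSingle_f]
    refine ⟨a.hom ≫ DerivedCategory.Q.map f, ?_⟩
    rw [← cancel_mono facJ.hom]
    refine (key f).trans ?_
    rw [hf, hψ]

variable [IsAffine X]

theorem bijective_evH_bounded (Y : DCoh.D X) (hY : DCoh.IsQCohD (X := X) Y)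
    (a : ℤ) [DerivedCategory.IsGE (C := X.Modules) Y a] :
    Function.Bijective (evH (X := X) (Y := Y)) := by
  obtain ⟨I, hI, hfl, hge, ⟨e⟩⟩ := QRlimLib.exists_kInjective_bounded (X := X) Y a
  haveI := hI
  haveI := hge
  have hq : ∀ q, Coh.IsQCoh (I.homology q) := fun q =>
    have := hY q
    QCohLib.isQCoh_of_iso ((DerivedCategory.homologyFunctor X.Modules q).mapIso e ≪≫
      (DerivedCategory.homologyFunctorFactors X.Modules q).app I)
  exact bijective_evH_of_iso e.symm
    (bijective_evH_kInjective I (QRlimLib.affExact hfl a hq (isAffineOpen_top X) 0))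

/-- Maps out of `O_X` are global sections of `H⁰`. -/
theorem bijective_evH (Y : DCoh.D X) (hY : DCoh.IsQCohD (X := X) Y) :
    Function.Bijective (evH (X := X) (Y := Y)) := by
  haveI := QRlimLib.hasProduct_of_isGE (X := X) (CohCx.truncTower (A := X.Modules) Y)
  obtain ⟨c, hT⟩ := QRlimLib.exists_isRlimVia (X := X) hY
  have hb : ∀ n, Function.Bijective (evH (X := X) (Y := CohCx.truncTower (A := X.Modules) Y n)) := fun n =>
    bijective_evH_bounded _ (QRlimLib.isQCohD_trunc hY n) (-(n : ℤ))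
  have h₀ : ∀ n, 1 ≤ n → Function.Bijective
      (fun g : oD X ⟶ CohCx.truncTower (A := X.Modules) Y (n + 1) => g ≫ CohCx.truncTowerMap (A := X.Modules) Y n) := by
    intro n _
    haveI := QRlimLib.isIso_HD_truncMap (X := X) Y n 0 (by omega)
    refine (Function.Bijective.of_comp_iff' (hb n) _).1 ?_
    have h := (asIso ((h0 X).map (CohCx.truncTowerMap (A := X.Modules) Y n))).homToEquiv.bijective.comp (hb (n + 1))
    convert h using 1
    funext g
    exact evH_comp g _
  have h₁ : ∀ n, 1 ≤ n → Function.Surjective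
      (fun g : (oD X)⟦(1 : ℤ)⟧ ⟶ CohCx.truncTower (A := X.Modules) Y (n + 1) =>
        g ≫ CohCx.truncTowerMap (A := X.Modules) Y n) := by
    intro n hn h
    let A := (shiftEquiv' (DCoh.D X) (1 : ℤ) (-1) (by omega)).toAdjunction
    let t : CohCx.truncTower (A := X.Modules) Y (n + 1) ⟶ CohCx.truncTower (A := X.Modules) Y n :=
      CohCx.truncTowerMap (A := X.Modules) Y n
    have hsh : ∀ k, Function.Bijective
        (evH (X := X) (Y := (CohCx.truncTower (A := X.Modules) Y k)⟦(-1 : ℤ)⟧)) := fun k => by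
      haveI : DerivedCategory.IsGE (C := X.Modules)
          ((CohCx.truncTower (A := X.Modules) Y k)⟦(-1 : ℤ)⟧) (-(k : ℤ) + 1) :=
        DerivedCategory.TStructure.t.isGE_shift (CohCx.truncTower (A := X.Modules) Y k) (-(k : ℤ)) (-1) _ (by omega)
      refine bijective_evH_bounded _ (fun m => ?_) (-(k : ℤ) + 1)
      exact @QCohLib.isQCoh_of_iso _ _ _ (((DerivedCategory.homologyFunctor X.Modules 0).shiftIso (-1)
        (m : ℤ) (m + -1) (by omega)).app _).symm (QRlimLib.isQCohD_trunc hY k (m + -1))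
    haveI := QRlimLib.isIso_HD_truncMap (X := X) Y n (-1) (by omega)
    haveI : IsIso ((h0 X).map (t⟦(-1 : ℤ)⟧')) := by
      have h' : IsIso (((DerivedCategory.homologyFunctor X.Modules 0).shift (-1 : ℤ)).map t) := by
        rw [DerivedCategory.shift_homologyFunctor]
        exact QRlimLib.isIso_HD_truncMap (X := X) Y n (-1) (by omega)
      have h'' := (NatIso.isIso_map_iff
        ((DerivedCategory.homologyFunctor X.Modules 0).shiftIso (-1) 0 (-1) (by omega)) t).2 h'
      rw [Functor.comp_map, DerivedCategory.shift_homologyFunctor] at h''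
      exact h''
    let y := A.homEquiv _ _ h
    obtain ⟨x, hx⟩ := (hsh (n + 1)).2 (evH y ≫ inv ((h0 X).map (t⟦(-1 : ℤ)⟧')))
    have hxy : x ≫ t⟦(-1 : ℤ)⟧' = y := (hsh n).1 (by rw [evH_comp, hx]; simp)
    refine ⟨(A.homEquiv _ _).symm x, ?_⟩
    apply (A.homEquiv _ _).injective
    refine (A.homEquiv_naturality_right _ _).trans ?_
    rw [Equiv.apply_symm_apply]
    exact hxy
  have hmain := TildeDerLib.bijective_comp_π (CohCx.truncTowerMap (A := X.Modules) Y) hT (oD X) 1 h₀ h₁
  haveI := QRlimLib.isIso_HD_toTrunc (X := X) Y 1 0 (by omega)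
  refine (Function.Bijective.of_comp_iff'
    (asIso ((h0 X).map (CohCx.toTruncTower (A := X.Modules) Y 1))).homToEquiv.bijective _).1 ?_
  convert (hb 1).comp hmain using 1
  funext g
  simp only [Function.comp_apply, Pi.lift_π]
  exact (evH_comp g _).symm

/-- Evaluation of global sections on `⊤`. -/
def topHom (X : Scheme.{u}) : DerComp.GSec X.sheaf →+* Γ(X, ⊤) where
  toFun s := s.1 ⊤
  map_one' := rfl
  map_mul' _ _ := rfl
  map_zero' := rfl
  map_add' _ _ := rfl

theorem bijective_topHom (X : Scheme.{u}) : Function.Bijective (topHom X) := by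
  refine ⟨fun s t h => Subtype.ext (funext fun V => ?_), fun r => ⟨⟨fun V => X.presheaf.map
    (homOfLE (le_top : V ≤ ⊤)).op r, fun V W g => ?_⟩, ?_⟩⟩
  · exact (DerComp.GSec.compat s (homOfLE le_top)).symm.trans
      ((congrArg (X.presheaf.map (homOfLE (le_top : V ≤ ⊤)).op) h).trans (DerComp.GSec.compat t (homOfLE le_top)))
  · change (X.presheaf.map g.op).hom _ = _
    rw [← CommRingCat.comp_apply, ← Functor.map_comp]
    rfl
  · change X.presheaf.map (𝟙 (op ⊤)) r = r
    simp

instance isNoetherianRing_gSec [IsLocallyNoetherian X] : IsNoetherianRing (DerComp.GSec X.sheaf) := by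
  haveI : IsNoetherianRing Γ(X, ⊤) := IsLocallyNoetherian.component_noetherian ⟨⊤, isAffineOpen_top X⟩
  exact isNoetherianRing_of_ringEquiv Γ(X, ⊤) (RingEquiv.ofBijective _ (bijective_topHom X)).symm

/-- The section of `H⁰` of a class. -/
def secH {Y : DCoh.D X} (t : oD X ⟶ Y) : Γ((h0 X).obj Y, ⊤) :=
  KFlatLib.unitSecEquiv _ (evH t)

theorem secH_smul {Y : DerivedCategory (ModSite.Mod X.sheaf)} (s : DerComp.GSec X.sheaf) (t : oS X ⟶ Y) :
    secH (Y := Y) (s • t) = topHom X s • secH (Y := Y) t := by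
  have h : evH (Y := Y) (s • t) = evH (Y := Y) t ≫
      DerComp.smulEnd s ((DerivedCategory.homologyFunctor (ModSite.Mod X.sheaf) 0).obj Y) := by
    let φ : ModSite.unit X.sheaf ⟶ (DerivedCategory.homologyFunctor (ModSite.Mod X.sheaf) 0).obj (oS X) :=
      (ι0 X).hom
    change φ ≫ (DerivedCategory.homologyFunctor (ModSite.Mod X.sheaf) 0).map (s • t) =
      (φ ≫ (DerivedCategory.homologyFunctor (ModSite.Mod X.sheaf) 0).map t) ≫ _
    rw [Functor.map_smul, Linear.comp_smul, DerComp.smul_def]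
    exact DerComp.smulEnd_comm s _
  unfold secH
  rw [h]
  refine (KFlatLib.unitSecEquiv_comp _ _).trans ?_
  rfl

theorem secH_add {Y : DCoh.D X} (t t' : oD X ⟶ Y) :
    secH (t + t') = secH t + secH t' := by
  have h : evH (t + t') = evH t + evH t' := by
    simp only [evH, Functor.map_add]
    exact Preadditive.comp_add _ _ _ _ _ _
  unfold secH
  rw [h]
  rfl

theorem finite_hom (Y : DerivedCategory (ModSite.Mod X.sheaf)) (hY : DCoh.IsQCohD (X := X) Y)
    (h0Y : Coh.IsCoh (DCoh.HD (X := X) Y 0)) :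
    Module.Finite (DerComp.GSec X.sheaf) (oS X ⟶ Y) := by
  haveI : Coh.IsQCoh ((h0 X).obj Y) := h0Y.1
  obtain ⟨T, hT⟩ : (⊤ : Submodule Γ(X, ⊤) Γ((h0 X).obj Y, ⊤)).FG :=
    (QCohLib.finite_of_isFT h0Y.2 (isAffineOpen_top X)).fg_top
  have hb : Function.Bijective (fun t : oS X ⟶ Y => secH (X := X) (Y := Y) t) :=
    (KFlatLib.unitSecEquiv _).bijective.comp (bijective_evH Y hY)
  classical
  choose g hg using hb.2
  change ∀ v, secH (Y := Y) (g v) = v at hg
  refine ⟨⟨T.image g, eq_top_iff.2 fun t _ => ?_⟩⟩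
  suffices H : ∀ v, v ∈ Submodule.span Γ(X, ⊤) (T : Set Γ((h0 X).obj Y, ⊤)) →
      g v ∈ Submodule.span (DerComp.GSec X.sheaf) ((T.image g : Finset _) : Set (oS X ⟶ Y)) by
    have h2 := H (secH t) (hT.symm ▸ Submodule.mem_top)
    rwa [show g (secH t) = t from hb.1 (hg _)] at h2
  intro v hv
  induction hv using Submodule.span_induction with
  | mem v hv => exact Submodule.subset_span (Finset.mem_coe.2 (Finset.mem_image_of_mem g hv))
  | zero =>
    have h0' : secH (0 : oS X ⟶ Y) = 0 := by
      have := secH_add (0 : oS X ⟶ Y) 0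
      rw [add_zero] at this
      exact left_eq_add.1 this
    rw [show g 0 = 0 from hb.1 ((hg 0).trans h0'.symm)]
    exact zero_mem _
  | add v w _ _ ihv ihw =>
    rw [show g (v + w) = g v + g w from hb.1 ((hg (v + w)).trans ((secH_add _ _).trans (congrArg₂ (· + ·) (hg v) (hg w))).symm)]
    exact add_mem ihv ihw
  | smul r v _ ih =>
    obtain ⟨s, rfl⟩ := (bijective_topHom X).2 r
    rw [show g (topHom X s • v) = s • g v from hb.1 ((hg _).trans ((secH_smul s _).trans (congrArg (topHom X s • ·) (hg v))).symm)]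
    exact Submodule.smul_mem _ _ ih

theorem isCohD_of_isPC [IsLocallyNoetherian X] {K : DCoh.D X}
    (hK : ∀ m : ℤ, DCoh.IsPseudoCoherentD m K) : DCoh.IsCohD K := by
  intro i
  choose U hxU hU using fun x : X => hK (i - 1) x
  refine PerfLib.isCoh_of_cover _ U (eq_top_iff.2 fun p _ => Opens.mem_iSup.2 ⟨p, hxU p⟩) fun p => ?_
  obtain ⟨E, α, ⟨-, hf⟩, hα, -⟩ := hU p _ ⟨DerivedCategory.Q.objObjPreimageIso K⟩
  haveI := hα i (by omega)
  haveI : IsLocallyNoetherian (U p : Scheme.{u}) := isLocallyNoetherian_of_isOpenImmersion (U p).ι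
  let e' : E.homology i ≅ (DCoh.HD K i).restrict (U p).ι :=
    ((DerivedCategory.homologyFunctorFactors _ i).app E).symm ≪≫
      asIso ((DerivedCategory.homologyFunctor _ i).map α) ≪≫
      (DerivedCategory.homologyFunctor _ i).mapIso ((PerfLib.resDQIso (U p).ι _).symm ≪≫
        (PerfLib.resD (U p).ι).mapIso (DerivedCategory.Q.objObjPreimageIso K)) ≪≫
      PerfLib.resHDIso (U p).ι K i
  exact QCohLib.isCoh_of_iso e' (PerfLib.isCoh_homology E (fun k => PerfLib.isCoh_of_isFinLocFree (hf k)) i)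

theorem finite_hom_shift [IsLocallyNoetherian X] {K : DerivedCategory (ModSite.Mod X.sheaf)}
    (hK : DCoh.IsCohD (X := X) K) (p : ℤ) :
    Module.Finite (DerComp.GSec X.sheaf) (oS X ⟶ K⟦p⟧) := by
  have hq : ∀ m : ℤ, Coh.IsCoh (DCoh.HD (X := X) (K⟦p⟧) m) := fun m =>
    QCohLib.isCoh_of_iso
      (((DerivedCategory.homologyFunctor X.Modules 0).shiftIso p m (p + m) rfl).app K).symm (hK (p + m))
  exact finite_hom _ (fun m => (hq m).1) (hq 0)

end Groth.Agent.DerCompLib.AffineGlobal
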