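import Groth.Agent.DerLib.OrthLocal
import Groth.Agent.ModSiteLib.Grothendieck
import Groth.Prelude.Def_DerComp

/-!
# Existence of derived completion on a ringed site
-/

set_option autoImplicit false
set_option linter.style.haveILetI false

universe u

open CategoryTheory CategoryTheory.Limits Opposite

attribute [local instance] HasDerivedCategory.standard

namespace Groth.Agent.DerCompLib

theorem subsingleton_shift_iff {D : Type*} [Category D] [HasShift D ℤ] (X Y : D) (n : ℤ) :
    Subsingleton (X⟦n⟧ ⟶ Y) ↔ Subsingleton (X ⟶ Y⟦-n⟧) :=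
  (Equiv.ofBijective _ ((shiftEquiv D n).toAdjunction.homEquiv X Y).bijective).subsingleton_congr

variable {C : Type u} [SmallCategory C] {J : GrothendieckTopology C}
  (O : Sheaf J CommRingCat.{u}) (I : DerComp.IdealSh O)

/-- The test objects. -/
abbrev Idx : Type u := Σ U : C, {f : O.obj.obj (op U) // f ∈ I.ideal U} × ℤ

/-- `j_! O_{U,f}` as a complex, shifted. -/
noncomputable abbrev testCx (x : Idx O I) : CochainComplex (ModSite.Mod O) ℤ :=
  ((CochainComplex.singleFunctor (ModSite.Mod O) 0).obj
    ((ModSite.extZero O x.1).obj (DerComp.awayOver O x.1 x.2.1.1)))⟦x.2.2⟧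

/-- The image of a test complex in the derived category. -/
noncomputable def QTestIso (x : Idx O I) : DerivedCategory.Q.obj (testCx O I x) ≅
    (SiteCmp.inD O ((ModSite.extZero O x.1).obj (DerComp.awayOver O x.1 x.2.1.1)))⟦x.2.2⟧ :=
  (DerivedCategory.Q.commShiftIso x.2.2).app _ ≪≫
    (shiftFunctor _ x.2.2).mapIso ((DerivedCategory.singleFunctorIsoCompQ _ 0).app _).symm

theorem isDerComp_iff_isLocal (K : DerivedCategory (ModSite.Mod O)) :
    DerComp.IsDerComp O I K ↔ DerLib.OrthLocal.IsLocal (testCx O I) K := by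
  constructor
  · intro h x
    rw [((QTestIso O I x).homCongr (Iso.refl K)).subsingleton_congr, subsingleton_shift_iff]
    exact h x.1 x.2.1.1 x.2.1.2 (-x.2.2)
  · intro h U f hf n
    have := h ⟨U, ⟨f, hf⟩, -n⟩
    rw [((QTestIso O I _).homCongr (Iso.refl K)).subsingleton_congr, subsingleton_shift_iff,
      neg_neg] at this
    exact this

/-- Derived completion exists, for any sheaf of ideals. -/
theorem hasDerCompletion : DerComp.HasDerCompletion O I := by
  refine DerLib.OrthLocal.isRightAdjoint (S := testCx O I) _ (isDerComp_iff_isLocal O I)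
    fun x Y hY => ?_
  let e : DerivedCategory.Q.obj ((testCx O I x)⟦(1 : ℤ)⟧) ≅
      DerivedCategory.Q.obj (testCx O I ⟨x.1, x.2.1, x.2.2 + 1⟩) :=
    DerivedCategory.Q.mapIso ((shiftFunctorAdd' _ x.2.2 1 (x.2.2 + 1) rfl).app _).symm
  rw [(e.homCongr (Iso.refl Y)).subsingleton_congr]
  exact (isDerComp_iff_isLocal O I Y).1 hY _

end Groth.Agent.DerCompLib
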