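import Groth.Agent.DerCompLib.KoszCrit
import Groth.Agent.DerCompLib.Exists

/-!
# Restriction and the left orthogonal of derived complete objects
-/

set_option autoImplicit false
set_option linter.style.haveILetI false
set_option linter.unusedSectionVars false
set_option backward.isDefEq.respectTransparency false

universe u

open CategoryTheory CategoryTheory.Limits Opposite HomologicalComplex
open CategoryTheory.Pretriangulated (Triangle)
attribute [local instance] HasDerivedCategory.standard

namespace Groth.Agent.DerCompLib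

variable {C : Type u} [SmallCategory C] {J : GrothendieckTopology C} {O : Sheaf J CommRingCat.{u}}

theorem tensorBi_smulEnd_left (s : DerComp.GSec O) (M N : ModSite.Mod O) :
    ((ModSite.tensorBi O).flip.obj N).map (DerComp.smulEnd s M) =
      DerComp.smulEnd s (((ModSite.tensorBi O).obj M).obj N) := by
  refine _root_.ModSiteLib.tens_hom_ext fun V m n => ?_
  refine (_root_.ModSiteLib.ap_tensorBi₁ _ N m n).trans ?_
  exact _root_.ModSiteLib.shT_smul_left M N (s.1 V) m n

instance linear_flip (N : ModSite.Mod O) :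
    ((ModSite.tensorBi O).flip.obj N).Linear (DerComp.GSec O) where
  map_smul {M M'} f s := by
    change ((ModSite.tensorBi O).flip.obj N).map (DerComp.smulEnd s M ≫ f) =
      DerComp.smulEnd s _ ≫ ((ModSite.tensorBi O).flip.obj N).map f
    rw [Functor.map_comp, tensorBi_smulEnd_left]
    rfl

theorem homologyMap_smul_eq_zero {K : CochainComplex (ModSite.Mod O) ℤ} (c : DerComp.GSec O)
    (h : c • 𝟙 (DerivedCategory.Q.obj K) = 0) (i : ℤ) : DerComp.smulEnd c (K.homology i) = 0 := by
  have h1 : DerivedCategory.Q.map (c • 𝟙 K) = 0 := by rw [Functor.map_smul, CategoryTheory.Functor.map_id, h]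
  have h2 : homologyMap (c • 𝟙 K) i = 0 := by
    have := DerivedCategory.homologyFunctorFactors_hom_naturality (c • 𝟙 K) i
    rw [h1, Functor.map_zero, zero_comp] at this
    exact (cancel_epi ((DerivedCategory.homologyFunctorFactors (ModSite.Mod O) i).app _).hom).1
      (this.symm.trans comp_zero.symm)
  have h3 : homologyMap (c • 𝟙 K) i = c • 𝟙 (K.homology i) := by
    change ShortComplex.homologyMap
      ((HomologicalComplex.shortComplexFunctor _ (ComplexShape.up ℤ) i).map (c • 𝟙 K)) = _
    rw [show (HomologicalComplex.shortComplexFunctor (ModSite.Mod O) (ComplexShape.up ℤ) i).map (c • 𝟙 K) =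
      c • (HomologicalComplex.shortComplexFunctor (ModSite.Mod O) (ComplexShape.up ℤ) i).map (𝟙 K) by
        ext <;> rfl, ShortComplex.homologyMap_smul, CategoryTheory.Functor.map_id, ShortComplex.homologyMap_id]
    rfl
  rw [h3] at h2
  exact (Category.comp_id _).symm.trans h2

/-- Killed objects are killed by the derived tensor product with a restricted `j_! O_{W,g}`. -/
theorem isZero_tensor_of_nilp (I : DerComp.IdealSh O) (V W : C) (g : O.obj.obj (op W)) (hg : g ∈ I.ideal W)
    {r : ℕ} (s : Fin r → DerComp.GSec (O.over V)) (hs : (I.over V).IsGenBy s)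
    (Z : DerivedCategory (ModSite.Mod (O.over V))) (hZ : ∀ i, Nilp (s i) Z)
    (F : ModSite.Mod (O.over V) ⥤ ModSite.Mod (O.over V)) [F.Additive] [PreservesFiniteLimits F]
    [PreservesFiniteColimits F]
    (hF : F = (ModSite.tensorBi (O.over V)).flip.obj ((ModSite.restr O V).obj (awayMod W g))) :
    IsZero (F.mapDerivedCategory.obj Z) := by
  let K := DerivedCategory.Q.objPreimage Z
  let e : DerivedCategory.Q.obj K ≅ Z := DerivedCategory.Q.objObjPreimageIso Z
  refine IsZero.of_iso (DerLib.KInjUse.isZero_Q_obj fun i => ?_)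
    ((F.mapDerivedCategory.mapIso e).symm ≪≫ F.mapDerivedCategoryFactors.app K)
  rw [exactAt_iff_isZero_homology]
  haveI : F.PreservesHomology := inferInstance
  refine IsZero.of_iso ?_ ((K.sc i).mapHomologyIso F)
  subst hF
  refine isZero_tensor_restr_away I V W g hg (K.homology i) (lnil_of_gen _ s hs _ fun j => ?_)
  obtain ⟨k, hk⟩ := hZ j
  refine ⟨k, homologyMap_smul_eq_zero _ ?_ i⟩
  rw [← cancel_mono e.hom, zero_comp, Linear.smul_comp, Category.id_comp, ← Category.comp_id e.hom,
    ← Linear.comp_smul, hk, comp_zero]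

/-- The key vanishing. -/
theorem kz_restr_away (I : DerComp.IdealSh O) (V W : C) (g : O.obj.obj (op W)) (hg : g ∈ I.ideal W)
    {r : ℕ} (s : Fin r → DerComp.GSec (O.over V)) (hs : (I.over V).IsGenBy s) :
    KZ (List.ofFn s) ((restrD O V).obj (SiteCmp.inD O (awayMod W g))) := by
  let R := (ModSite.restr O V).obj (awayMod W g)
  let F := (ModSite.tensorBi (O.over V)).flip.obj R
  have hR : ModSite.IsFlat R := _root_.ModSiteLib.isFlat_restr' V (isFlat_awayMod W g)
  haveI := hR.1
  haveI := hR.2
  have h := kz_map F.mapDerivedCategory (List.ofFn s) []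
    (fun Z hZ => isZero_tensor_of_nilp I V W g hg s hs Z (fun i => hZ _ (by simp [List.mem_ofFn])) F rfl)
    (SiteCmp.inD (O.over V) (ModSite.unit (O.over V))) (fun a ha => absurd ha (List.not_mem_nil))
  refine kz_of_iso ?_ h
  exact (F.mapDerivedCategorySingleFunctor 0).app _ ≪≫
    (DerivedCategory.singleFunctor _ 0).mapIso (_root_.ModSiteLib.unitTensorIso R) ≪≫
    (((ModSite.restr O V).mapDerivedCategorySingleFunctor 0).app _).symm

/-- The restricted tests are orthogonal. -/
theorem orth_restr_away (I : DerComp.IdealSh O) (V W : C) (g : O.obj.obj (op W)) (hg : g ∈ I.ideal W)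
    {r : ℕ} (s : Fin r → DerComp.GSec (O.over V)) (hs : (I.over V).IsGenBy s) :
    Orth (I.over V) ((restrD O V).obj (SiteCmp.inD O (awayMod W g))) :=
  orth_of_kz _ (fun a ha => by
    obtain ⟨i, rfl⟩ := List.mem_ofFn.1 ha
    exact fun Y => hs.1 i Y) _ (kz_restr_away I V W g hg s hs)

/-- Restriction has a right adjoint on derived categories. -/
theorem exists_coRestr (V : C) (L : DerivedCategory (ModSite.Mod (O.over V))) :
    ∃ L' : DerivedCategory (ModSite.Mod O),
      ∀ X, Nonempty (((restrD O V).obj X ⟶ L) ≃ (X ⟶ L')) := by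
  obtain ⟨I, hI, ⟨e⟩⟩ := DerLib.KInjUse.exists_iso_Q_kInjective L
  let G := (ModSite.restr O V).rightAdjoint
  let adj : ModSite.restr O V ⊣ G := Adjunction.ofIsLeftAdjoint _
  haveI : G.Additive := adj.right_adjoint_additive
  let adjH := DerLib.KInjDerived.mapHomotopyCategoryAdj adj (ComplexShape.up ℤ)
  let qV := HomotopyCategory.quotient (ModSite.Mod (O.over V)) (ComplexShape.up ℤ)
  let qC := HomotopyCategory.quotient (ModSite.Mod O) (ComplexShape.up ℤ)
  let GI : CochainComplex (ModSite.Mod O) ℤ := (G.mapHomologicalComplex (ComplexShape.up ℤ)).obj I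
  let eh : ∀ X : CochainComplex (ModSite.Mod O) ℤ,
      (qV.obj (((ModSite.restr O V).mapHomologicalComplex _).obj X) ⟶ qV.obj I) ≃ (qC.obj X ⟶ qC.obj GI) :=
    fun X => (((ModSite.restr O V).mapHomotopyCategoryFactors _).app X).symm.homCongr (Iso.refl _) |>.trans
      ((adjH.homEquiv (qC.obj X) (qV.obj I)).trans
        ((Iso.refl _).homCongr ((G.mapHomotopyCategoryFactors _).app I)))
  haveI : GI.IsKInjective := by
    refine ⟨fun {X} f hX => ⟨HomotopyCategory.homotopyOfEq _ _ ?_⟩⟩
    have hX' : (((ModSite.restr O V).mapHomologicalComplex (ComplexShape.up ℤ)).obj X).Acyclic := fun i =>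
      (hX i).map (ModSite.restr O V)
    haveI : Subsingleton (qV.obj (((ModSite.restr O V).mapHomologicalComplex _).obj X) ⟶ qV.obj I) :=
      ⟨fun a b => by
        obtain ⟨a', rfl⟩ := qV.map_surjective a
        obtain ⟨b', rfl⟩ := qV.map_surjective b
        exact (HomotopyCategory.eq_of_homotopy _ 0 (CochainComplex.IsKInjective.homotopyZero a' hX')).trans
          (HomotopyCategory.eq_of_homotopy _ 0 (CochainComplex.IsKInjective.homotopyZero b' hX')).symm⟩
    haveI := (eh X).symm.subsingleton
    exact Subsingleton.elim _ _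
  refine ⟨DerivedCategory.Q.obj GI, fun Y => ⟨?_⟩⟩
  let X := DerivedCategory.Q.objPreimage Y
  let eY : DerivedCategory.Q.obj X ≅ Y := DerivedCategory.Q.objObjPreimageIso Y
  let bV := Equiv.ofBijective _ (CochainComplex.IsKInjective.Qh_map_bijective
    (qV.obj (((ModSite.restr O V).mapHomologicalComplex _).obj X)) I)
  let bC := Equiv.ofBijective _ (CochainComplex.IsKInjective.Qh_map_bijective (qC.obj X) GI)
  exact (((((restrD O V).mapIso eY).symm ≪≫ (ModSite.restr O V).mapDerivedCategoryFactors.app X ≪≫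
      ((DerivedCategory.quotientCompQhIso _).app _).symm).homCongr
      (e ≪≫ ((DerivedCategory.quotientCompQhIso _).app I).symm)).trans
    (bV.symm.trans ((eh X).trans bC))).trans
      (((DerivedCategory.quotientCompQhIso _).app X ≪≫ eY).homCongr
        ((DerivedCategory.quotientCompQhIso _).app GI))

/-- Restriction preserves orthogonality if it does so on the tests. -/
theorem orth_restr_of_tests (I : DerComp.IdealSh O) (V : C)
    (htest : ∀ (W : C) (g : O.obj.obj (op W)), g ∈ I.ideal W →
      Orth (I.over V) ((restrD O V).obj (SiteCmp.inD O (awayMod W g))))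
    (Z : DerivedCategory (ModSite.Mod O)) (hZ : Orth I Z) :
    Orth (I.over V) ((restrD O V).obj Z) := by
  intro L hL
  obtain ⟨L', hL'⟩ := exists_coRestr V L
  have hc : DerComp.IsDerComp O I L' := fun W g hg n => by
    let T := SiteCmp.inD O (awayMod W g)
    have h1 : Subsingleton (((restrD O V).obj (T⟦-n⟧)) ⟶ L) :=
      orth_of_iso (((restrD O V).commShiftIso (-n)).app T).symm
        (orth_shift (htest W g hg) (-n)) L hL
    have h2 := (hL' (T⟦-n⟧)).some.subsingleton_congr.1 h1
    have h3 := (subsingleton_shift_iff T L' (-n)).1 h2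
    rw [neg_neg] at h3
    exact h3
  exact (hL' Z).some.subsingleton_congr.2 (hZ L' hc)

/-- Restriction to a generated object preserves orthogonality. -/
theorem orth_restr (I : DerComp.IdealSh O) (V : C) {r : ℕ} (s : Fin r → DerComp.GSec (O.over V))
    (hs : (I.over V).IsGenBy s) (Z : DerivedCategory (ModSite.Mod O)) (hZ : Orth I Z) :
    Orth (I.over V) ((restrD O V).obj Z) :=
  orth_restr_of_tests I V (fun W g hg => orth_restr_away I V W g hg s hs) Z hZ

theorem kz_restr_of_orth (I : DerComp.IdealSh O) (V : C) {r : ℕ} (s : Fin r → DerComp.GSec (O.over V))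
    (hs : (I.over V).IsGenBy s) (Z : DerivedCategory (ModSite.Mod O)) (hZ : Orth I Z) :
    KZ (List.ofFn s) ((restrD O V).obj Z) :=
  kz_of_orth (List.ofFn s) []
    (fun Z' h => isDerComp_of_nilp s hs Z' fun i => h _ (by simp [List.mem_ofFn]))
    _ (orth_restr I V s hs Z hZ) (fun a ha => absurd ha (List.not_mem_nil))

theorem isDerComp_restr (I : DerComp.IdealSh O) (V : C) {L : DerivedCategory (ModSite.Mod O)}
    (hL : DerComp.IsDerComp O I L) : DerComp.IsDerComp (O.over V) (I.over V) ((restrD O V).obj L) :=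
  fun Y f hf => (subsingleton_tests_iff Y f _).2
    ((tv_restr_iff Y f L).2 ((subsingleton_tests_iff Y.left f L).1 (hL Y.left f hf)))

theorem isZero_of_restr {G : Set C} (hG : Covering J G) (Z : DerivedCategory (ModSite.Mod O))
    (h : ∀ V ∈ G, IsZero ((restrD O V).obj Z)) : IsZero Z :=
  isZero_of_forall hG Z fun W hW n => by
    let T := SiteCmp.inD (O.over W) (ModSite.unit (O.over W))
    let e : (extZeroD O W).obj T ≅ SiteCmp.inD O (ModSite.freeOn O W) :=
      ((ModSite.extZero O W).mapDerivedCategorySingleFunctor 0).app _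
    refine (e.homCongr (Iso.refl _)).subsingleton_congr.1 (((extRestrAdj O W).homEquiv _ _).subsingleton_congr.2 ?_)
    have hz : IsZero ((restrD O W).obj (Z⟦n⟧)) :=
      ((shiftFunctor _ n).map_isZero (h W hW)).of_iso (((restrD O W).commShiftIso n).app Z)
    exact ⟨fun a b => hz.eq_of_tgt a b⟩

theorem orth_obj₂ {I : DerComp.IdealSh O} {T : Triangle (DerivedCategory (ModSite.Mod O))}
    (hT : T ∈ Pretriangulated.distinguishedTriangles) (h₁ : Orth I T.obj₁) (h₃ : Orth I T.obj₃) :
    Orth I T.obj₂ := fun L hL => ⟨fun a b => sub_eq_zero.1 (by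
  obtain ⟨c, hc⟩ := T.yoneda_exact₂ hT (a - b) ((h₁ L hL).elim _ _)
  haveI := h₃ L hL
  rw [hc, Subsingleton.elim c 0, comp_zero])⟩

/-- The cone of the completion map is orthogonal. -/
theorem orth_cone {I : DerComp.IdealSh O} {X Y Z : DerivedCategory (ModSite.Mod O)} {u : X ⟶ Y}
    {p : Y ⟶ Z} {q : Z ⟶ X⟦(1 : ℤ)⟧} (hT : Triangle.mk u p q ∈ Pretriangulated.distinguishedTriangles)
    (hu : ∀ L, DerComp.IsDerComp O I L → Function.Bijective fun y : Y ⟶ L => u ≫ y) : Orth I Z := by
  intro L hL
  refine ⟨fun a b => sub_eq_zero.1 ?_⟩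
  have h1 : p ≫ (a - b) = 0 := (hu L hL).1 (by
    change u ≫ p ≫ (a - b) = u ≫ 0
    rw [show u ≫ p ≫ (a - b) = (u ≫ p) ≫ (a - b) from (Category.assoc _ _ _).symm,
      show u ≫ p = 0 from Pretriangulated.comp_distTriang_mor_zero₁₂ _ hT, zero_comp, comp_zero])
  obtain ⟨c, hc⟩ := Triangle.yoneda_exact₃ _ hT (a - b) h1
  let adj := (shiftEquiv (DerivedCategory (ModSite.Mod O)) (1 : ℤ)).toAdjunction
  obtain ⟨y, hy⟩ := (hu _ (isDerComp_shift hL (-1))).2 (adj.homEquiv X L c)
  have hc' : c = u⟦(1 : ℤ)⟧' ≫ (adj.homEquiv Y L).symm y := by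
    apply (adj.homEquiv X L).injective
    change _ = adj.homEquiv X L ((shiftFunctor _ (1 : ℤ)).map u ≫ _)
    refine Eq.trans ?_ (adj.homEquiv_naturality_left u ((adj.homEquiv Y L).symm y)).symm
    rw [Equiv.apply_symm_apply]
    exact hy.symm
  rw [hc, hc', ← Category.assoc,
    show (Triangle.mk u p q).mor₃ ≫ u⟦(1 : ℤ)⟧' = 0 from Pretriangulated.comp_distTriang_mor_zero₃₁ _ hT,
    zero_comp]

theorem bijective_toDerCompletion (I : DerComp.IdealSh O) [DerComp.HasDerCompletion O I]
    (Z L : DerivedCategory (ModSite.Mod O)) (hL : DerComp.IsDerComp O I L) :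
    Function.Bijective fun y : ((DerComp.derCompletion O I).obj Z).obj ⟶ L =>
      DerComp.toDerCompletion I Z ≫ y := by
  let L₀ : DerComp.DComp O I := ⟨L, hL⟩
  refine ⟨fun a b h => ?_, fun f => ?_⟩
  · have := ((DerComp.derCompletionAdj O I).homEquiv Z L₀).injective
      (a₁ := ObjectProperty.homMk a) (a₂ := ObjectProperty.homMk b) (by
        rw [Adjunction.homEquiv_unit, Adjunction.homEquiv_unit]; exact h)
    exact congrArg (fun t => ObjectProperty.ι (DerComp.IsDerComp O I) |>.map t) this
  · refine ⟨(((DerComp.derCompletionAdj O I).homEquiv Z L₀).symm f).hom, ?_⟩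
    have := ((DerComp.derCompletionAdj O I).homEquiv Z L₀).apply_symm_apply f
    rw [Adjunction.homEquiv_unit] at this
    exact this

/-- Objects with locally vanishing iterated cones are orthogonal. -/
theorem orth_of_local (I : DerComp.IdealSh O) {G : Set C} (hG : Covering J G)
    (Z : DerivedCategory (ModSite.Mod O))
    (h : ∀ V ∈ G, ∃ (r : ℕ) (s : Fin r → DerComp.GSec (O.over V)), (I.over V).IsGenBy s ∧
      KZ (List.ofFn s) ((restrD O V).obj Z)) : Orth I Z := by
  haveI := hasDerCompletion O I
  obtain ⟨N, p, q, hT⟩ := Pretriangulated.distinguished_cocone_triangle (DerComp.toDerCompletion I Z)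
  have hN : Orth I N := orth_cone hT (fun L hL => bijective_toDerCompletion I Z L hL)
  have hz : IsZero ((DerComp.derCompletion O I).obj Z).obj := by
    refine isZero_of_restr hG _ fun V hV => ?_
    obtain ⟨r, s, hs, hk⟩ := h V hV
    have h2 : Orth (I.over V) ((restrD O V).obj ((DerComp.derCompletion O I).obj Z).obj) :=
      orth_obj₂ ((restrD O V).map_distinguished _ hT)
        (orth_of_kz _ (fun a ha => by
          obtain ⟨i, rfl⟩ := List.mem_ofFn.1 ha
          exact fun Y => hs.1 i Y) _ hk)
        (orth_restr I V s hs N hN)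
    exact (IsZero.iff_id_eq_zero _).2
      ((h2 _ (isDerComp_restr I V ((DerComp.derCompletion O I).obj Z).property)).elim _ _)
  exact fun L hL => ⟨fun a b => by
    obtain ⟨a', rfl⟩ := (bijective_toDerCompletion I Z L hL).2 a
    obtain ⟨b', rfl⟩ := (bijective_toDerCompletion I Z L hL).2 b
    exact congrArg (fun t => DerComp.toDerCompletion I Z ≫ t) (hz.eq_of_src a' b')⟩

/-- A finite type ideal is generated over a covering. -/
theorem covering_gen (I : DerComp.IdealSh O) (hI : I.IsFiniteType) :
    Covering J {V : C | ∃ (r : ℕ) (a : Fin r → O.obj.obj (op V)),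
      (I.over V).IsGenBy fun i => DerComp.GSec.ofSect O V (a i)} := by
  intro X
  obtain ⟨S, hS, h⟩ := hI X
  refine ⟨Σ Y : C, {g : Y ⟶ X // S g}, fun x => x.1, fun x => x.2.1, ?_, fun x => h x.2.1 x.2.2⟩
  refine J.superset_covering ?_ hS
  intro Y g hg
  exact Sieve.ofArrows_mk (Y := fun x : Σ Y : C, {g : Y ⟶ X // S g} => x.1) (fun x => x.2.1) ⟨Y, g, hg⟩

/-- Tests are orthogonal. -/
theorem orth_test (I : DerComp.IdealSh O) (V : C) (f : O.obj.obj (op V)) (hf : f ∈ I.ideal V) :
    Orth I (SiteCmp.inD O (awayMod V f)) := fun L hL => by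
  haveI := hL V f hf 0
  exact (((Iso.refl _).homCongr ((shiftFunctorZero (DerivedCategory (ModSite.Mod O)) ℤ).app L))).symm.subsingleton

/-- Criterion for the map out of the completion. -/
theorem isIso_of_orth (I : DerComp.IdealSh O) [DerComp.HasDerCompletion O I]
    {X : DerivedCategory (ModSite.Mod O)} (L₀ : DerComp.DComp O I) (u : X ⟶ L₀.obj)
    {N : DerivedCategory (ModSite.Mod O)} {p : L₀.obj ⟶ N} {q : N ⟶ X⟦(1 : ℤ)⟧}
    (hT : Triangle.mk u p q ∈ Pretriangulated.distinguishedTriangles) (hN : Orth I N) :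
    IsIso (((DerComp.derCompletionAdj O I).homEquiv X L₀).symm u) := by
  have hu : ∀ L, DerComp.IsDerComp O I L → Function.Bijective fun y : L₀.obj ⟶ L => u ≫ y := by
    intro L hL
    refine ⟨fun a b hab => sub_eq_zero.1 ?_, fun f => ?_⟩
    · obtain ⟨c, hc⟩ := Triangle.yoneda_exact₂ _ hT (a - b)
        (by change u ≫ (a - b) = 0; rw [Preadditive.comp_sub, sub_eq_zero]; exact hab)
      haveI : Subsingleton ((Triangle.mk u p q).obj₃ ⟶ L) := hN L hL
      rw [hc, Subsingleton.elim c 0, comp_zero]
    · obtain ⟨y, hy⟩ := Triangle.yoneda_exact₂ _ (Pretriangulated.inv_rot_of_distTriang _ hT) f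
        ((orth_shift hN (-1) L hL).elim _ _ :)
      exact ⟨y, hy.symm⟩
  let φ := ((DerComp.derCompletionAdj O I).homEquiv X L₀).symm u
  have hφ : DerComp.toDerCompletion I X ≫ φ.hom = u := by
    have := ((DerComp.derCompletionAdj O I).homEquiv X L₀).apply_symm_apply u
    rw [Adjunction.homEquiv_unit] at this
    exact this
  refine isIso_of_coyoneda_map_bijective φ fun L => ?_
  have h1 := hu L.obj L.property
  have h2 := bijective_toDerCompletion I X L.obj L.property
  constructor
  · intro a b hab
    refine ObjectProperty.hom_ext _ (h1.1 ?_)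
    change u ≫ a.hom = u ≫ b.hom
    rw [← hφ, Category.assoc, Category.assoc]
    exact congrArg (DerComp.toDerCompletion I X ≫ ·) (congrArg (fun t => t.hom) hab)
  · intro c
    obtain ⟨y, hy⟩ := h1.2 (DerComp.toDerCompletion I X ≫ c.hom)
    refine ⟨ObjectProperty.homMk y, ObjectProperty.hom_ext _ (h2.1 ?_)⟩
    change DerComp.toDerCompletion I X ≫ φ.hom ≫ y = _
    rw [← Category.assoc, hφ]
    exact hy

end Groth.Agent.DerCompLib
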