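import Groth.Agent.DerCompLib.AffineGlobal
import Groth.Agent.DerCompLib.RestrOrth
import Groth.Agent.KFlatLib.FreeOpen

/-!
# Derived completion over an affine open
-/

set_option autoImplicit false
set_option linter.style.haveILetI false
set_option linter.unusedSectionVars false
set_option backward.isDefEq.respectTransparency false

universe u

open CategoryTheory CategoryTheory.Limits Opposite HomologicalComplex AlgebraicGeometry
open TopologicalSpace
open CategoryTheory.Pretriangulated (Triangle)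
open CochainComplex.HomComplex
attribute [local instance] HasDerivedCategory.standard

noncomputable section

namespace Groth.Agent.DerCompLib

section General

variable {C : Type u} [SmallCategory C] {J : GrothendieckTopology C} {O : Sheaf J CommRingCat.{u}}
  (U : ModSite.Mod O)

/-- `RHom(U, -)` of a map into a complete object with killed cone is a completion. -/
theorem isRefl_gR_of_kz [IsNoetherianRing (DerComp.GSec O)] {I : DerComp.IdealSh O}
    (l : List (DerComp.GSec O))
    (hI : ∀ a ∈ Ideal.span {a | a ∈ l}, ∀ W, a.1 W ∈ I.ideal W)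
    {K L N : DerivedCategory (ModSite.Mod O)} {q : K ⟶ L} {p : L ⟶ N} {r : N ⟶ K⟦(1 : ℤ)⟧}
    (hT : Triangle.mk q p r ∈ Pretriangulated.distinguishedTriangles)
    (hL : DerComp.IsDerComp O I L) (hN : KZ l N) :
    DCompLib.IsRefl (Ideal.span {a | a ∈ l}) ((gR U).map q) := by
  classical
  have hset : (l.toFinset : Set (DerComp.GSec O)) = {a | a ∈ l} := by ext; simp
  refine DCompLib.isRefl_of_triangle ((gR U).map_distinguished _ hT)
    (isDerivedComplete_gR U hL _ hI) ?_
  obtain ⟨B, Z, v, w, t, hS, hB, hZ⟩ := DCompLib.exists_decomp (I := Ideal.span {a | a ∈ l})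
    l (fun f hf => Ideal.subset_span hf) ((gR U).obj N)
  refine DerLib.NilpTest.leftOrthogonal_of_test (R := DerComp.GSec O)
    (DRing.IsDerivedComplete _) l ?_ ?_ hS ?_ hZ
    (fun T hT => subsingleton_hom_gR U l N hN T hT)
  · intro K' hK'
    rw [← hset]
    exact DCompLib.isDerivedComplete_of_nilp l.toFinset fun f hf => hK' f (List.mem_toFinset.1 hf)
  · intro f hf K' hK' hi
    rw [← hset] at hK'
    exact DCompLib.isZero_of_isIso_smul l.toFinset (List.mem_toFinset.2 hf) hK' hi
  · rw [← hset]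
    exact DCompLib.isDerivedComplete_span_iff.2 fun f hf => hB f (List.mem_toFinset.1 hf)

end General

namespace AffineOpen

variable {X : Scheme.{u}} (U : X.Opens)

/-- No classes over an affine open with vanishing cohomology sheaf. -/
theorem subsingleton_free (hU : IsAffineOpen U) (Y : DCoh.D X) (hY : DCoh.IsQCohD Y) (a : ℤ) [Y.IsGE a]
    (h0 : IsZero (DCoh.HD Y 0)) :
    Subsingleton ((DerivedCategory.singleFunctor X.Modules 0).obj (KFlatLib.freeU U) ⟶ Y) := by
  obtain ⟨I, hI, hfl, hge, ⟨e⟩⟩ := QRlimLib.exists_kInjective_bounded Y a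
  haveI := hI
  haveI := hge
  have hq : ∀ q, Coh.IsQCoh (I.homology q) := fun q =>
    have := hY q
    QCohLib.isQCoh_of_iso ((DerivedCategory.homologyFunctor X.Modules q).mapIso e ≪≫
      (DerivedCategory.homologyFunctorFactors X.Modules q).app I)
  have hz0 : IsZero (I.homology 0) := h0.of_iso ((DerivedCategory.homologyFunctor X.Modules 0).mapIso e ≪≫
      (DerivedCategory.homologyFunctorFactors X.Modules 0).app I).symm
  have hE := QRlimLib.affExact hfl a hq hU 0
  refine ((Iso.refl _).homCongr e).subsingleton_congr.2 ?_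
  let F : X.Modules := KFlatLib.freeU U
  let s : DerivedCategory.Q.obj ((single X.Modules (ComplexShape.up ℤ) 0).obj F) ≅
      (DerivedCategory.singleFunctor X.Modules 0).obj F :=
    ((DerivedCategory.singleFunctorIsoCompQ X.Modules 0).app F).symm
  refine _root_.subsingleton_of_forall_eq 0 fun t => ?_
  obtain ⟨f, hf⟩ := DerLib.KInjUse.Q_map_surjective _ I (s.hom ≫ t)
  let x : F ⟶ I.X 0 := (singleObjXSelf (ComplexShape.up ℤ) 0 F).inv ≫ f.f 0
  have hx : x ≫ I.d 0 1 = 0 := by simp [x]
  let ψ : F ⟶ I.cycles 0 := I.liftCycles x 1 (by simp) hx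
  have hz : (I.homologyπ 0).app U (KFlatLib.freeUEquiv U _ ψ) = 0 := by
    rw [← KFlatLib.freeUEquiv_comp, hz0.eq_of_tgt (ψ ≫ I.homologyπ 0) 0,
      ← comp_zero (f := ψ) (Z := I.homology 0), KFlatLib.freeUEquiv_comp]
    rfl
  obtain ⟨w, hw⟩ := hE.exact _ hz
  let h : F ⟶ I.X (0 - 1) := (KFlatLib.freeUEquiv U _).symm w
  have hh : h ≫ I.toCycles (0 - 1) 0 = ψ := by
    apply (KFlatLib.freeUEquiv U _).injective
    rw [KFlatLib.freeUEquiv_comp, Equiv.apply_symm_apply]
    exact hw
  let v : F ⟶ I.X (-1) := h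
  have hv : v ≫ I.d (-1) 0 = x := by
    have := congrArg (· ≫ I.iCycles 0) hh
    simp only [Category.assoc, HomologicalComplex.toCycles_i, ψ, HomologicalComplex.liftCycles_i] at this
    exact this
  let β : Cochain ((CochainComplex.singleFunctor X.Modules 0).obj F) I (-1) :=
    Cochain.fromSingleMk v (zero_add _)
  have hβ : Cochain.ofHom f = δ (-1) 0 β + Cochain.ofHom 0 := by
    rw [Cochain.ofHom_zero, add_zero, Cochain.δ_fromSingleMk _ _ 0 0 (add_zero 0), hv]
    apply (Cochain.fromSingleEquiv (add_zero (0 : ℤ))).injective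
    rw [Cochain.fromSingleEquiv_fromSingleMk]
    simp [Cochain.fromSingleEquiv, x]
  have hq0 := HomotopyCategory.eq_of_homotopy _ _ ((Cochain.equivHomotopy _ _).symm ⟨β, hβ⟩)
  rw [Functor.map_zero] at hq0
  have h5 := DerLib.KInjUse.Q_map_zero_of_quotient hq0
  rw [h5] at hf
  exact (cancel_epi s.hom).1 (hf.symm.trans comp_zero.symm)

/-- The terminal object over `U`. -/
abbrev top' : Over U := Over.mk (𝟙 U)

/-- Value of a global section of `O_U` on `U`. -/
def topHom : DerComp.GSec (X.sheaf.over U) →+* Γ(X, U) where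
  toFun s := s.1 (top' U)
  map_one' := rfl
  map_mul' _ _ := rfl
  map_zero' := rfl
  map_add' _ _ := rfl

theorem bijective_topHom : Function.Bijective (topHom U) := by
  refine ⟨fun s t h => Subtype.ext (funext fun V => ?_), fun r => ⟨DerComp.GSec.ofSect X.sheaf U r, ?_⟩⟩
  · exact (DerComp.GSec.compat s (Over.homMk V.hom : V ⟶ top' U)).symm.trans
      ((congrArg _ h).trans (DerComp.GSec.compat t (Over.homMk V.hom : V ⟶ top' U)))
  · change X.presheaf.map (𝟙 (op U)) r = r
    simp

theorem isNoetherianRing_gSec [IsLocallyNoetherian X] (hU : IsAffineOpen U) :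
    IsNoetherianRing (DerComp.GSec (X.sheaf.over U)) := by
  haveI : IsNoetherianRing Γ(X, U) := IsLocallyNoetherian.component_noetherian ⟨U, hU⟩
  exact isNoetherianRing_of_ringEquiv Γ(X, U) (RingEquiv.ofBijective _ (bijective_topHom U)).symm

/-- Quasi-coherent ideals are generated over affines by their sections. -/
theorem isGenBy_over (hU : IsAffineOpen U) (𝓘 : DerComp.IdealSh X.sheaf)
    (hqc : ∀ (g : Γ(X, U)), 𝓘.ideal (X.basicOpen g) =
      Ideal.map (X.presheaf.map (homOfLE (X.basicOpen_le g)).op).hom (𝓘.ideal U))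
    {r : ℕ} (a : Fin r → Γ(X, U)) (ha : Ideal.span (Set.range a) = 𝓘.ideal U) :
    (𝓘.over U).IsGenBy fun i => DerComp.GSec.ofSect X.sheaf U (a i) := by
  refine ⟨fun i V => 𝓘.map_mem V.hom (ha ▸ Ideal.subset_span ⟨i, rfl⟩), fun I' hI' V f hf => ?_⟩
  let T : Sieve V :=
    { arrows := fun W _ => ∃ g : Γ(X, U), X.basicOpen g ≤ V.left ∧ W.left ≤ X.basicOpen g
      downward_closed := by
        rintro Y Z f ⟨g, h1, h2⟩ k
        exact ⟨g, h1, (leOfHom k.left).trans h2⟩ }
  refine I'.glue T ((GrothendieckTopology.mem_over_iff _ _).2 ?_) fun W k hk => ?_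
  · intro x hx
    obtain ⟨g, hg, hxg⟩ := hU.exists_basicOpen_le ⟨x, hx⟩ ((leOfHom V.hom) hx)
    refine ⟨X.basicOpen g, homOfLE hg, ?_, hxg⟩
    rw [Sieve.overEquiv_iff]
    exact ⟨g, hg, le_rfl⟩
  · obtain ⟨g, hgV, hWg⟩ := hk
    let Dg : Over U := Over.mk (homOfLE (X.basicOpen_le g))
    let i₁ : Dg ⟶ V := Over.homMk (homOfLE hgV) (Subsingleton.elim _ _)
    let i₂ : W ⟶ Dg := Over.homMk (homOfLE hWg) (Subsingleton.elim _ _)
    rw [show k = i₂ ≫ i₁ from Over.OverMorphism.ext (Subsingleton.elim _ _)]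
    rw [op_comp, Functor.map_comp, CommRingCat.comp_apply]
    refine I'.map_mem i₂ ?_
    have h1 : X.presheaf.map (homOfLE hgV).op f ∈ 𝓘.ideal (X.basicOpen g) := 𝓘.map_mem _ hf
    rw [hqc g, ← ha, Ideal.map_span] at h1
    refine (Ideal.span_le.2 ?_ : _ ≤ I'.ideal Dg) h1
    rintro _ ⟨_, ⟨i, rfl⟩, rfl⟩
    exact hI' i Dg

/-- Section of a map out of `O_U`. -/
def secU (M : X.Modules) (φ : ModSite.unit (X.sheaf.over U) ⟶ (ModSite.restr X.sheaf U).obj M) : Γ(M, U) :=
  (((ModSite.restr X.sheaf U).obj M).unitHomEquiv φ).val (op (top' U))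

theorem bijective_secU (M : X.Modules) : Function.Bijective (secU U M) := by
  change Function.Bijective ((fun σ : ((ModSite.restr X.sheaf U).obj M).val.sections =>
    (show Γ(M, U) from σ.val (op (top' U)))) ∘ ((ModSite.restr X.sheaf U).obj M).unitHomEquiv)
  refine (Function.Bijective.of_comp_iff _ (((ModSite.restr X.sheaf U).obj M).unitHomEquiv).bijective).2 ?_
  refine ⟨fun σ τ h => Subtype.ext (funext fun V => ?_), fun x => ⟨PresheafOfModules.sectionsMk
    (fun V => M.presheaf.map (V.unop.hom).op x) (fun V W g => ?_), ?_⟩⟩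
  · have h1 := σ.property (Over.homMk V.unop.hom : V.unop ⟶ top' U).op
    have h2 := τ.property (Over.homMk V.unop.hom : V.unop ⟶ top' U).op
    exact h1.symm.trans ((congrArg _ h).trans h2)
  · exact QCohLib.map_map' M g.unop.left V.unop.hom x
  · change M.presheaf.map (𝟙 (op U)) x = x
    simp

theorem finite_sections [IsLocallyNoetherian X] (hU : IsAffineOpen U) (M : X.Modules) (hM : Coh.IsCoh M) :
    Module.Finite (DerComp.GSec (X.sheaf.over U))
      (ModSite.unit (X.sheaf.over U) ⟶ (ModSite.restr X.sheaf U).obj M) := by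
  haveI := hM.1
  let E : (ModSite.unit (X.sheaf.over U) ⟶ (ModSite.restr X.sheaf U).obj M) → Γ(M, U) := secU U M
  have hEadd : ∀ φ ψ, E (φ + ψ) = E φ + E ψ := fun φ ψ => rfl
  have hEsmul : ∀ (s : DerComp.GSec (X.sheaf.over U)) φ, E (s • φ) = topHom U s • E φ := fun s φ => by
    rw [DerComp.smul_def, DerComp.smulEnd_comm]
    rfl
  obtain ⟨T, hT⟩ : (⊤ : Submodule Γ(X, U) Γ(M, U)).FG := (QCohLib.finite_of_isFT hM.2 hU).fg_top
  classical
  choose g hg using (bijective_secU U M).2
  have hinj := (bijective_secU U M).1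
  refine ⟨⟨T.image g, eq_top_iff.2 fun t _ => ?_⟩⟩
  suffices H : ∀ v, v ∈ Submodule.span Γ(X, U) (T : Set Γ(M, U)) →
      g v ∈ Submodule.span (DerComp.GSec (X.sheaf.over U)) ((T.image g : Finset _) :
        Set (ModSite.unit (X.sheaf.over U) ⟶ (ModSite.restr X.sheaf U).obj M)) by
    have h2 := H (E t) (hT.symm ▸ Submodule.mem_top)
    rwa [show g (E t) = t from hinj (hg _)] at h2
  intro v hv
  induction hv using Submodule.span_induction with
  | mem v hv => exact Submodule.subset_span (Finset.mem_coe.2 (Finset.mem_image_of_mem g hv))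
  | zero =>
    rw [show g 0 = 0 from hinj ((hg 0).trans rfl)]
    exact zero_mem _
  | add v w _ _ ihv ihw =>
    rw [show g (v + w) = g v + g w from
      hinj ((hg _).trans ((hEadd _ _).trans (congrArg₂ (· + ·) (hg v) (hg w))).symm)]
    exact add_mem ihv ihw
  | smul r v _ ih =>
    obtain ⟨s, rfl⟩ := (bijective_topHom U).2 r
    rw [show g (topHom U s • v) = s • g v from
      hinj ((hg _).trans ((hEsmul s _).trans (congrArg (topHom U s • ·) (hg v))).symm)]
    exact Submodule.smul_mem _ _ ih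

theorem isQCohD_single (F : X.Modules) (hF : Coh.IsQCoh F) :
    DCoh.IsQCohD ((DerivedCategory.singleFunctor X.Modules 0).obj F) := fun m => by
  by_cases hm : m = 0
  · subst hm
    exact @QCohLib.isQCoh_of_iso _ _ _
      ((DerivedCategory.singleFunctorCompHomologyFunctorIso X.Modules 0).app F).symm hF
  · rcases lt_or_gt_of_ne hm with h | h
    · exact KFlatLib.isQCoh_zero (DerivedCategory.isZero_of_isGE _ 0 m h)
    · exact KFlatLib.isQCoh_zero (DerivedCategory.isZero_of_isLE _ 0 m h)

/-- Transfer of classes along `j_! ⊣ j^*`. -/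
def resHomEquiv (K : DerivedCategory (ModSite.Mod X.sheaf)) :
    (SiteCmp.inD (X.sheaf.over U) (ModSite.unit (X.sheaf.over U)) ⟶ (restrD X.sheaf U).obj K) ≃
      (SiteCmp.inD X.sheaf (ModSite.freeOn X.sheaf U) ⟶ K) :=
  ((extRestrAdj X.sheaf U).homEquiv _ _).symm.trans
    ((((ModSite.extZero X.sheaf U).mapDerivedCategorySingleFunctor 0).app _).homCongr (Iso.refl _))

theorem subsingleton_classes (hU : IsAffineOpen U) (F : X.Modules) (hF : Coh.IsQCoh F) (i : ℤ) (hi : i ≠ 0) :
    Subsingleton (SiteCmp.inD X.sheaf (ModSite.freeOn X.sheaf U) ⟶ (SiteCmp.inD X.sheaf F)⟦i⟧) := by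
  let Y : DCoh.D X := (shiftFunctor (DCoh.D X) i).obj ((DerivedCategory.singleFunctor X.Modules 0).obj F)
  let e := fun m => ((DerivedCategory.homologyFunctor X.Modules 0).shiftIso i m (i + m) rfl).app
    ((DerivedCategory.singleFunctor X.Modules 0).obj F)
  haveI : Y.IsGE (-i) := DerivedCategory.TStructure.t.isGE_shift
    ((DerivedCategory.singleFunctor X.Modules 0).obj F) 0 i (-i) (by omega)
  exact subsingleton_free U hU Y
    (fun m => @QCohLib.isQCoh_of_iso _ _ _ (e m).symm (isQCohD_single F hF (i + m))) (-i) (by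
    refine IsZero.of_iso ?_ (e 0)
    rcases lt_or_gt_of_ne (show i + 0 ≠ 0 by omega) with h | h
    · exact DerivedCategory.isZero_of_isGE _ 0 _ h
    · exact DerivedCategory.isZero_of_isLE _ 0 _ h)

end AffineOpen

end Groth.Agent.DerCompLib
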