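import Groth.Agent.ModSiteLib.FreeOn
import Groth.Agent.ModSiteLib.FlatFree
import Groth.Agent.ModSiteLib.FlatExact
import Groth.Agent.ModSiteLib.Grothendieck
import Groth.Agent.FreeResLib.Site
import Groth.Prelude.Def_DerComp

/-!
# The modules `j_! O_{U,g}`
-/

set_option autoImplicit false
set_option linter.style.haveILetI false
set_option linter.unusedSectionVars false
set_option backward.isDefEq.respectTransparency false

universe u

open CategoryTheory CategoryTheory.Limits Opposite

namespace Groth.Agent.DerCompLib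

variable {C : Type u} [SmallCategory C] {J : GrothendieckTopology C} {O : Sheaf J CommRingCat.{u}}
  (V : C) (g : O.obj.obj (op V))

/-- `j_! O_{V,g}`. -/
noncomputable abbrev awayMod : ModSite.Mod O :=
  (ModSite.extZero O V).obj (DerComp.awayOver O V g)

/-- The section `g` in the ring acting on sections over `V`. -/
abbrev scal : (ModSite.ringSh O).obj.obj (op V) := g

/-- Sequences of sections `x n = g x (n+1)`. -/
abbrev AwaySeq (M : ModSite.Mod O) : Type u :=
  {x : ℕ → M.val.obj (op V) // ∀ n, x n = scal V g • x (n + 1)}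

/-- Maps from the structure sheaf of `C/V` are sections over `V`. -/
noncomputable abbrev unitEquiv (M : ModSite.Mod O) :
    (ModSite.unit (O.over V) ⟶ (ModSite.restr O V).obj M) ≃ M.val.obj (op V) :=
  ((ModSite.restr O V).obj M).unitHomEquiv.trans (ModSiteLib.overSectionsEquiv M V)

theorem unitEquiv_smulEnd (M : ModSite.Mod O)
    (a : ModSite.unit (O.over V) ⟶ (ModSite.restr O V).obj M) :
    unitEquiv V M (DerComp.smulEnd (DerComp.GSec.ofSect O V g) _ ≫ a) = scal V g • unitEquiv V M a := by
  let X : (Over V)ᵒᵖ := op (Over.mk (𝟙 V))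
  change (a.val.app X).hom (DerComp.GSec.val' (DerComp.GSec.ofSect O V g) X •
    (show (ModSite.unit (O.over V)).val.obj X from (1 : (ModSite.ringSh (O.over V)).obj.obj X))) =
      scal V g • (a.val.app X).hom (show (ModSite.unit (O.over V)).val.obj X from (1 : (ModSite.ringSh (O.over V)).obj.obj X))
  refine ((a.val.app X).hom.map_smul _ _).trans ?_
  congr 1
  change (O.obj.map (𝟙 V).op).hom g = g
  rw [op_id, CategoryTheory.Functor.map_id]
  rfl

/-- Maps out of the cokernel of `awayMap`. -/
noncomputable def locAwayEquiv {O' : Sheaf J CommRingCat.{u}} (s : DerComp.GSec O') (F N : ModSite.Mod O') :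
    (DerComp.locAway s F ⟶ N) ≃
      {φ : ℕ → (F ⟶ N) // ∀ n, φ n = DerComp.smulEnd s F ≫ φ (n + 1)} where
  toFun a := ⟨fun n => Sigma.ι (fun _ : ℕ => F) n ≫ cokernel.π _ ≫ a, fun n => by
    have h := congrArg (fun t => Sigma.ι (fun _ : ℕ => F) n ≫ t ≫ a)
      (cokernel.condition (DerComp.awayMap s F))
    simp only [DerComp.awayMap, Category.assoc, Sigma.ι_desc_assoc, Preadditive.sub_comp,
      zero_comp, comp_zero, sub_eq_zero] at h
    exact h⟩
  invFun φ := cokernel.desc _ (Sigma.desc φ.1) (Limits.Sigma.hom_ext _ _ fun n => by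
    simp only [DerComp.awayMap, Sigma.ι_desc_assoc, Preadditive.sub_comp, Category.assoc,
      Sigma.ι_desc, comp_zero, sub_eq_zero]
    exact φ.2 n)
  left_inv a := by
    apply coequalizer.hom_ext
    exact Limits.Sigma.hom_ext _ _ fun n => by simp
  right_inv φ := Subtype.ext (funext fun n => by simp)

/-- Maps out of `j_! O_{V,g}`. -/
noncomputable def awayEquiv (M : ModSite.Mod O) : (awayMod V g ⟶ M) ≃ AwaySeq V g M :=
  ((ModSite.extZeroAdj O V).homEquiv _ M).trans
    ((locAwayEquiv (O' := O.over V) (DerComp.GSec.ofSect O V g) _ _).trans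
      ((Equiv.piCongrRight fun _ : ℕ => unitEquiv V M).subtypeEquiv fun φ => by
        refine forall_congr' fun n => ?_
        change φ n = _ ↔ unitEquiv V M (φ n) = scal V g • unitEquiv V M (φ (n + 1))
        rw [← unitEquiv_smulEnd]
        exact (unitEquiv V M).injective.eq_iff.symm))

theorem awayEquiv_comp {M N : ModSite.Mod O} (a : awayMod V g ⟶ M) (p : M ⟶ N) (n : ℕ) :
    (awayEquiv V g N (a ≫ p)).1 n = (p.val.app (op V)).hom ((awayEquiv V g M a).1 n) := by
  change unitEquiv V N (Sigma.ι (fun _ : ℕ => ModSite.unit (O.over V)) n ≫ cokernel.π (DerComp.awayMap (DerComp.GSec.ofSect O V g) _) ≫ (ModSite.extZeroAdj O V).homEquiv _ N (a ≫ p)) =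
    (p.val.app (op V)).hom (unitEquiv V M (Sigma.ι (fun _ : ℕ => ModSite.unit (O.over V)) n ≫ cokernel.π (DerComp.awayMap (DerComp.GSec.ofSect O V g) _) ≫
      (ModSite.extZeroAdj O V).homEquiv _ M a))
  rw [(ModSite.extZeroAdj O V).homEquiv_naturality_right]
  simp only [← Category.assoc]
  simp only [unitEquiv, Equiv.trans_apply, SheafOfModules.unitHomEquiv_comp_apply]
  rfl

/-- Multiplication by `g` on `j_! O_V`. -/
noncomputable def mulFree : ModSite.freeOn O V ⟶ ModSite.freeOn O V :=
  (ModSiteLib.freeOnEquiv (ModSite.freeOn O V) V).symm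
    (scal V g • ModSiteLib.freeOnEquiv (ModSite.freeOn O V) V (𝟙 _))

theorem freeOnEquiv_mulFree (M : ModSite.Mod O) (a : ModSite.freeOn O V ⟶ M) :
    ModSiteLib.freeOnEquiv M V (mulFree V g ≫ a) = scal V g • ModSiteLib.freeOnEquiv M V a := by
  rw [ModSiteLib.freeOnEquiv_comp, mulFree, Equiv.apply_symm_apply]
  refine ((a.val.app (op V)).hom.map_smul _ _).trans ?_
  conv_rhs => rw [← Category.id_comp a, ModSiteLib.freeOnEquiv_comp]

/-- The telescope of `j_! O_V`. -/
noncomputable abbrev tower : ℕ ⥤ ModSite.Mod O :=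
  Functor.ofSequence (X := fun _ => ModSite.freeOn O V) fun _ => mulFree V g

/-- Sequences from cocones on the tower. -/
theorem seq_of_cocone (M : ModSite.Mod O) (φ : ℕ → (ModSite.freeOn O V ⟶ M))
    (hφ : ∀ n, φ n = mulFree V g ≫ φ (n + 1)) (n : ℕ) :
    ModSiteLib.freeOnEquiv M V (φ n) = scal V g • ModSiteLib.freeOnEquiv M V (φ (n + 1)) := by
  rw [← freeOnEquiv_mulFree, ← hφ]

/-- The cocone of a sequence. -/
noncomputable def seqCocone (M : ModSite.Mod O) (φ : ℕ → (ModSite.freeOn O V ⟶ M))
    (hφ : ∀ n, φ n = mulFree V g ≫ φ (n + 1)) : Cocone (tower V g) :=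
  Cocone.mk M (NatTrans.ofSequence (F := tower V g) φ fun n => by
    rw [Functor.ofSequence_map_homOfLE_succ]
    exact ((hφ n).symm).trans (Category.comp_id _).symm)

theorem ι_rel (n : ℕ) :
    colimit.ι (tower V g) n = mulFree V g ≫ colimit.ι (tower V g) (n + 1) := by
  rw [← colimit.w (tower V g) (homOfLE n.le_succ)]
  congr 1
  exact Functor.ofSequence_map_homOfLE_succ (X := fun _ => ModSite.freeOn O V) (fun _ => mulFree V g) n

/-- Maps out of the colimit of the tower. -/
noncomputable def towerEquiv (M : ModSite.Mod O) : (colimit (tower V g) ⟶ M) ≃ AwaySeq V g M where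
  toFun a := ⟨fun n => ModSiteLib.freeOnEquiv M V (colimit.ι (tower V g) n ≫ a),
    seq_of_cocone V g M _ fun n => ((congrArg (· ≫ a) (ι_rel V g n)).trans (Category.assoc _ _ _))⟩
  invFun x := colimit.desc (tower V g) (seqCocone V g M
    (fun n => (ModSiteLib.freeOnEquiv M V).symm (x.1 n)) fun n => by
      apply (ModSiteLib.freeOnEquiv M V).injective
      rw [freeOnEquiv_mulFree, Equiv.apply_symm_apply, Equiv.apply_symm_apply]
      exact x.2 n)
  left_inv a := colimit.hom_ext fun n =>
    (colimit.ι_desc _ n).trans ((ModSiteLib.freeOnEquiv M V).symm_apply_apply _)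
  right_inv x := Subtype.ext (funext fun n =>
    (congrArg (ModSiteLib.freeOnEquiv M V) (colimit.ι_desc _ n)).trans
      ((ModSiteLib.freeOnEquiv M V).apply_symm_apply _))

theorem towerEquiv_comp {M N : ModSite.Mod O} (a : colimit (tower V g) ⟶ M) (p : M ⟶ N) (n : ℕ) :
    (towerEquiv V g N (a ≫ p)).1 n = (p.val.app (op V)).hom ((towerEquiv V g M a).1 n) :=
  (congrArg (ModSiteLib.freeOnEquiv N V) (Category.assoc _ _ _).symm).trans
    (ModSiteLib.freeOnEquiv_comp V _ p)

attribute [irreducible] awayEquiv towerEquiv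

/-- `j_! O_{V,g}` as the telescope. -/
noncomputable def towerIso : colimit (tower V g) ≅ awayMod V g :=
  ModSiteLib.isoOfHomEquiv (fun M => (towerEquiv V g M).trans (awayEquiv V g M).symm) fun {M N} a p => by
    apply (awayEquiv V g N).injective
    refine ((awayEquiv V g N).apply_symm_apply _).trans ?_
    refine Subtype.ext (funext fun n => ?_)
    rw [towerEquiv_comp, awayEquiv_comp]
    simp only [Equiv.trans_apply, Equiv.apply_symm_apply]

theorem isFlat_awayMod : ModSite.IsFlat (awayMod V g) := by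
  haveI : HasExactColimitsOfShape (AsSmall.{u} ℕ) (ModSite.Mod O) := AB5OfSize.ofShape _
  let E : AsSmall.{u} ℕ ≌ ℕ := (AsSmall.equiv (C := ℕ)).symm
  have hc : IsColimit ((colimit.cocone (tower V g)).whisker E.functor) :=
    (colimit.isColimit (tower V g)).whiskerEquivalence E
  have h1 : ModSite.IsFlat ((colimit.cocone (tower V g)).whisker E.functor).pt :=
    ModSiteLib.isFlat_of_isColimit (E.functor ⋙ tower V g)
      (fun _ => ModSiteLib.isFlat_freeOn O V) hc
  exact ModSiteLib.isFlat_of_iso O (towerIso V g) h1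

variable {D : Type u} [SmallCategory D] {K : GrothendieckTopology D} {O_D : Sheaf K CommRingCat.{u}}
  (f : ModSite.RMor O O_D)

/-- The image of a section under the structure map. -/
abbrev sharpSect (W : D) (h : O_D.obj.obj (op W)) : O.obj.obj (op (f.fn.obj W)) :=
  (f.sharp.hom.app (op W)).hom h

/-- Sequences in a direct image are sequences upstairs. -/
def pushSeqEquiv (W : D) (h : O_D.obj.obj (op W)) (M : ModSite.Mod O) :
    AwaySeq W h (f.push.obj M) ≃ AwaySeq (f.fn.obj W) (sharpSect f W h) M where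
  toFun x := ⟨x.1, x.2⟩
  invFun x := ⟨x.1, x.2⟩
  left_inv _ := rfl
  right_inv _ := rfl

/-- `f^* j_! O_{W,h} = j_! O_{fW, f♯h}`. -/
noncomputable def pullAwayIso (W : D) (h : O_D.obj.obj (op W)) :
    f.pull.obj (awayMod W h) ≅ awayMod (f.fn.obj W) (sharpSect f W h) :=
  ModSiteLib.isoOfHomEquiv
    (fun M => (((f.adj.homEquiv _ M).trans (awayEquiv W h (f.push.obj M))).trans
      (pushSeqEquiv f W h M)).trans (awayEquiv (f.fn.obj W) (sharpSect f W h) M).symm)
    fun {M N} a p => by
      apply (awayEquiv (f.fn.obj W) (sharpSect f W h) N).injective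
      refine ((awayEquiv _ _ N).apply_symm_apply _).trans ?_
      refine Subtype.ext (funext fun n => ?_)
      simp only [Equiv.trans_apply]
      rw [f.adj.homEquiv_naturality_right]
      show (awayEquiv W h (f.push.obj N) _).1 n = _
      rw [awayEquiv_comp]
      refine Eq.trans ?_ (awayEquiv_comp (f.fn.obj W) (sharpSect f W h) _ p n).symm
      rw [Equiv.apply_symm_apply]
      rfl

end Groth.Agent.DerCompLib
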