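import Groth.Agent.ModSiteLib.PullKFlat
import Groth.Agent.ModSiteLib.Grothendieck
import Groth.Agent.DerLib.KInjEnough
import Groth.Agent.DerLib.KInjUse
import Groth.Agent.ModCohLib.Push
import Groth.Prelude.Def_SiteCmp
import Mathlib.CategoryTheory.Adjunction.PartialAdjoint

/-!
# The left adjoint `Lf^*` of `Rf_*` for a morphism of ringed sites
-/

set_option autoImplicit false
set_option linter.style.haveILetI false
set_option backward.isDefEq.respectTransparency false

universe u

open CategoryTheory CategoryTheory.Limits Opposite HomologicalComplex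

attribute [local instance] HasDerivedCategory.standard

namespace Groth.Agent.DerCompLib


variable {C : Type u} [SmallCategory C] {J : GrothendieckTopology C} {O : Sheaf J CommRingCat.{u}}
  {D : Type u} [SmallCategory D] {K : GrothendieckTopology D} {O_D : Sheaf K CommRingCat.{u}}
  (f : ModSite.RMor O O_D)

open _root_.ModSiteLib in
/-- The inverse image of an acyclic K-flat complex of flat modules is acyclic. -/
theorem acy_pull {L : CochainComplex (ModSite.Mod O_D) ℤ} (hL : ModSite.IsKFlat L)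
    (hfl : ∀ n, ModSite.IsFlat (L.X n)) (hac : _root_.ModSiteLib.Acy L) :
    Acy ((pullCx f).obj L) := by
  intro n
  have hZ := fun n => isFlat_cycles hL hac hfl n
  have hS : ∀ m, (ShortComplex.mk (L.iCycles m) (L.toCycles m (m + 1))
      (by rw [← cancel_mono (L.iCycles (m + 1)), Category.assoc, toCycles_i, iCycles_d, zero_comp])
      ).ShortExact := fun m =>
    { mono_f := inferInstanceAs (Mono (L.iCycles m))
      exact := by
        rw [ShortComplex.exact_iff_exact_up_to_refinements]
        intro T x hx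
        change x ≫ L.toCycles m (m + 1) = 0 at hx
        refine ⟨T, 𝟙 T, inferInstance, L.liftCycles x (m + 1) (by simp) ?_, ?_⟩
        · rw [← L.toCycles_i m (m + 1), ← Category.assoc, hx, zero_comp]
        · exact (Category.id_comp x).trans (L.liftCycles_i x (m + 1) _ _).symm
      epi_g := by
        show Epi (L.toCycles m (m + 1))
        refine Preadditive.epi_of_cancel_zero _ fun {P} g hg => ?_
        obtain ⟨l, hl⟩ := CokernelCofork.IsColimit.desc' (L.homologyIsCokernel m (m + 1) (by simp)) g hg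
        rw [← hl, Cofork.π_ofπ, (hac (m + 1)).eq_of_src l 0, comp_zero] }
  have hP := fun m => shortExact_pull f (hS m) (hZ (m + 1))
  refine (exactAt_iff_isZero_homology _ n).1 ((exactAt_iff' _ (n - 1) n (n + 1) (by simp) (by simp)).2 ?_)
  rw [ShortComplex.exact_iff_exact_up_to_refinements]
  intro T x hx
  haveI := (hP n).mono_f
  haveI : Mono (f.pull.map (L.iCycles (n + 1))) := (hP (n + 1)).mono_f
  have hx' : x ≫ f.pull.map (L.toCycles n (n + 1)) = 0 := by
    rw [← cancel_mono (f.pull.map (L.iCycles (n + 1))), Category.assoc, ← f.pull.map_comp, toCycles_i,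
      zero_comp]
    exact hx
  obtain ⟨y, hy⟩ := KernelFork.IsLimit.lift' (hP n).fIsKernel x hx'
  haveI : Epi (f.pull.map (L.toCycles (n - 1) n)) := by
    have := (hP (n - 1)).epi_g
    change Epi (f.pull.map (L.toCycles (n - 1) (n - 1 + 1))) at this
    have e : n - 1 + 1 = n := by omega
    rw [e] at this
    exact this
  obtain ⟨T', π, hπ, z, hz⟩ := surjective_up_to_refinements_of_epi (f.pull.map (L.toCycles (n - 1) n)) y
  refine ⟨T', π, hπ, z, ?_⟩
  rw [← show y ≫ f.pull.map (L.iCycles n) = x from hy, ← Category.assoc, hz, Category.assoc]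
  exact congrArg (z ≫ ·) ((f.pull.map_comp _ _).symm.trans (congrArg _ (L.toCycles_i (n - 1) n)))

/-- The inverse image preserves quasi-isomorphisms between K-flat complexes of flat modules. -/
theorem quasiIso_pull {P Q : CochainComplex (ModSite.Mod O_D) ℤ} (t : P ⟶ Q) (hP : ModSite.IsKFlat P)
    (hQ : ModSite.IsKFlat Q) (hPf : ∀ n, ModSite.IsFlat (P.X n)) (hQf : ∀ n, ModSite.IsFlat (Q.X n))
    (ht : QuasiIso t) : QuasiIso ((_root_.ModSiteLib.pullCx f).map t) := by
  have hc := acy_pull f ((_root_.ModSiteLib.isKFlat_cone_three t).1 hP hQ)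
    (fun n => _root_.ModSiteLib.isFlat_of_iso O_D
      (HomologicalComplex.homotopyCofiber.XIsoBiprod t n (n + 1) rfl).symm
      (_root_.ModSiteLib.isFlat_biprod (hPf _) (hQf n)))
    (_root_.ModSiteLib.acy_mappingCone t ht)
  have : (CochainComplex.mappingCone ((_root_.ModSiteLib.pullCx f).map t)).Acyclic :=
    _root_.ModSiteLib.acy_acyclic.2
      (_root_.ModSiteLib.acy_of_iso (CochainComplex.mappingCone.mapHomologicalComplexIso t f.pull) hc)
  rw [← HomologicalComplex.mem_quasiIso_iff,
    ← HomotopyCategory.quotient_map_mem_quasiIso_iff,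
    HomotopyCategory.quasiIso_eq_trW_subcategoryAcyclic]
  refine ((HomotopyCategory.subcategoryAcyclic _).trW_iff_of_distinguished _
    (HomotopyCategory.mappingCone_triangleh_distinguished _)).2 ?_
  exact (HomotopyCategory.quotient_obj_mem_subcategoryAcyclic_iff_acyclic _).2 this

/-- K-flat resolutions with flat terms. -/
theorem exists_flat_resolution (G : CochainComplex (ModSite.Mod O_D) ℤ) :
    ∃ (P : CochainComplex (ModSite.Mod O_D) ℤ) (q : P ⟶ G), ModSite.IsKFlat P ∧
      (∀ n, ModSite.IsFlat (P.X n)) ∧ QuasiIso q := by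
  letI := HasZeroObject.zero' (CochainComplex (ModSite.Mod O_D) ℤ)
  let Z : CochainComplex (ModSite.Mod O_D) ℤ := 0
  let g : Z ⟶ G := 0
  have hz : ∀ n, IsZero (Z.X n) := fun n =>
    (HomologicalComplex.eval _ (ComplexShape.up ℤ) n).map_isZero (isZero_zero _)
  exact ⟨FreeResLib.mid (FreeResLib.siteCov O_D) g, FreeResLib.midπ _ g,
    _root_.ModSiteLib.isKFlat_mid g (_root_.ModSiteLib.isKFlat_of_isZero (isZero_zero _)),
    _root_.ModSiteLib.isFlat_mid g (fun m => _root_.ModSiteLib.isFlat_of_isZero (hz m)),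
    FreeResLib.quasiIso_midπ _ g⟩

variable {P : CochainComplex (ModSite.Mod O_D) ℤ}

/-- Direct image of complexes. -/
noncomputable abbrev pushCx : CochainComplex (ModSite.Mod O) ℤ ⥤ CochainComplex (ModSite.Mod O_D) ℤ :=
  f.push.mapHomologicalComplex (ComplexShape.up ℤ)

/-- The adjunction on homotopy categories. -/
noncomputable abbrev adjH :
    f.pull.mapHomotopyCategory (ComplexShape.up ℤ) ⊣ f.push.mapHomotopyCategory (ComplexShape.up ℤ) :=
  DerLib.KInjDerived.mapHomotopyCategoryAdj f.adj (ComplexShape.up ℤ)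

/-- A K-flat complex of flat modules sees `f_*` of a K-injective complex as K-injective. -/
theorem bijective_Qh_map (hP : ModSite.IsKFlat P) (hPf : ∀ n, ModSite.IsFlat (P.X n))
    (I : CochainComplex (ModSite.Mod O) ℤ) [I.IsKInjective] :
    Function.Bijective (DerivedCategory.Qh.map :
      ((HomotopyCategory.quotient (ModSite.Mod O_D) _).obj P ⟶
        (HomotopyCategory.quotient (ModSite.Mod O_D) _).obj ((pushCx f).obj I)) → _) := by
  let q := HomotopyCategory.quotient (ModSite.Mod O_D) (ComplexShape.up ℤ)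
  let W := (HomotopyCategory.subcategoryAcyclic (ModSite.Mod O_D)).trW
  let G := f.pull.mapHomotopyCategory (ComplexShape.up ℤ)
  let qC := HomotopyCategory.quotient (ModSite.Mod O) (ComplexShape.up ℤ)
  have refine₀ : ∀ {Z : HomotopyCategory (ModSite.Mod O_D) (ComplexShape.up ℤ)} (s : Z ⟶ q.obj P),
      W s → ∃ (P' : CochainComplex (ModSite.Mod O_D) ℤ) (w : q.obj P' ⟶ Z),
        W (w ≫ s) ∧ IsIso (DerivedCategory.Qh.map (G.map (w ≫ s))) := by
    intro Z s hs
    obtain ⟨P', t, hP', hP'f, ht⟩ := exists_flat_resolution Z.as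
    obtain ⟨s', hs'⟩ := q.map_surjective (q.map t ≫ s)
    refine ⟨P', q.map t, ?_⟩
    have hW : W (q.map t ≫ s) := by
      refine MorphismProperty.comp_mem _ _ _ ?_ hs
      rw [show W = HomotopyCategory.quasiIso _ _ from
        (HomotopyCategory.quasiIso_eq_trW_subcategoryAcyclic _).symm,
        HomotopyCategory.quotient_map_mem_quasiIso_iff]
      exact (HomologicalComplex.mem_quasiIso_iff _).2 ht
    refine ⟨hW, ?_⟩
    have hq : QuasiIso s' := by
      rw [← HomologicalComplex.mem_quasiIso_iff, ← HomotopyCategory.quotient_map_mem_quasiIso_iff,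
        HomotopyCategory.quasiIso_eq_trW_subcategoryAcyclic]
      rwa [hs']
    rw [← hs']
    have h1 := quasiIso_pull f s' hP' hP hP'f hPf hq
    exact Localization.inverts DerivedCategory.Qh (HomotopyCategory.quasiIso _ _) _
      ((HomotopyCategory.quotient_map_mem_quasiIso_iff _).2 ((HomologicalComplex.mem_quasiIso_iff _).2 h1))
  have hbij : ∀ X : HomotopyCategory (ModSite.Mod O) (ComplexShape.up ℤ),
      Function.Bijective (DerivedCategory.Qh.map : (X ⟶ qC.obj I) → _) := fun X =>
    CochainComplex.IsKInjective.Qh_map_bijective X I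
  constructor
  · intro a b hab
    obtain ⟨Z, s, hs, hsab⟩ := (MorphismProperty.map_eq_iff_precomp DerivedCategory.Qh W a b).1 hab
    obtain ⟨P', w, -, hiso⟩ := refine₀ s hs
    apply ((adjH f).homEquiv _ _).symm.injective
    apply (hbij _).1
    rw [← cancel_epi (DerivedCategory.Qh.map (G.map (w ≫ s))), ← Functor.map_comp, ← Functor.map_comp]
    congr 1
    erw [← Adjunction.homEquiv_naturality_left_symm, ← Adjunction.homEquiv_naturality_left_symm]
    rw [Category.assoc, hsab, ← Category.assoc]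
  · intro u
    obtain ⟨φ, hφ⟩ := Localization.exists_rightFraction DerivedCategory.Qh W u
    obtain ⟨P', w, hW, hiso⟩ := refine₀ φ.s φ.hs
    let gb := ((adjH f).homEquiv _ _).symm (w ≫ φ.f)
    obtain ⟨hb, hhb⟩ := (hbij _).2 (inv (DerivedCategory.Qh.map (G.map (w ≫ φ.s))) ≫
      DerivedCategory.Qh.map gb)
    refine ⟨(adjH f).homEquiv _ _ hb, ?_⟩
    have h1 : G.map (w ≫ φ.s) ≫ hb = gb := (hbij _).1 (by
      rw [Functor.map_comp, hhb, IsIso.hom_inv_id_assoc])
    have h2 : (w ≫ φ.s) ≫ (adjH f).homEquiv _ _ hb = w ≫ φ.f := by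
      rw [← Adjunction.homEquiv_naturality_left]
      exact (congrArg _ h1).trans (Equiv.apply_symm_apply _ _)
    haveI : IsIso (DerivedCategory.Qh.map (w ≫ φ.s)) := Localization.inverts DerivedCategory.Qh W _ hW
    rw [← cancel_epi (DerivedCategory.Qh.map (w ≫ φ.s))]
    refine ((Functor.map_comp _ _ _).symm.trans (congrArg DerivedCategory.Qh.map h2)).trans ?_
    rw [Functor.map_comp, Functor.map_comp, Category.assoc, hφ,
      MorphismProperty.RightFraction.map_s_comp_map]

variable [SiteCmp.HasRpushD f]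

/-- The unit of `Rf_*`. -/
noncomputable abbrev rpushUnit := (SiteCmp.pushKh f).totalRightDerivedUnit DerivedCategory.Qh
  (HomotopyCategory.quasiIso (ModSite.Mod O) (ComplexShape.up ℤ))

/-- The value of `Rf_*` on a K-injective complex. -/
noncomputable abbrev rIso (I : CochainComplex (ModSite.Mod O) ℤ) [I.IsKInjective] :
    (SiteCmp.RpushD f).obj (DerivedCategory.Q.obj I) ≅ DerivedCategory.Q.obj ((pushCx f).obj I) :=
  ModCohLib.rpushQIso f (SiteCmp.RpushD f) (rpushUnit f) I

omit [SiteCmp.HasRpushD f] in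
theorem adjH_homEquiv_map {P : CochainComplex (ModSite.Mod O_D) ℤ} {I : CochainComplex (ModSite.Mod O) ℤ}
    (a : (_root_.ModSiteLib.pullCx f).obj P ⟶ I) :
    (adjH f).homEquiv ((HomotopyCategory.quotient _ (ComplexShape.up ℤ)).obj P)
        ((HomotopyCategory.quotient _ (ComplexShape.up ℤ)).obj I)
        ((HomotopyCategory.quotient _ (ComplexShape.up ℤ)).map a) =
      (HomotopyCategory.quotient _ (ComplexShape.up ℤ)).map
        ((DerLib.KInjDerived.mapHomologicalComplexAdj f.adj (ComplexShape.up ℤ)).homEquiv P I a) := by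
  rw [Adjunction.homEquiv_unit, Adjunction.homEquiv_unit]
  exact ((HomotopyCategory.quotient _ (ComplexShape.up ℤ)).map_comp _ _).symm

/-- `Rf_*` has a left adjoint. -/
theorem isRightAdjoint_RpushD : (SiteCmp.RpushD f).IsRightAdjoint := by
  refine Functor.isRightAdjoint_of_leftAdjointObjIsDefined_eq_top ?_
  ext X
  simp only [Pi.top_apply, Prop.top_eq_true, iff_true]
  rw [Functor.leftAdjointObjIsDefined_iff]
  obtain ⟨P, q, hP, hPf, hq⟩ := exists_flat_resolution (DerivedCategory.Q.objPreimage X)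
  haveI := hq
  let e : DerivedCategory.Q.obj P ≅ X :=
    asIso (DerivedCategory.Q.map q) ≪≫ DerivedCategory.Q.objObjPreimageIso X
  obtain ⟨J', r, hJ, hr, -⟩ := DerLib.KInjRes.exists_resolution ((_root_.ModSiteLib.pullCx f).obj P)
  haveI : QuasiIso r := (HomologicalComplex.mem_quasiIso_iff _).1 hr.2
  haveI := hJ
  let ad := DerLib.KInjDerived.mapHomologicalComplexAdj f.adj (ComplexShape.up ℤ)
  let η : X ⟶ (SiteCmp.RpushD f).obj (DerivedCategory.Q.obj J') :=
    e.inv ≫ DerivedCategory.Q.map (ad.homEquiv _ _ r) ≫ (rIso f J').inv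
  refine Functor.CorepresentableBy.isCorepresentable (X := DerivedCategory.Q.obj J')
    { homEquiv := fun {Y} => Equiv.ofBijective (fun v => η ≫ (SiteCmp.RpushD f).map v) ?_
      homEquiv_comp := fun g v => by simp }
  obtain ⟨I, hI, ⟨i⟩⟩ := DerLib.KInjUse.exists_iso_Q_kInjective Y
  haveI := hI
  have key : ∀ v : DerivedCategory.Q.obj J' ⟶ DerivedCategory.Q.obj I, ∀ v', DerivedCategory.Q.map v' = v →
      e.hom ≫ η ≫ (SiteCmp.RpushD f).map v ≫ (rIso f I).hom =
        DerivedCategory.Q.map (ad.homEquiv _ _ (r ≫ v')) := by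
    rintro _ v' rfl
    simp only [η, rIso, ModCohLib.rpushQIso_natural, Category.assoc, Iso.hom_inv_id_assoc,
      Iso.inv_hom_id_assoc]
    rw [← Functor.map_comp, ← Adjunction.homEquiv_naturality_right]
  suffices h : Function.Bijective fun v : DerivedCategory.Q.obj J' ⟶ DerivedCategory.Q.obj I =>
      η ≫ (SiteCmp.RpushD f).map v by
    refine ⟨fun a b hab => (cancel_mono i.hom).1 (h.1 ?_), fun t => ?_⟩
    · show η ≫ (SiteCmp.RpushD f).map (a ≫ i.hom) = η ≫ (SiteCmp.RpushD f).map (b ≫ i.hom)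
      simp only [Functor.map_comp, ← Category.assoc]
      exact congrArg (· ≫ (SiteCmp.RpushD f).map i.hom) hab
    · obtain ⟨v, hv⟩ := h.2 (t ≫ (SiteCmp.RpushD f).map i.hom)
      refine ⟨v ≫ i.inv, ?_⟩
      show η ≫ (SiteCmp.RpushD f).map (v ≫ i.inv) = t
      rw [Functor.map_comp, ← Category.assoc, show η ≫ _ = _ from hv, Category.assoc, ← Functor.map_comp,
        i.hom_inv_id, CategoryTheory.Functor.map_id, Category.comp_id]
  have hinj : ∀ s : P ⟶ (pushCx f).obj I, DerivedCategory.Q.map s = 0 →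
      (HomotopyCategory.quotient _ (ComplexShape.up ℤ)).map s = 0 := fun s hs => by
    refine (bijective_Qh_map f hP hPf I).1 ?_
    rw [Functor.map_zero]
    exact hs
  have hsurj : ∀ t : DerivedCategory.Q.obj P ⟶ DerivedCategory.Q.obj ((pushCx f).obj I),
      ∃ s, DerivedCategory.Q.map s = t := fun t => by
    obtain ⟨s', hs'⟩ := (bijective_Qh_map f hP hPf I).2 t
    obtain ⟨s, rfl⟩ := (HomotopyCategory.quotient _ (ComplexShape.up ℤ)).map_surjective s'
    exact ⟨s, hs'⟩
  constructor
  · intro a b hab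
    obtain ⟨a', ha⟩ := DerLib.KInjUse.Q_map_surjective _ _ a
    obtain ⟨b', hb⟩ := DerLib.KInjUse.Q_map_surjective _ _ b
    have h0 : DerivedCategory.Q.map (ad.homEquiv _ _ (r ≫ a')) =
        DerivedCategory.Q.map (ad.homEquiv _ _ (r ≫ b')) := by
      rw [← key a a' ha, ← key b b' hb]
      rw [← Category.assoc η, show η ≫ (SiteCmp.RpushD f).map a = _ from hab, Category.assoc]
    rw [← cancel_epi (DerivedCategory.Q.map r), ← ha, ← hb, ← Functor.map_comp, ← Functor.map_comp,
      ← sub_eq_zero, ← Functor.map_sub]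
    refine DerLib.KInjUse.Q_map_zero_of_quotient ?_
    have h1 := hinj (ad.homEquiv _ _ (r ≫ a') - ad.homEquiv _ _ (r ≫ b'))
      (by rw [Functor.map_sub, h0, sub_self])
    rw [Functor.map_sub, sub_eq_zero] at h1 ⊢
    exact ((adjH f).homEquiv _ _).injective
      ((adjH_homEquiv_map f _).trans (h1.trans (adjH_homEquiv_map f _).symm))
  · intro t
    obtain ⟨s, hs⟩ := hsurj (e.hom ≫ t ≫ (rIso f I).hom)
    obtain ⟨v', hv'⟩ := DerLib.KInjUse.Q_map_surjective J' I
      (inv (DerivedCategory.Q.map r) ≫ DerivedCategory.Q.map ((ad.homEquiv _ _).symm s))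
    refine ⟨DerivedCategory.Q.map v', ?_⟩
    show η ≫ (SiteCmp.RpushD f).map (DerivedCategory.Q.map v') = t
    refine (cancel_mono (rIso f I).hom).1 ((cancel_epi e.hom).1 ?_)
    rw [Category.assoc η, key _ v' rfl, ← hs]
    have h1 : DerivedCategory.Q.map (r ≫ v') = DerivedCategory.Q.map ((ad.homEquiv _ _).symm s) := by
      rw [Functor.map_comp, hv', IsIso.hom_inv_id_assoc]
    have h2 : (HomotopyCategory.quotient _ (ComplexShape.up ℤ)).map (r ≫ v') =
        (HomotopyCategory.quotient _ (ComplexShape.up ℤ)).map ((ad.homEquiv _ _).symm s) :=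
      (CochainComplex.IsKInjective.Qh_map_bijective _ I).1 h1
    have h3 := congrArg ((adjH f).homEquiv _ _) h2
    have h4 : (HomotopyCategory.quotient _ (ComplexShape.up ℤ)).map (ad.homEquiv _ _ (r ≫ v')) =
        (HomotopyCategory.quotient _ (ComplexShape.up ℤ)).map s :=
      (adjH_homEquiv_map f _).symm.trans (h3.trans ((adjH_homEquiv_map f _).trans
        (congrArg _ (Equiv.apply_symm_apply _ _))))
    exact congrArg DerivedCategory.Qh.map h4

/-- Maps from a K-flat complex of flat modules into `Rf_*` are governed by its inverse image. -/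
theorem subsingleton_hom_rpush (hP : ModSite.IsKFlat P) (hPf : ∀ n, ModSite.IsFlat (P.X n))
    (Y : DerivedCategory (ModSite.Mod O))
    (h : Subsingleton (DerivedCategory.Q.obj ((_root_.ModSiteLib.pullCx f).obj P) ⟶ Y)) :
    Subsingleton (DerivedCategory.Q.obj P ⟶ (SiteCmp.RpushD f).obj Y) := by
  obtain ⟨I, hI, ⟨i⟩⟩ := DerLib.KInjUse.exists_iso_Q_kInjective Y
  haveI := hI
  let j : (SiteCmp.RpushD f).obj Y ≅ DerivedCategory.Q.obj ((pushCx f).obj I) :=
    (SiteCmp.RpushD f).mapIso i ≪≫ rIso f I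
  suffices h0 : ∀ t : DerivedCategory.Q.obj P ⟶ DerivedCategory.Q.obj ((pushCx f).obj I), t = 0 from
    ⟨fun a b => (cancel_mono j.hom).1 ((h0 _).trans (h0 _).symm)⟩
  intro t
  obtain ⟨s', hs'⟩ := (bijective_Qh_map f hP hPf I).2 t
  obtain ⟨s, rfl⟩ := (HomotopyCategory.quotient _ (ComplexShape.up ℤ)).map_surjective s'
  let ad := DerLib.KInjDerived.mapHomologicalComplexAdj f.adj (ComplexShape.up ℤ)
  let s₀ := (ad.homEquiv P I).symm s
  have h1 : DerivedCategory.Q.map s₀ = 0 := by
    rw [← cancel_mono i.inv, zero_comp]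
    exact h.elim _ _
  have h2 := DerLib.KInjUse.quotient_eq_zero_of_Q h1
  have h3 : (HomotopyCategory.quotient _ (ComplexShape.up ℤ)).map s = 0 := by
    rw [← (ad.homEquiv P I).apply_symm_apply s, ← adjH_homEquiv_map, h2, Adjunction.homEquiv_unit,
      Functor.map_zero, comp_zero]
  rw [← hs', h3, Functor.map_zero]

/-- The converse of `subsingleton_hom_rpush`. -/
theorem subsingleton_hom_of_rpush (hP : ModSite.IsKFlat P) (hPf : ∀ n, ModSite.IsFlat (P.X n))
    (Y : DerivedCategory (ModSite.Mod O))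
    (h : Subsingleton (DerivedCategory.Q.obj P ⟶ (SiteCmp.RpushD f).obj Y)) :
    Subsingleton (DerivedCategory.Q.obj ((_root_.ModSiteLib.pullCx f).obj P) ⟶ Y) := by
  obtain ⟨I, hI, ⟨i⟩⟩ := DerLib.KInjUse.exists_iso_Q_kInjective Y
  haveI := hI
  let j : (SiteCmp.RpushD f).obj Y ≅ DerivedCategory.Q.obj ((pushCx f).obj I) :=
    (SiteCmp.RpushD f).mapIso i ≪≫ rIso f I
  suffices h0 : ∀ t : DerivedCategory.Q.obj ((_root_.ModSiteLib.pullCx f).obj P) ⟶
      DerivedCategory.Q.obj I, t = 0 from
    ⟨fun a b => (cancel_mono i.hom).1 ((h0 _).trans (h0 _).symm)⟩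
  intro t
  obtain ⟨s₀, rfl⟩ := DerLib.KInjUse.Q_map_surjective _ _ t
  let ad := DerLib.KInjDerived.mapHomologicalComplexAdj f.adj (ComplexShape.up ℤ)
  have h1 : DerivedCategory.Qh.map
      ((HomotopyCategory.quotient _ (ComplexShape.up ℤ)).map (ad.homEquiv P I s₀)) = 0 := by
    have := h
    refine (cancel_mono j.inv).1 ?_
    rw [zero_comp]
    exact this.elim _ _
  have h2 := (bijective_Qh_map f hP hPf I).1 (h1.trans (Functor.map_zero _ _ _).symm)
  have h3 : (HomotopyCategory.quotient _ (ComplexShape.up ℤ)).map s₀ = 0 := by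
    apply ((adjH f).homEquiv _ _).injective
    refine (adjH_homEquiv_map f s₀).trans (h2.trans ?_)
    rw [Adjunction.homEquiv_unit, Functor.map_zero, comp_zero]
  exact DerLib.KInjUse.Q_map_zero_of_quotient h3

end Groth.Agent.DerCompLib
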