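import Groth.Agent.DerCompLib.Exists
import Groth.Agent.DerCompLib.Lpull
import Groth.Agent.DerCompLib.AwayMod

/-!
# `Rf_*` preserves derived completeness
-/

set_option autoImplicit false
set_option linter.style.haveILetI false
set_option linter.unusedSectionVars false

universe u

open CategoryTheory CategoryTheory.Limits Opposite

attribute [local instance] HasDerivedCategory.standard

namespace Groth.Agent.DerCompLib

variable {C : Type u} [SmallCategory C] {J : GrothendieckTopology C} {O : Sheaf J CommRingCat.{u}}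

/-- A module in degree zero, shifted. -/
noncomputable abbrev shiftedSingle (T : ModSite.Mod O) (m : ℤ) : CochainComplex (ModSite.Mod O) ℤ :=
  ((CochainComplex.singleFunctor (ModSite.Mod O) 0).obj T)⟦m⟧

theorem isKFlat_shiftedSingle {T : ModSite.Mod O} (hT : ModSite.IsFlat T) (m : ℤ) :
    ModSite.IsKFlat (shiftedSingle T m) :=
  ModSiteLib.isKFlat_shift (ModSiteLib.isKFlat_single hT 0) m

theorem isFlat_shiftedSingle {T : ModSite.Mod O} (hT : ModSite.IsFlat T) (m n : ℤ) :
    ModSite.IsFlat ((shiftedSingle T m).X n) := by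
  by_cases h : n + m = 0
  · exact ModSiteLib.isFlat_of_iso O
      ((HomologicalComplex.singleObjXSelf (ComplexShape.up ℤ) 0 T).symm ≪≫
        eqToIso (show ((CochainComplex.singleFunctor (ModSite.Mod O) 0).obj T).X 0 =
          (shiftedSingle T m).X n by show _ = ((CochainComplex.singleFunctor _ 0).obj T).X (n + m); rw [h])) hT
  · exact ModSiteLib.isFlat_of_isZero
      (HomologicalComplex.isZero_single_obj_X (ComplexShape.up ℤ) 0 T (n + m) h)

variable {D : Type u} [SmallCategory D] {K : GrothendieckTopology D} {O_D : Sheaf K CommRingCat.{u}}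
  (f : ModSite.RMor O O_D)

/-- The inverse image of a shifted module. -/
noncomputable def pullShiftedSingle (T : ModSite.Mod O_D) (m : ℤ) :
    (_root_.ModSiteLib.pullCx f).obj (shiftedSingle T m) ≅ shiftedSingle (f.pull.obj T) m :=
  ((_root_.ModSiteLib.pullCx f).commShiftIso m).app _ ≪≫
    (shiftFunctor _ m).mapIso ((HomologicalComplex.singleMapHomologicalComplex f.pull _ 0).app T)

variable [SiteCmp.HasRpushD f] {I : DerComp.IdealSh O_D} {I' : DerComp.IdealSh O}

theorem isDerComp_rpushD (hf : DerComp.RMapsIdealInto f I I') {M : DerivedCategory (ModSite.Mod O)}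
    (hM : DerComp.IsDerComp O I' M) : DerComp.IsDerComp O_D I ((SiteCmp.RpushD f).obj M) := by
  rw [isDerComp_iff_isLocal]
  intro x
  let T := awayMod x.1 x.2.1.1
  refine subsingleton_hom_rpush f (P := shiftedSingle T x.2.2)
    (isKFlat_shiftedSingle (isFlat_awayMod _ _) _) (isFlat_shiftedSingle (isFlat_awayMod _ _) _) M ?_
  let e := DerivedCategory.Q.mapIso (pullShiftedSingle f T x.2.2 ≪≫
    (shiftFunctor _ x.2.2).mapIso
      ((CochainComplex.singleFunctor _ 0).mapIso (pullAwayIso f x.1 x.2.1.1)))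
  rw [(e.homCongr (Iso.refl M)).subsingleton_congr]
  exact (isDerComp_iff_isLocal O I' M).1 hM
    ⟨f.fn.obj x.1, ⟨sharpSect f x.1 x.2.1.1, hf _ _ x.2.1.2⟩, x.2.2⟩

theorem subsingleton_rpush_test_iff (V : D) (g : O_D.obj.obj (op V))
    (M : DerivedCategory (ModSite.Mod O)) (n : ℤ) :
    Subsingleton (SiteCmp.inD O_D (awayMod V g) ⟶ ((SiteCmp.RpushD f).obj M)⟦n⟧) ↔
      Subsingleton (SiteCmp.inD O (awayMod (f.fn.obj V) (sharpSect f V g)) ⟶ M⟦n⟧) := by
  let qD : DerivedCategory.Q.obj (shiftedSingle (awayMod V g) (-n)) ≅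
      (SiteCmp.inD O_D (awayMod V g))⟦-n⟧ :=
    (DerivedCategory.Q.commShiftIso (-n)).app _ ≪≫
      (shiftFunctor _ (-n)).mapIso ((DerivedCategory.singleFunctorIsoCompQ _ 0).app _).symm
  let qC : DerivedCategory.Q.obj ((_root_.ModSiteLib.pullCx f).obj (shiftedSingle (awayMod V g) (-n))) ≅
      (SiteCmp.inD O (awayMod (f.fn.obj V) (sharpSect f V g)))⟦-n⟧ :=
    DerivedCategory.Q.mapIso (pullShiftedSingle f (awayMod V g) (-n) ≪≫
      (shiftFunctor _ (-n)).mapIso ((CochainComplex.singleFunctor _ 0).mapIso (pullAwayIso f V g))) ≪≫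
      (DerivedCategory.Q.commShiftIso (-n)).app _ ≪≫
      (shiftFunctor _ (-n)).mapIso ((DerivedCategory.singleFunctorIsoCompQ _ 0).app _).symm
  have h1 := subsingleton_shift_iff (SiteCmp.inD O_D (awayMod V g)) ((SiteCmp.RpushD f).obj M) (-n)
  have h2 := subsingleton_shift_iff (SiteCmp.inD O (awayMod (f.fn.obj V) (sharpSect f V g))) M (-n)
  rw [neg_neg] at h1 h2
  rw [← h1, ← h2, ← (qD.homCongr (Iso.refl _)).subsingleton_congr,
    ← (qC.homCongr (Iso.refl _)).subsingleton_congr]
  exact ⟨subsingleton_hom_of_rpush f (isKFlat_shiftedSingle (isFlat_awayMod _ _) _)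
      (isFlat_shiftedSingle (isFlat_awayMod _ _) _) M,
    subsingleton_hom_rpush f (isKFlat_shiftedSingle (isFlat_awayMod _ _) _)
      (isFlat_shiftedSingle (isFlat_awayMod _ _) _) M⟩

end Groth.Agent.DerCompLib
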