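import Groth.Agent.DerCompLib.Local
import Groth.Agent.DerCompLib.RpushComp
import Mathlib.Algebra.Category.ModuleCat.Sheaf.ChangeOfRings

/-!
# Criteria for derived completeness on sites
-/

set_option autoImplicit false
set_option linter.style.haveILetI false
set_option linter.unusedSectionVars false

universe u

open CategoryTheory CategoryTheory.Limits Opposite

attribute [local instance] HasDerivedCategory.standard

namespace Groth.Agent.DerCompLib

variable {C : Type u} [SmallCategory C] {J : GrothendieckTopology C} {O O' : Sheaf J CommRingCat.{u}}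

/-- A map of sheaves of rings as a morphism of ringed sites. -/
noncomputable def ringMor (φ : O ⟶ O') : ModSite.RMor O' O where
  fn := 𝟭 C
  exact := (ModSite.RMor.id O').exact
  sharp := φ

variable (φ : O ⟶ O')

/-- Restriction of scalars along `φ`. -/
noncomputable abbrev resScal : ModSite.Mod O' ⥤ ModSite.Mod O :=
  SheafOfModules.restrictScalars.{u} ((sheafCompose J (forget₂ CommRingCat.{u} RingCat.{u})).map φ)

/-- The direct image along `ringMor φ` is restriction of scalars. -/
noncomputable def pushRingMorIso : (ringMor φ).push ≅ resScal φ :=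
  NatIso.ofComponents (fun M => Iso.refl _) (fun _ => rfl)

theorem hasRpushD_ringMor : SiteCmp.HasRpushD (ringMor φ) :=
  DerLib.KInjDerived.hasRightDerivedFunctor _ (DerLib.KInjDerived.enoughKInj _)

variable [SiteCmp.HasRpushD (ringMor φ)] [PreservesFiniteLimits (resScal φ)]
  [PreservesFiniteColimits (resScal φ)]

/-- `Rf_*` along `ringMor φ` is restriction of scalars. -/
noncomputable def rpushRingMorIso : SiteCmp.RpushD (ringMor φ) ≅ (resScal φ).mapDerivedCategory :=
  let W := HomotopyCategory.quasiIso (ModSite.Mod O') (ComplexShape.up ℤ)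
  haveI : PreservesFiniteLimits (ringMor φ).push :=
    preservesFiniteLimits_of_natIso (pushRingMorIso φ).symm
  haveI : PreservesFiniteColimits (ringMor φ).push :=
    preservesFiniteColimits_of_natIso (pushRingMorIso φ).symm
  haveI : (ringMor φ).push.mapDerivedCategory.IsRightDerivedFunctor
      (ringMor φ).push.mapDerivedCategoryFactorsh.inv W :=
    Functor.isRightDerivedFunctor_of_inverts _ _ (ringMor φ).push.mapDerivedCategoryFactorsh
  (Functor.rightDerivedUnique (SiteCmp.RpushD (ringMor φ)) (ringMor φ).push.mapDerivedCategory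
    ((SiteCmp.pushKh (ringMor φ)).totalRightDerivedUnit DerivedCategory.Qh W)
    (ringMor φ).push.mapDerivedCategoryFactorsh.inv W) ≪≫ (Iso.refl _)

theorem isDerComp_resScal_iff (I : DerComp.IdealSh O) (I' : DerComp.IdealSh O')
    (hI' : DerComp.IsIdealExt φ I I') (K : DerivedCategory (ModSite.Mod O')) :
    DerComp.IsDerComp O' I' K ↔ DerComp.IsDerComp O I ((resScal φ).mapDerivedCategory.obj K) := by
  let e : (SiteCmp.RpushD (ringMor φ)).obj K ≅ (resScal φ).mapDerivedCategory.obj K :=
    (rpushRingMorIso φ).app K
  have ht : ∀ (V : C) (g : O.obj.obj (op V)),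
      TV V ((φ.hom.app (op V)).hom g) K ↔ TV V g ((resScal φ).mapDerivedCategory.obj K) := by
    intro V g
    rw [← subsingleton_tests_iff, ← subsingleton_tests_iff]
    refine forall_congr' fun n => ?_
    exact (subsingleton_rpush_test_iff (ringMor φ) V g K n).symm.trans
      (((Iso.refl _).homCongr ((shiftFunctor _ n).mapIso e)).subsingleton_congr)
  rw [isDerComp_iff_le, isDerComp_iff_le]
  constructor
  · intro h U g hg W k
    rw [← ht]
    exact h W (hI'.1 W _ (I.map_mem k hg)) W (𝟙 W) |> fun h => by simpa using h
  · intro h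
    refine hI'.2 _ fun U g hg W k => ?_
    have := h U hg W k
    rw [← ht] at this
    convert this using 1
    exact (NatTrans.naturality_apply φ.hom k.op g).symm

theorem isDerComp_iff_of_covering (I : DerComp.IdealSh O) (K : DerivedCategory (ModSite.Mod O))
    (S : ∀ U : C, Sieve U) (hS : ∀ U, S U ∈ J U) :
    DerComp.IsDerComp O I K ↔ ∀ (U V : C) (k : V ⟶ U), S U k → ∀ f ∈ I.ideal V, TV V f K := by
  constructor
  · intro h U V k _ f hf
    exact (subsingleton_tests_iff V f K).1 (h V f hf)
  · intro h
    rw [isDerComp_iff_le]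
    intro U f hf
    refine vanish_glue K (S U) (hS U) fun V k hk W l => ?_
    rw [← CommRingCat.comp_apply, ← Functor.map_comp, ← op_comp]
    exact h U W (l ≫ k) ((S U).downward_closed hk l) _ (I.map_mem _ hf)

end Groth.Agent.DerCompLib
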