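import Groth.Agent.DerCompLib.ExtOver

/-!
# Flat extensions of scalars and derived complete objects
-/

set_option autoImplicit false
set_option linter.style.haveILetI false
set_option linter.unusedSectionVars false
set_option backward.isDefEq.respectTransparency false

universe u

open CategoryTheory CategoryTheory.Limits Opposite HomologicalComplex
open CategoryTheory.Pretriangulated (Triangle)
attribute [local instance] HasDerivedCategory.standard

namespace Groth.Agent.DerCompLib

variable {C : Type u} [SmallCategory C] {J : GrothendieckTopology C} {O O' : Sheaf J CommRingCat.{u}}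
  (φ : O ⟶ O')

instance additive_resScal : (resScal φ).Additive where

instance faithful_resScal : (resScal φ).Faithful :=
  haveI : (resScal φ ⋙ SheafOfModules.toSheaf (ModSite.ringSh O)).Faithful :=
    inferInstanceAs (SheafOfModules.toSheaf (ModSite.ringSh O')).Faithful
  Functor.Faithful.of_comp (resScal φ) (SheafOfModules.toSheaf (ModSite.ringSh O))

/-- The adjunction between inverse image and restriction of scalars. -/
noncomputable def extAdj : extSc φ ⊣ resScal φ := (ringMor φ).adj.ofNatIsoRight (pushRingMorIso φ)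

theorem extAdj_unit (M : ModSite.Mod O) :
    (extAdj φ).unit.app M = (ringMor φ).adj.unit.app M ≫ (pushRingMorIso φ).hom.app ((extSc φ).obj M) := by
  rfl

instance additive_extSc : (extSc φ).Additive := (extAdj φ).left_adjoint_additive

/-- `- ⊗ O'` is the composite. -/
noncomputable def extResIso : (ModSite.tensorBi O).flip.obj (algMod φ) ≅ extSc φ ⋙ resScal φ :=
  extIso φ ≪≫ Functor.isoWhiskerLeft (extSc φ) (pushRingMorIso φ)

theorem addOne_extResIso (M : ModSite.Mod O) :
    addOne φ M ≫ (extResIso φ).hom.app M = (extAdj φ).unit.app M := by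
  rw [extAdj_unit, ← addOne_extMap, Category.assoc]
  rfl

theorem preservesFiniteLimits_extSc (hflat : ModSite.IsFlat (algMod φ)) : PreservesFiniteLimits (extSc φ) := by
  haveI := hflat.1
  haveI : PreservesColimitsOfSize.{0, 0} (extSc φ) := (extAdj φ).leftAdjoint_preservesColimits
  haveI : (extSc φ).PreservesMonomorphisms := ⟨fun {X Y} g _ => by
    haveI : Mono (((ModSite.tensorBi O).flip.obj (algMod φ)).map g) := inferInstance
    haveI : Mono ((resScal φ).map ((extSc φ).map g)) :=
      ((MorphismProperty.monomorphisms (ModSite.Mod O)).arrow_mk_iso_iff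
        (Arrow.isoMk ((extResIso φ).app X) ((extResIso φ).app Y) ((extResIso φ).hom.naturality g).symm)).1
        (inferInstanceAs (Mono (((ModSite.tensorBi O).flip.obj (algMod φ)).map g)))
    exact (resScal φ).mono_of_mono_map inferInstance⟩
  haveI : (extSc φ).PreservesHomology := Functor.preservesHomology_of_preservesMonos_and_cokernels _
  exact Functor.preservesFiniteLimits_of_preservesHomology _

theorem preservesFiniteColimits_extSc : PreservesFiniteColimits (extSc φ) :=
  haveI : PreservesColimitsOfSize.{0, 0} (extSc φ) := (extAdj φ).leftAdjoint_preservesColimits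
  PreservesColimitsOfSize.preservesFiniteColimits _

variable [PreservesFiniteLimits (resScal φ)] [PreservesFiniteColimits (resScal φ)]
  [PreservesFiniteLimits (extSc φ)] [PreservesFiniteColimits (extSc φ)]

/-- The adjunction on derived categories. -/
noncomputable def extAdjD : (extSc φ).mapDerivedCategory ⊣ (resScal φ).mapDerivedCategory :=
  exactAdjD (extAdj φ)

variable {φ} {I : DerComp.IdealSh O} {I' : DerComp.IdealSh O'}
  (hI : I.IsFiniteType) (hI' : DerComp.IsIdealExt φ I I') (hflat : ModSite.IsFlat (algMod φ))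
  (hinj : ∀ (U : C) (f : O.obj.obj (op U)), phi φ f ∈ I'.ideal U → f ∈ I.ideal U)
  (hsurj : ∀ (U : C) (f' : O'.obj.obj (op U)), ∃ S ∈ J U, ∀ ⦃V : C⦄ (g : V ⟶ U), S g →
    ∃ a : O.obj.obj (op V), (O'.obj.map g.op).hom f' - phi φ a ∈ I'.ideal V)

include hI' hflat hinj hsurj in
theorem bijective_restr_unit (V : C) {r : ℕ} (s : Fin r → DerComp.GSec (O.over V))
    (hs : (I.over V).IsGenBy s) (T : DerivedCategory (ModSite.Mod (O.over V))) (hT : ∀ i, Nilp (s i) T)
    (M : DerivedCategory (ModSite.Mod O)) :
    Function.Bijective fun x : T ⟶ (restrD O V).obj M => x ≫ (restrD O V).map ((extAdjD φ).unit.app M) := by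
  let φV := phiOver φ V
  have hfl := isFlat_algMod_over φ V hflat
  haveI := hfl.1
  haveI := hfl.2
  let K := DerivedCategory.Q.objPreimage M
  let e : DerivedCategory.Q.obj K ≅ M := DerivedCategory.Q.objObjPreimageIso M
  let R := (ModSite.restr O V).mapHomologicalComplex (ComplexShape.up ℤ)
  let KV := R.obj K
  have hb : Function.Bijective fun x : T ⟶ DerivedCategory.Q.obj KV =>
      x ≫ DerivedCategory.Q.map ((addOneCx φV).app KV) := by
    have h := bijective_of_nilp (algD φV) (addOneD φV) T (List.ofFn s) []
      (fun X hX => isIso_addOneD_of_nilp (hinj_over V hinj) (hsurj_over V hsurj) (isIdealExt_over V hI')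
        hfl s hs X fun i => hX _ (by simp [List.mem_ofFn]))
      (fun a ha => by
        obtain ⟨i, rfl⟩ := List.mem_ofFn.1 ha
        exact hT i)
      (DerivedCategory.Q.obj KV) (fun a ha => absurd ha List.not_mem_nil)
    have hc : (fun x : T ⟶ DerivedCategory.Q.obj KV => x ≫ DerivedCategory.Q.map ((addOneCx φV).app KV)) =
        (fun y => y ≫ (((ModSite.tensorBi (O.over V)).flip.obj (algMod φV)).mapDerivedCategoryFactors.hom.app KV)) ∘
          fun x => x ≫ (addOneD φV).app (DerivedCategory.Q.obj KV) := funext fun x => by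
      simp only [Function.comp_apply, addOneD_app, Category.assoc, Iso.inv_hom_id_app]
      exact congrArg (x ≫ ·) (Category.comp_id _).symm
    rw [hc]
    exact ((((ModSite.tensorBi (O.over V)).flip.obj (algMod φV)).mapDerivedCategoryFactors.app KV).homToEquiv.bijective).comp h
  let τ : (((ModSite.tensorBi (O.over V)).flip.obj (algMod φV)).mapHomologicalComplex (ComplexShape.up ℤ) |>.obj KV) ≅
      R.obj (((resScal φ).mapHomologicalComplex _).obj (((extSc φ).mapHomologicalComplex _).obj K)) :=
    HomologicalComplex.Hom.isoOfComponents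
      (fun i => (restrTensIso φ V ≪≫ Functor.isoWhiskerRight (extResIso φ) (ModSite.restr O V)).app (K.X i))
      (fun i j _ => ((restrTensIso φ V ≪≫ Functor.isoWhiskerRight (extResIso φ) (ModSite.restr O V)).hom.naturality
        (K.d i j)).symm)
  have hunit : (addOneCx φV).app KV ≫ τ.hom =
      R.map ((DerLib.KInjDerived.mapHomologicalComplexAdj (extAdj φ) (ComplexShape.up ℤ)).unit.app K) := by
    ext i : 1
    change addOne φV _ ≫ (restrTens φ V (K.X i) ≫ (ModSite.restr O V).map ((extResIso φ).hom.app (K.X i))) =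
      (ModSite.restr O V).map ((extAdj φ).unit.app (K.X i))
    rw [← addOne_extResIso, Functor.map_comp]
    exact (Category.assoc _ _ _).symm.trans (congrArg (· ≫ _) (addOne_restrTens φ V (K.X i)))
  letI : CatCommSq ((extSc φ).mapHomologicalComplex (ComplexShape.up ℤ)) DerivedCategory.Q
      DerivedCategory.Q (extSc φ).mapDerivedCategory := ⟨(extSc φ).mapDerivedCategoryFactors.symm⟩
  letI : CatCommSq ((resScal φ).mapHomologicalComplex (ComplexShape.up ℤ)) DerivedCategory.Q
      DerivedCategory.Q (resScal φ).mapDerivedCategory := ⟨(resScal φ).mapDerivedCategoryFactors.symm⟩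
  obtain ⟨j, hj⟩ : ∃ (j : DerivedCategory.Q.obj (((resScal φ).mapHomologicalComplex _).obj
        (((extSc φ).mapHomologicalComplex _).obj K)) ≅
      (resScal φ).mapDerivedCategory.obj ((extSc φ).mapDerivedCategory.obj (DerivedCategory.Q.obj K))),
      (extAdjD φ).unit.app (DerivedCategory.Q.obj K) =
        DerivedCategory.Q.map ((DerLib.KInjDerived.mapHomologicalComplexAdj (extAdj φ) _).unit.app K) ≫ j.hom :=
    ⟨(CatCommSq.iso _ DerivedCategory.Q DerivedCategory.Q (resScal φ).mapDerivedCategory).app _ ≪≫
      (resScal φ).mapDerivedCategory.mapIso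
        ((CatCommSq.iso _ DerivedCategory.Q DerivedCategory.Q (extSc φ).mapDerivedCategory).app K),
      Adjunction.localization_unit_app _ _ _ _ _ _ _ _⟩
  let eR := (ModSite.restr O V).mapDerivedCategoryFactors
  have hQ : (restrD O V).map ((extAdjD φ).unit.app (DerivedCategory.Q.obj K)) =
      eR.hom.app K ≫ DerivedCategory.Q.map ((addOneCx φV).app KV) ≫
        (DerivedCategory.Q.map τ.hom ≫ eR.inv.app _ ≫ (restrD O V).map j.hom) := by
    rw [hj, Functor.map_comp, ← Functor.map_comp_assoc DerivedCategory.Q, hunit]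
    rw [← Category.assoc, ← Category.assoc]
    congr 1
    exact (Iso.eq_comp_inv (eR.app _)).2 (eR.hom.naturality _)
  have hiso : ∀ (A B : DerivedCategory (ModSite.Mod (O.over V))) (g : A ⟶ B) [IsIso g],
      Function.Bijective fun x : T ⟶ A => x ≫ g := fun A B g _ => (asIso g).homToEquiv.bijective
  have hQb : Function.Bijective fun x : T ⟶ (restrD O V).obj (DerivedCategory.Q.obj K) =>
      x ≫ (restrD O V).map ((extAdjD φ).unit.app (DerivedCategory.Q.obj K)) := by
    have h := ((hiso _ _ (DerivedCategory.Q.map τ.hom ≫ eR.inv.app _ ≫ (restrD O V).map j.hom)).comp hb).comp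
      (hiso _ _ (eR.hom.app K))
    convert h using 1
    funext x
    simp only [Function.comp_apply, hQ, Category.assoc]
  have h := ((hiso _ _ ((restrD O V).map (((resScal φ).mapDerivedCategory).map ((extSc φ).mapDerivedCategory.map e.hom)))).comp
    hQb).comp (hiso _ _ ((restrD O V).map e.inv))
  convert h using 1
  funext x
  simp only [Function.comp_apply, Category.assoc, ← Functor.map_comp]
  congr 2
  refine (e.inv_comp_eq.2 ?_).symm
  exact ((extAdjD φ).unit.naturality e.hom).symm

include hI hI' hflat hinj hsurj in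
/-- The cone of the unit is orthogonal. -/
theorem orth_unit_cone {M N : DerivedCategory (ModSite.Mod O)}
    {p : (resScal φ).mapDerivedCategory.obj ((extSc φ).mapDerivedCategory.obj M) ⟶ N} {q : N ⟶ M⟦(1 : ℤ)⟧}
    (hT : Triangle.mk ((extAdjD φ).unit.app M) p q ∈ Pretriangulated.distinguishedTriangles) : Orth I N := by
  refine orth_of_local I (covering_gen I hI) N fun V ⟨r, a, ha⟩ => ⟨r, _, ha, ?_⟩
  refine kz_of_subsingleton _ [] _ (fun T hn => ?_) fun b hb => absurd hb List.not_mem_nil
  have hn' : ∀ i, Nilp (DerComp.GSec.ofSect O V (a i)) T := fun i => hn _ (by simp [List.mem_ofFn])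
  exact subsingleton_obj₃ ((restrD O V).map_distinguished _ hT)
    (bijective_restr_unit hI' hflat hinj hsurj V _ ha T hn' M).2
    (bijective_restr_unit hI' hflat hinj hsurj V _ ha _ (fun i => nilp_shift (hn' i) (-1)) M).1

theorem bijective_precomp_of_orth {X Y Z : DerivedCategory (ModSite.Mod O)} {u : X ⟶ Y} {p : Y ⟶ Z}
    {q : Z ⟶ X⟦(1 : ℤ)⟧} (hT : Triangle.mk u p q ∈ Pretriangulated.distinguishedTriangles) (hZ : Orth I Z)
    (L : DerivedCategory (ModSite.Mod O)) (hL : DerComp.IsDerComp O I L) :
    Function.Bijective fun y : Y ⟶ L => u ≫ y := by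
  refine ⟨fun a b hab => sub_eq_zero.1 ?_, fun g => ?_⟩
  · obtain ⟨c, hc⟩ := Triangle.yoneda_exact₂ _ hT (a - b)
      (by change u ≫ (a - b) = 0; rw [Preadditive.comp_sub, sub_eq_zero]; exact hab)
    haveI : Subsingleton ((Triangle.mk u p q).obj₃ ⟶ L) := hZ L hL
    rw [hc, Subsingleton.elim c 0, comp_zero]
  · obtain ⟨y, hy⟩ := Triangle.yoneda_exact₂ _ (Pretriangulated.inv_rot_of_distTriang _ hT) g
      ((orth_shift hZ (-1) L hL).elim _ _ :)
    exact ⟨y, hy.symm⟩

include hI hI' in
theorem orth_resScal {N : DerivedCategory (ModSite.Mod O')} (hN : Orth I' N) :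
    Orth I ((resScal φ).mapDerivedCategory.obj N) := by
  haveI := hasRpushD_ringMor φ
  refine orth_of_local I (covering_gen I hI) _ fun V ⟨r, a, ha⟩ => ⟨r, _, ha, ?_⟩
  exact kz_of_iso ((restrD O V).mapIso ((rpushRingMorIso φ).app N))
    (kz_restr_rpush (ringMor φ) V (I' := I') ⟨hI'.1, hI'.2⟩ a ha N hN)

theorem isZero_of_resScal {X : DerivedCategory (ModSite.Mod O')}
    (h : IsZero ((resScal φ).mapDerivedCategory.obj X)) : IsZero X := by
  let K := DerivedCategory.Q.objPreimage X
  let e : DerivedCategory.Q.obj K ≅ X := DerivedCategory.Q.objObjPreimageIso X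
  refine IsZero.of_iso (DerLib.KInjUse.isZero_Q_obj fun i => ?_) e.symm
  rw [exactAt_iff_isZero_homology]
  have h1 : IsZero (DerivedCategory.Q.obj (((resScal φ).mapHomologicalComplex (ComplexShape.up ℤ)).obj K)) :=
    h.of_iso (((resScal φ).mapDerivedCategoryFactors.app K).symm ≪≫ (resScal φ).mapDerivedCategory.mapIso e)
  have h2 : IsZero ((resScal φ).obj (K.homology i)) :=
    (isZero_homology_of_isZero_Q h1 i).of_iso ((K.sc i).mapHomologyIso (resScal φ)).symm
  rw [IsZero.iff_id_eq_zero]
  apply (resScal φ).map_injective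
  exact h2.eq_of_src _ _

include hI hI' in
theorem orth_of_orth_resScal {N : DerivedCategory (ModSite.Mod O')}
    (hN : Orth I ((resScal φ).mapDerivedCategory.obj N)) : Orth I' N := by
  haveI := hasDerCompletion O' I'
  haveI := hasRpushD_ringMor φ
  obtain ⟨Z, p, q, hT⟩ := Pretriangulated.distinguished_cocone_triangle (DerComp.toDerCompletion I' N)
  have hZ : Orth I' Z := orth_cone hT (fun L hL => bijective_toDerCompletion I' N L hL)
  have hc : Orth I ((resScal φ).mapDerivedCategory.obj ((DerComp.derCompletion O' I').obj N).obj) :=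
    orth_obj₂ ((resScal φ).mapDerivedCategory.map_distinguished _ hT) hN (orth_resScal hI hI' hZ)
  have hz : IsZero ((DerComp.derCompletion O' I').obj N).obj := isZero_of_resScal ((IsZero.iff_id_eq_zero _).2
    ((hc _ ((isDerComp_resScal_iff φ I I' hI' _).1 ((DerComp.derCompletion O' I').obj N).property)).elim _ _))
  exact fun L hL => ⟨fun a b => by
    obtain ⟨a', rfl⟩ := (bijective_toDerCompletion I' N L hL).2 a
    obtain ⟨b', rfl⟩ := (bijective_toDerCompletion I' N L hL).2 b
    exact congrArg (fun t => DerComp.toDerCompletion I' N ≫ t) (hz.eq_of_src a' b')⟩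

include hI hI' hflat hinj hsurj in
theorem bijective_map (K L : DerivedCategory (ModSite.Mod O')) (hL : DerComp.IsDerComp O' I' L) :
    Function.Bijective fun ψ : K ⟶ L => (resScal φ).mapDerivedCategory.map ψ := by
  let R := (resScal φ).mapDerivedCategory
  let ε := (extAdjD φ).counit.app K
  obtain ⟨C₀, p₀, q₀, hC⟩ := Pretriangulated.distinguished_cocone_triangle ((extAdjD φ).unit.app (R.obj K))
  obtain ⟨N, p, q, hT⟩ := Pretriangulated.distinguished_cocone_triangle ε
  have hRN : Orth I (R.obj N) := by
    refine orth_cone (R.map_distinguished _ hT) fun X hX => ?_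
    have h1 := bijective_precomp_of_orth hC (orth_unit_cone hI hI' hflat hinj hsurj hC) X hX
    have h2 : ((fun y => (extAdjD φ).unit.app (R.obj K) ≫ y) ∘
        fun y : R.obj K ⟶ X => R.map ε ≫ y) = id := funext fun y => by
      change (extAdjD φ).unit.app (R.obj K) ≫ R.map ε ≫ y = y
      rw [← Category.assoc, (extAdjD φ).right_triangle_components]
      exact Category.id_comp y
    exact (h1.of_comp_iff' _).1 (h2 ▸ Function.bijective_id)
  have hN : Orth I' N := orth_of_orth_resScal hI hI' hRN
  have hε := bijective_precomp_of_orth (I := I') hT hN L hL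
  have : (fun ψ : K ⟶ L => R.map ψ) = ⇑((extAdjD φ).homEquiv (R.obj K) L) ∘ fun ψ => ε ≫ ψ :=
    funext fun ψ => by
      simp only [Function.comp_apply, Adjunction.homEquiv_unit, Functor.map_comp]
      exact ((congrArg (· ≫ R.map ψ) ((extAdjD φ).right_triangle_components K)).trans (Category.id_comp _)).symm.trans
        (Category.assoc _ _ _)
  exact this ▸ ((extAdjD φ).homEquiv _ _).bijective.comp hε

include hI hI' hflat hinj hsurj in
theorem exists_preimage (E : DerivedCategory (ModSite.Mod O)) (hE : DerComp.IsDerComp O I E) :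
    ∃ K : DerivedCategory (ModSite.Mod O'), DerComp.IsDerComp O' I' K ∧
      Nonempty ((resScal φ).mapDerivedCategory.obj K ≅ E) := by
  haveI := hasDerCompletion O' I'
  haveI := hasRpushD_ringMor φ
  let R := (resScal φ).mapDerivedCategory
  let M := (extSc φ).mapDerivedCategory.obj E
  obtain ⟨C₀, p₀, q₀, hC⟩ := Pretriangulated.distinguished_cocone_triangle ((extAdjD φ).unit.app E)
  obtain ⟨Z, p, q, hT⟩ := Pretriangulated.distinguished_cocone_triangle (DerComp.toDerCompletion I' M)
  let K := ((DerComp.derCompletion O' I').obj M).obj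
  have hK : DerComp.IsDerComp O' I' K := ((DerComp.derCompletion O' I').obj M).property
  have hRK := (isDerComp_resScal_iff φ I I' hI' K).1 hK
  refine ⟨K, hK, ?_⟩
  let w : E ⟶ R.obj K := (extAdjD φ).unit.app E ≫ R.map (DerComp.toDerCompletion I' M)
  have hw : ∀ X, DerComp.IsDerComp O I X → Function.Bijective fun y : R.obj K ⟶ X => w ≫ y := by
    intro X hX
    have h1 := bijective_precomp_of_orth hC (orth_unit_cone hI hI' hflat hinj hsurj hC) X hX
    have h2 := bijective_precomp_of_orth (R.map_distinguished _ hT)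
      (orth_resScal hI hI' (orth_cone hT fun L hL => bijective_toDerCompletion I' M L hL)) X hX
    convert h1.comp h2 using 1
    funext y
    exact Category.assoc _ _ _
  obtain ⟨v, hv⟩ := (hw E hE).2 (𝟙 E)
  exact ⟨⟨v, w, (hw _ hRK).1 (by
    change w ≫ v ≫ w = w ≫ 𝟙 _
    rw [← Category.assoc, show w ≫ v = 𝟙 E from hv, Category.id_comp, Category.comp_id]), hv⟩⟩

end Groth.Agent.DerCompLib
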