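import Groth.Agent.ModSiteLib.KFlatBounded
import Groth.Agent.KFlatLib.Derived
import Mathlib.Algebra.Homology.DerivedCategory.Fractions
import Mathlib.CategoryTheory.Functor.Derived.PointwiseLeftDerived

/-!
# `- ⊗^L P` is the tensor product with a K-flat replacement of `P`
-/

set_option autoImplicit false
set_option linter.style.haveILetI false
set_option linter.unusedSectionVars false

universe w v u v' u'

open CategoryTheory CategoryTheory.Limits HomologicalComplex
attribute [local instance] HasDerivedCategory.standard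

namespace Groth.Agent.DerCompLib

section Abstract

variable {A : Type u} [Category.{v} A] [Abelian A] [HasDerivedCategory.{w} A]
  {H : Type u'} [Category.{v'} H] {F : CochainComplex A ℤ ⥤ H}
  (R : CochainComplex A ℤ → Prop)

/-- A functor on the derived category agreeing with `F` on enough resolutions is its left derived functor. -/
theorem isRightKanExtension_of_iso_on_resolutions (G : DerivedCategory A ⥤ H)
    (β : DerivedCategory.Q ⋙ G ⟶ F)
    (hres : ∀ Y, ∃ (X : CochainComplex A ℤ) (q : X ⟶ Y), R X ∧ IsIso (DerivedCategory.Q.map q))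
    (hβ : ∀ X, R X → IsIso (β.app X)) : G.IsRightKanExtension β := by
  choose X q hX hq using hres
  have hb : ∀ Y, IsIso (β.app (X Y)) := fun Y => hβ _ (hX Y)
  have uniq : ∀ (S : DerivedCategory A ⥤ H) (γ γ' : S ⟶ G),
      (∀ Y, γ.app (DerivedCategory.Q.obj Y) ≫ β.app Y = γ'.app (DerivedCategory.Q.obj Y) ≫ β.app Y) →
      γ = γ' := by
    intro S γ γ' h
    refine Localization.natTrans_ext DerivedCategory.Q (HomologicalComplex.quasiIso A (ComplexShape.up ℤ))
      fun Y => ?_
    have := hq Y
    have := hb Y
    refine (cancel_epi (S.map (DerivedCategory.Q.map (q Y)))).1 ?_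
    rw [γ.naturality, γ'.naturality]
    exact congrArg (· ≫ _) ((cancel_mono (β.app (X Y))).1 (h (X Y)))
  have ex : ∀ s : CostructuredArrow ((Functor.whiskeringLeft _ _ H).obj DerivedCategory.Q) F,
      ∃ γ : s.left ⟶ G, ∀ Y, γ.app (DerivedCategory.Q.obj Y) ≫ β.app Y = s.hom.app Y := by
    intro s
    let σ : DerivedCategory.Q ⋙ s.left ⟶ F := s.hom
    let t : ∀ Y, s.left.obj (DerivedCategory.Q.obj (X Y)) ⟶ G.obj (DerivedCategory.Q.obj (X Y)) := fun Y =>
      haveI := hb Y
      σ.app (X Y) ≫ inv (β.app (X Y))
    have key : ∀ (Y Y' : CochainComplex A ℤ)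
        (ξ : DerivedCategory.Q.obj (X Y) ⟶ DerivedCategory.Q.obj (X Y')),
        s.left.map ξ ≫ t Y' = t Y ≫ G.map ξ := by
      intro Y Y' ξ
      obtain ⟨Z, a, ha, b, rfl⟩ := DerivedCategory.right_fac ξ
      have hn : ∀ {W : CochainComplex A ℤ} (W' : CochainComplex A ℤ) (k : W ⟶ X W') [IsIso (β.app W)],
          s.left.map (DerivedCategory.Q.map k) ≫ t W' =
            (σ.app W ≫ inv (β.app W)) ≫ G.map (DerivedCategory.Q.map k) := by
        intro W W' k _
        haveI := hb W'
        rw [← cancel_mono (β.app (X W'))]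
        simp only [t, Category.assoc, IsIso.inv_hom_id, Category.comp_id]
        refine (σ.naturality k).trans ?_
        congr 1
        exact ((IsIso.inv_comp_eq _).2 (β.naturality k)).symm
      haveI := hb Z
      haveI := hq Z
      have h1 := hn Y (q Z ≫ a)
      have h2 := hn Y' (q Z ≫ b)
      simp only [Functor.map_comp] at h1 h2 ⊢
      rw [← cancel_epi (s.left.map (DerivedCategory.Q.map a)),
        ← cancel_epi (s.left.map (DerivedCategory.Q.map (q Z)))]
      simp only [Category.assoc, Functor.map_inv, IsIso.hom_inv_id_assoc] at h1 h2 ⊢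
      rw [h2, reassoc_of% h1]
      congr 2
      simp
    let τ : DerivedCategory.Q ⋙ s.left ⟶ DerivedCategory.Q ⋙ G :=
      { app := fun Y =>
          haveI := hq Y
          inv (s.left.map (DerivedCategory.Q.map (q Y))) ≫ t Y ≫ G.map (DerivedCategory.Q.map (q Y))
        naturality := fun Y Y' f => by
          haveI := hq Y
          haveI := hq Y'
          let ξ := DerivedCategory.Q.map (q Y) ≫ DerivedCategory.Q.map f ≫ inv (DerivedCategory.Q.map (q Y'))
          have hk := key Y Y' ξ
          change s.left.map (DerivedCategory.Q.map f) ≫ _ = _ ≫ G.map (DerivedCategory.Q.map f)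
          rw [← cancel_epi (s.left.map (DerivedCategory.Q.map (q Y)))]
          simp only [ξ, Functor.map_comp, Functor.map_inv, Category.assoc, IsIso.hom_inv_id_assoc] at hk ⊢
          rw [reassoc_of% hk]
          simp }
    refine ⟨Localization.liftNatTrans DerivedCategory.Q (HomologicalComplex.quasiIso A (ComplexShape.up ℤ))
      _ _ s.left G τ, fun Y => ?_⟩
    haveI := hq Y
    haveI := hb Y
    rw [Localization.liftNatTrans_app]
    simp only [Localization.Lifting.iso, Functor.comp_obj, Iso.refl_hom, Iso.refl_inv, NatTrans.id_app,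
      Category.id_comp, Category.comp_id, τ, t, Category.assoc]
    rw [IsIso.inv_comp_eq]
    refine Eq.trans ?_ (σ.naturality (q Y)).symm
    congr 1
    rw [IsIso.inv_comp_eq]
    exact β.naturality (q Y)
  choose γ hγ using ex
  exact ⟨⟨IsTerminal.ofUniqueHom
    (fun s => CostructuredArrow.homMk (γ s) (NatTrans.ext (funext (hγ s))))
    (fun s m => CostructuredArrow.hom_ext _ _ (uniq s.left m.left (γ s) fun X =>
      (NatTrans.congr_app (CostructuredArrow.w m) X).trans (hγ s X).symm))⟩⟩

end Abstract

universe w₁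

variable {C : Type w₁} [SmallCategory C] {J : GrothendieckTopology C} {O : Sheaf J CommRingCat.{w₁}}

/-- `- ⊗^L P` is computed by a K-flat replacement of `P`. -/
theorem exists_lTensorCx_iso (P : CochainComplex (ModSite.Mod O) ℤ) [ModSite.HasLTensorCx P] :
    ∃ P' : CochainComplex (ModSite.Mod O) ℤ, ModSite.IsKFlat P' ∧
      Nonempty (DerivedCategory.Q ⋙ ModSite.LTensorCx P ≅ ModSite.tensorCxQ P') := by
  obtain ⟨P', r, hP', hr⟩ := _root_.ModSiteLib.exists_kFlat_resolution P
  refine ⟨P', hP', ?_⟩
  let W := HomologicalComplex.quasiIso (ModSite.Mod O) (ComplexShape.up ℤ)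
  have hinv : W.IsInvertedBy (ModSite.tensorCxQ P') := fun K L g (hg : QuasiIso g) => by
    haveI : QuasiIso (((ModSite.tensorCx O).flip.obj P').map g) :=
      KFlatLib.quasiIso_bimap₁ (ModSite.tensorBi O) P' hP' g
    exact (DerivedCategory.isIso_Q_map_iff_quasiIso (C := ModSite.Mod O)
      (((ModSite.tensorCx O).flip.obj P').map g)).2 inferInstance
  let G := Localization.lift (ModSite.tensorCxQ P') hinv DerivedCategory.Q
  let e : DerivedCategory.Q ⋙ G ≅ ModSite.tensorCxQ P' := Localization.fac _ hinv _
  let β : DerivedCategory.Q ⋙ G ⟶ ModSite.tensorCxQ P :=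
    e.hom ≫ Functor.whiskerRight ((ModSite.tensorCx O).flip.map r) DerivedCategory.Q
  haveI := isRightKanExtension_of_iso_on_resolutions (fun X => ModSite.IsKFlat X) G β
    (fun Y => by
      obtain ⟨X, q, hX, hq⟩ := _root_.ModSiteLib.exists_kFlat_resolution Y
      exact ⟨X, q, hX, (DerivedCategory.isIso_Q_map_iff_quasiIso (C := ModSite.Mod O) q).2 hq⟩)
    (fun X hX => by
      haveI : QuasiIso (((ModSite.tensorCx O).obj X).map r) := by
        haveI := hr
        exact _root_.ModSiteLib.quasiIso_map_right hX r
      haveI : IsIso (DerivedCategory.Q.map (((ModSite.tensorCx O).obj X).map r)) :=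
        (DerivedCategory.isIso_Q_map_iff_quasiIso (C := ModSite.Mod O) _).2 inferInstance
      exact inferInstanceAs (IsIso (e.hom.app X ≫ DerivedCategory.Q.map (((ModSite.tensorCx O).obj X).map r))))
  haveI : (ModSite.LTensorCx P).IsRightKanExtension
      ((ModSite.tensorCxQ P).totalLeftDerivedCounit DerivedCategory.Q W) :=
    Functor.IsLeftDerivedFunctor.isRightKanExtension _ _ W
  exact ⟨Functor.isoWhiskerLeft _ (Functor.rightKanExtensionUnique (ModSite.LTensorCx P)
    ((ModSite.tensorCxQ P).totalLeftDerivedCounit DerivedCategory.Q W) G β) ≪≫ e⟩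

end Groth.Agent.DerCompLib
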