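import Groth.Agent.DerCompLib.Restr

/-!
# Locality of the vanishing of `T(K, f)`
-/

set_option autoImplicit false
set_option linter.style.haveILetI false
set_option linter.unusedSectionVars false

universe u

open CategoryTheory CategoryTheory.Limits Opposite HomologicalComplex
open CategoryTheory.Pretriangulated (Triangle)

attribute [local instance] HasDerivedCategory.standard

namespace Groth.Agent.DerCompLib

variable {C : Type u} [SmallCategory C] {J : GrothendieckTopology C} {O : Sheaf J CommRingCat.{u}}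

/-- A family of objects to which every object is locally mapped. -/
def Covering (J : GrothendieckTopology C) (G : Set C) : Prop :=
  ∀ X : C, ∃ (ι : Type u) (Y : ι → C) (f : ∀ i, Y i ⟶ X), Sieve.ofArrows Y f ∈ J X ∧ ∀ i, Y i ∈ G

theorem isZero_homology_of_forall {G : Set C} (hG : Covering J G)
    (I : CochainComplex (ModSite.Mod O) ℤ)
    (h : ∀ W ∈ G, ∀ a : SiteCmp.inD O (ModSite.freeOn O W) ⟶ DerivedCategory.Q.obj I, a = 0) :
    IsZero (I.homology 0) := by
  have hπ : I.homologyπ 0 = 0 := by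
    refine ModSiteLib.freeOn_isSeparating O G hG _ _ ?_
    rintro _ ⟨W⟩ x
    let P := ModSite.freeOn O (W : C)
    have hx : (x ≫ I.iCycles 0) ≫ I.d 0 1 = 0 := by rw [Category.assoc, iCycles_d, comp_zero]
    let φ : (CochainComplex.singleFunctor (ModSite.Mod O) 0).obj P ⟶ I :=
      mkHomFromSingle (x ≫ I.iCycles 0) (fun j hj => by
        obtain rfl : (0 : ℤ) + 1 = j := hj
        exact hx)
    have h0 : DerivedCategory.Q.map φ = 0 := by
      rw [← cancel_epi ((DerivedCategory.singleFunctorIsoCompQ (ModSite.Mod O) 0).app P).hom, comp_zero]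
      exact h W W.2 _
    have h1 : homologyMap φ 0 = 0 := by
      have := DerivedCategory.homologyFunctorFactors_hom_naturality φ 0
      rw [h0, Functor.map_zero, zero_comp] at this
      exact (cancel_epi ((DerivedCategory.homologyFunctorFactors (ModSite.Mod O) 0).app _).hom).1
        (this.symm.trans comp_zero.symm)
    let φ' : (single (ModSite.Mod O) (ComplexShape.up ℤ) 0).obj P ⟶ I := φ
    have hφ' : φ'.f 0 = (singleObjXSelf (ComplexShape.up ℤ) 0 P).hom ≫ x ≫ I.iCycles 0 :=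
      mkHomFromSingle_f _ _
    have h1' : homologyMap φ' 0 = 0 := h1
    have h2 : cyclesMap φ' 0 = (singleObjCyclesSelfIso (ComplexShape.up ℤ) 0 P).hom ≫ x := by
      rw [← cancel_mono (I.iCycles 0), cyclesMap_i, hφ', singleObjCyclesSelfIso_hom]
      simp only [Category.assoc]
    rw [comp_zero, ← cancel_epi (singleObjCyclesSelfIso (ComplexShape.up ℤ) 0 P).hom, comp_zero,
      ← Category.assoc, ← h2, ← homologyπ_naturality, h1', comp_zero]
  rw [IsZero.iff_id_eq_zero, ← cancel_epi (I.homologyπ 0), hπ, zero_comp, comp_zero]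

/-- An object all of whose classes over a covering family vanish is zero. -/
theorem isZero_of_forall {G : Set C} (hG : Covering J G) (Z : DerivedCategory (ModSite.Mod O))
    (h : ∀ W ∈ G, ∀ n : ℤ, Subsingleton (SiteCmp.inD O (ModSite.freeOn O W) ⟶ Z⟦n⟧)) : IsZero Z := by
  let K := DerivedCategory.Q.objPreimage Z
  let e : DerivedCategory.Q.obj K ≅ Z := DerivedCategory.Q.objObjPreimageIso Z
  refine IsZero.of_iso (DerLib.KInjUse.isZero_Q_obj fun n => ?_) e.symm
  rw [exactAt_iff_isZero_homology]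
  let e' : DerivedCategory.Q.obj (K⟦n⟧) ≅ Z⟦n⟧ :=
    (DerivedCategory.Q.commShiftIso n).app K ≪≫ (shiftFunctor _ n).mapIso e
  refine IsZero.of_iso (isZero_homology_of_forall hG (K⟦n⟧) fun W hW a => ?_)
    ((((HomologicalComplex.homologyFunctor (ModSite.Mod O) (ComplexShape.up ℤ) 0).shiftIso n 0 n
      (add_zero n)).app K).symm)
  rw [← cancel_mono e'.hom]
  exact (h W hW n).elim _ _

/-- Products of countably many copies exist. -/
theorem hasProduct_copies (K : DerivedCategory (ModSite.Mod O)) : HasProduct fun _ : ℕ => K :=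
  haveI := DerLib.KInjUse.hasProduct (fun _ : ULift.{u} ℕ => K)
  haveI := hasLimit_of_iso (F := Discrete.functor fun _ : ULift.{u} ℕ => K)
    (G := (Discrete.equivalence Equiv.ulift.{u}).functor ⋙ Discrete.functor fun _ : ℕ => K)
    (Discrete.natIso fun _ => Iso.refl _)
  hasLimit_of_equivalence_comp (Discrete.equivalence Equiv.ulift.{u})

theorem smulEnd_freeOn (s : DerComp.GSec O) (W : C) :
    DerComp.smulEnd s (ModSite.freeOn O W) = mulFree W (s.1 W) := by
  apply (ModSiteLib.freeOnEquiv _ W).injective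
  simp only [mulFree, Equiv.apply_symm_apply]
  rw [freeOnEquiv_eq W (DerComp.smulEnd s _)]
  rfl

theorem subsingleton_cone {D : Type*} [Category D] [Preadditive D] [HasZeroObject D] [HasShift D ℤ]
    [∀ n : ℤ, (shiftFunctor D n).Additive] [Pretriangulated D] {P Q Z : D} {θ : P ⟶ Q} {p : Q ⟶ Z}
    {q : Z ⟶ P⟦(1 : ℤ)⟧} (hT : Triangle.mk θ p q ∈ Pretriangulated.distinguishedTriangles) (X : D)
    (hn : ∀ m : ℤ, Function.Bijective fun a : X ⟶ P⟦m⟧ => a ≫ θ⟦m⟧') (n : ℤ) :
    Subsingleton (X ⟶ Z⟦n⟧) := by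
  refine ⟨fun a b => sub_eq_zero.1 ?_⟩
  generalize a - b = z
  let i := shiftFunctorAdd' D (1 : ℤ) n (n + 1) (by omega)
  have hi : ∀ {A B : D} (t : A ⟶ B), (t⟦(1 : ℤ)⟧')⟦n⟧' ≫ i.inv.app B = i.inv.app A ≫ t⟦n + 1⟧' :=
    fun t => i.inv.naturality t
  have h1 : z ≫ q⟦n⟧' = 0 := by
    rw [← cancel_mono (i.inv.app P), zero_comp]
    refine (hn (n + 1)).1 ?_
    change ((z ≫ q⟦n⟧') ≫ i.inv.app P) ≫ θ⟦n + 1⟧' = 0 ≫ θ⟦n + 1⟧'
    rw [Category.assoc, Category.assoc, ← hi, ← Functor.map_comp_assoc,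
      show q ≫ θ⟦(1 : ℤ)⟧' = 0 from Pretriangulated.comp_distTriang_mor_zero₃₁ _ hT,
      Functor.map_zero, zero_comp, comp_zero, zero_comp]
  let T' := (Triangle.shiftFunctor D n).obj (Triangle.mk θ p q)
  have hT' : T' ∈ Pretriangulated.distinguishedTriangles := Triangle.shift_distinguished _ hT n
  let z' : X ⟶ T'.obj₃ := z
  have e2 : T'.mor₂ = n.negOnePow • p⟦n⟧' := rfl
  obtain ⟨y, hy⟩ := Triangle.coyoneda_exact₃ T' hT' z' (by
    have e3 : ∀ (c : (Z⟦n⟧ : D) ⟶ (P⟦n⟧)⟦(1 : ℤ)⟧), c = n.negOnePow • (q⟦n⟧' ≫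
        (shiftFunctorComm D (1 : ℤ) n).hom.app P) → z ≫ c = 0 := by
      rintro c rfl
      rw [Linear.comp_units_smul, ← Category.assoc, h1, zero_comp, smul_zero]
    exact e3 T'.mor₃ rfl)
  have e : ∀ (y : X ⟶ Q⟦n⟧), y ≫ (n.negOnePow • p⟦n⟧') = (n.negOnePow • y) ≫ p⟦n⟧' := fun y => by
    rw [Linear.comp_units_smul, Linear.units_smul_comp]
  obtain ⟨y', hy'⟩ := (hn n).2 (n.negOnePow • (show X ⟶ Q⟦n⟧ from y))
  have hz : z = (y' ≫ θ⟦n⟧') ≫ p⟦n⟧' := by
    rw [show y' ≫ θ⟦n⟧' = _ from hy', ← e]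
    exact hy
  rw [hz, Category.assoc, ← Functor.map_comp,
    show θ ≫ p = 0 from Pretriangulated.comp_distTriang_mor_zero₁₂ _ hT, Functor.map_zero, comp_zero]

variable (s : DerComp.GSec O) (K : DerivedCategory (ModSite.Mod O))

theorem smulD_shift (n : ℤ) : ((s • 𝟙 K)⟦n⟧' : K⟦n⟧ ⟶ K⟦n⟧) = s • 𝟙 (K⟦n⟧) := by
  rw [Functor.map_smul, CategoryTheory.Functor.map_id]

theorem sec_smul {W : C} (x : Sec W K) :
    (show SiteCmp.inD O (ModSite.freeOn O W) ⟶ K from x) ≫ (s • 𝟙 K) =
      (show SiteCmp.inD O (ModSite.freeOn O W) ⟶ K from s.1 W • x) := by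
  change _ = mulD W (s.1 W) ≫ _
  rw [Linear.comp_smul, Category.comp_id, mulD, ← smulEnd_freeOn,
    show DerComp.smulEnd s (ModSite.freeOn O W) = s • 𝟙 _ from (Category.comp_id _).symm,
    Functor.map_smul, CategoryTheory.Functor.map_id, Linear.smul_comp, Category.id_comp]

/-- The map of which `T(K, s)` is the fibre. -/
noncomputable abbrev thetaT [HasProduct fun _ : ℕ => K] :
    (∏ᶜ fun _ : ℕ => K) ⟶ ∏ᶜ fun _ : ℕ => K :=
  Pi.lift fun k => Pi.π (fun _ : ℕ => K) k - Pi.π (fun _ : ℕ => K) (k + 1) ≫ (s • 𝟙 K)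

theorem fComplete_iff_bijective [HasProduct fun _ : ℕ => K] (W : C) (n : ℤ) :
    DCompLib.FComplete (s.1 W) (Sec W (K⟦n⟧)) ↔ Function.Bijective
      fun a : SiteCmp.inD O (ModSite.freeOn O W) ⟶ (∏ᶜ fun _ : ℕ => K)⟦n⟧ => a ≫ (thetaT s K)⟦n⟧' := by
    let P := ∏ᶜ fun _ : ℕ => K
    let π : ∀ k : ℕ, P ⟶ K := Pi.π (fun _ : ℕ => K)
    let θ : P ⟶ P := thetaT s K
    haveI : PreservesLimitsOfShape (Discrete ℕ) (shiftFunctor (DerivedCategory (ModSite.Mod O)) n) :=
      inferInstance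
    let c := isLimitFanMkObjOfIsLimit (shiftFunctor _ n) _ _ (productIsProduct fun _ : ℕ => K)
    have hb : Function.Bijective fun (a : SiteCmp.inD O (ModSite.freeOn O W) ⟶ P⟦n⟧) (k : ℕ) =>
        (show Sec W (K⟦n⟧) from a ≫ (π k)⟦n⟧') := by
      refine ⟨fun a b hab => c.hom_ext fun j => congrFun hab j.as, fun y => ?_⟩
      exact ⟨c.lift (Fan.mk _ y), funext fun k => c.fac (Fan.mk _ y) ⟨k⟩⟩
    let E := Equiv.ofBijective _ hb
    rw [← Equiv.comp_bijective _ E, ← Equiv.bijective_comp E.symm]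
    unfold DCompLib.FComplete
    congr! 1
    funext x k
    obtain ⟨a, rfl⟩ := hb.2 x
    have ea : E.symm (fun k => (show Sec W (K⟦n⟧) from a ≫ (π k)⟦n⟧')) = a := E.symm_apply_apply a
    simp only [Function.comp_apply]
    erw [ea]
    change _ = (a ≫ θ⟦n⟧') ≫ (π k)⟦n⟧'
    rw [Category.assoc, ← Functor.map_comp, show θ ≫ π k = π k - π (k + 1) ≫ (s • 𝟙 K) from
      Pi.lift_π _ _, Functor.map_sub, Functor.map_comp, smulD_shift, Preadditive.comp_sub,
      ← Category.assoc, sec_smul]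
    rfl

/-- The fibre of `T(K, s)` vanishes if it does so over a covering. -/
theorem isIso_thetaT [HasProduct fun _ : ℕ => K] {G : Set C} (hG : Covering J G)
    (h : ∀ W ∈ G, TV W (s.1 W) K) : IsIso (thetaT s K) := by
  obtain ⟨Z, p, q, hT⟩ := Pretriangulated.distinguished_cocone_triangle (thetaT s K)
  exact (Triangle.isZero₃_iff_isIso₁ _ hT).1 (isZero_of_forall hG Z fun W hW n =>
    subsingleton_cone hT _ (fun m => (fComplete_iff_bijective s K W m).1 (h W hW m)) n)

/-- Vanishing of `T(K, s)` is local for the topology. -/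
theorem tv_of_covering {G : Set C} (hG : Covering J G) (h : ∀ W ∈ G, TV W (s.1 W) K) (V : C) :
    TV V (s.1 V) K := by
  haveI := hasProduct_copies K
  haveI := isIso_thetaT s K hG h
  exact fun n => (fComplete_iff_bijective s K V n).2 (asIso ((thetaT s K)⟦n⟧')).homToEquiv.bijective

theorem covering_over {U : C} {S : Sieve U} (hS : S ∈ J U) :
    Covering (J.over U) {W : Over U | S.arrows W.hom} := by
  intro X
  refine ⟨Σ Z : Over U, {g : Z ⟶ X // S.arrows Z.hom}, fun x => x.1, fun x => x.2.1, ?_, fun x => x.2.2⟩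
  rw [GrothendieckTopology.mem_over_iff]
  refine J.superset_covering ?_ (J.pullback_stable X.hom hS)
  intro Y g hg
  rw [Sieve.overEquiv_iff]
  let F : (Σ Z : Over U, {h : Z ⟶ X // S.arrows Z.hom}) → Over U := fun x => x.1
  exact Sieve.ofArrows_mk (Y := F) (fun x => x.2.1)
    ⟨Over.mk (g ≫ X.hom), ⟨Over.homMk g, hg⟩⟩

variable (O) in
/-- The sections `f` over `U` with `T(K|_U, f) = 0`. -/
def VanishSect (U : C) : Set (O.obj.obj (op U)) :=
  {f | ∀ (W : C) (g : W ⟶ U), TV W ((O.obj.map g.op).hom f) K}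

theorem vanish_glue {U : C} {f : O.obj.obj (op U)} (S : Sieve U) (hS : S ∈ J U)
    (h : ∀ ⦃V : C⦄ (g : V ⟶ U), S g → (O.obj.map g.op).hom f ∈ VanishSect O K V) :
    f ∈ VanishSect O K U := by
  intro W g
  refine (tv_restr_iff (Over.mk g) ((O.obj.map g.op).hom f) K).1 ?_
  refine tv_of_covering (O := O.over U) (DerComp.GSec.ofSect O U f) ((restrD O U).obj K)
    (covering_over hS) (fun Y hY => (tv_restr_iff Y _ K).2 ?_) (Over.mk g)
  simpa [DerComp.GSec.ofSect] using h Y.hom hY Y.left (𝟙 _)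

/-- The sheaf of ideals of sections `f` with `T(K|_U, f) = 0`. -/
def vanishIdeal : DerComp.IdealSh O where
  ideal U :=
    { carrier := VanishSect O K U
      zero_mem' := fun W g n => by rw [map_zero]; exact .zero
      add_mem' := fun ha hb W g n => by rw [map_add]; exact (ha W g n).add (hb W g n)
      smul_mem' := fun a f hf W g n => by
        rw [smul_eq_mul, map_mul]
        exact (hf W g n).mul_left _ }
  map_mem {U V} g f hf := fun W g' => by
    rw [← CommRingCat.comp_apply, ← Functor.map_comp, ← op_comp]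
    exact hf W (g' ≫ g)
  glue S hS h := vanish_glue K S hS h

/-- Derived completeness says that `I` is contained in the vanishing ideal. -/
theorem isDerComp_iff_le (I : DerComp.IdealSh O) :
    DerComp.IsDerComp O I K ↔ I ≤ vanishIdeal K := by
  constructor
  · intro h U f hf W g
    exact (subsingleton_tests_iff W _ K).1 (h W _ (I.map_mem g hf))
  · intro h U f hf
    refine (subsingleton_tests_iff U f K).2 ?_
    have := h U hf U (𝟙 U)
    simpa using this

end Groth.Agent.DerCompLib
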