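import Groth.Agent.S13484
import Groth.Agent.DerCompLib.LTensorFlat
import Groth.Agent.DerCompLib.Local
import Groth.Agent.ModSiteLib.ProjFormula

/-!
# `RHom(P, L)` is derived complete if `L` is
-/

set_option autoImplicit false
set_option linter.style.haveILetI false
set_option linter.unusedSectionVars false
set_option backward.isDefEq.respectTransparency false

universe u

open CategoryTheory CategoryTheory.Limits Opposite HomologicalComplex
attribute [local instance] HasDerivedCategory.standard

namespace Groth.Agent.DerCompLib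

variable {C : Type u} [SmallCategory C] {J : GrothendieckTopology C} {O : Sheaf J CommRingCat.{u}}

theorem covering_univ : Covering J (Set.univ : Set C) := fun X =>
  ⟨PUnit, fun _ => X, fun _ => 𝟙 X, by
    convert J.top_mem X
    ext Y q
    simp only [Sieve.top_apply, iff_true]
    exact ⟨_, q, 𝟙 X, ⟨PUnit.unit⟩, Category.comp_id q⟩, fun _ => Set.mem_univ _⟩

theorem isZero_homology_of_isZero_Q {X : CochainComplex (ModSite.Mod O) ℤ}
    (h : IsZero (DerivedCategory.Q.obj X)) (i : ℤ) : IsZero (X.homology i) :=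
  ((DerivedCategory.homologyFunctor (ModSite.Mod O) i).map_isZero h).of_iso
    ((DerivedCategory.homologyFunctorFactors (ModSite.Mod O) i).app X).symm

/-- No maps from anything tensored with `O_s` to an object with vanishing `T(-, s)`. -/
theorem subsingleton_tFun (s : DerComp.GSec O) (K : DerivedCategory (ModSite.Mod O))
    (h : ∀ W, TV W (s.1 W) K) (A : CochainComplex (ModSite.Mod O) ℤ) :
    Subsingleton (DerivedCategory.Q.obj ((tFun s).obj A) ⟶ K) := by
  haveI := hasProduct_copies K
  obtain ⟨I, hI, ⟨e⟩⟩ := DerLib.KInjUse.exists_iso_Q_kInjective K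
  haveI := S13484.exists_piIso I e
  let θ := asIso (Pi.lift fun n : ℕ => DerivedCategory.Q.map (Pi.π (fun _ : ℕ => I) n) ≫ e.inv :
      DerivedCategory.Q.obj (prodC I) ⟶ ∏ᶜ fun _ : ℕ => K)
  haveI := isIso_thetaT s K covering_univ fun W _ => h W
  have hθ : DerivedCategory.Q.map (coteleC s I) ≫ θ.hom = θ.hom ≫ thetaT s K :=
    Limits.Pi.hom_ext _ _ fun n => by
      simp only [thetaT, θ, asIso_hom, Category.assoc, Pi.lift_π, Preadditive.comp_sub, Pi.lift_π_assoc,
        ← Functor.map_comp_assoc, coteleC, Functor.map_sub, Preadditive.sub_comp]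
      congr 1
      simp only [Linear.comp_smul, Category.comp_id, Functor.map_smul, Linear.smul_comp]
  haveI : IsIso (DerivedCategory.Q.map (coteleC s I)) := by
    rw [show DerivedCategory.Q.map (coteleC s I) = θ.hom ≫ thetaT s K ≫ θ.inv by
      rw [← reassoc_of% hθ, Iso.hom_inv_id, Category.comp_id]]
    infer_instance
  have hz : IsZero (DerivedCategory.Q.obj (coteleX s I)) :=
    (Pretriangulated.Triangle.isZero₁_iff_isIso₂ _ (Q_coteleX_distinguished s I)).2
      (inferInstanceAs (IsIso (DerivedCategory.Q.map (coteleC s I))))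
  have hz' : IsZero (DerivedCategory.Q.obj (teleX s (coteleX s I))) :=
    IsZero.of_iso (DerLib.KInjUse.isZero_Q_obj fun i => (exactAt_iff_isZero_homology _ _).2
      (acyclic_tFun s _ (isZero_homology_of_isZero_Q hz) i)) (teleIso s (coteleX s I))
  obtain ⟨f₀, hf₀⟩ := exists_transp s (coteleX s I) I (𝟙 _)
  refine ⟨fun a b => ?_⟩
  rw [← cancel_mono e.hom, ← cancel_epi (teleIso s A).hom]
  suffices H : ∀ g : DerivedCategory.Q.obj (teleX s A) ⟶ DerivedCategory.Q.obj I, g = 0 from
    (H _).trans (H _).symm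
  intro g
  obtain ⟨f, rfl⟩ := DerLib.KInjUse.Q_map_surjective (teleX s A) I g
  rw [← transp_injective s A I (a₁ := teleMapX s (transp s A I f) ≫ f₀) (a₂ := f)
      (by rw [transp_comp_left, hf₀, Category.comp_id]),
    Functor.map_comp, hz'.eq_of_src (DerivedCategory.Q.map f₀) 0, comp_zero]

variable (V : C)

/-- `j_! G ⊗ M = j_!(G ⊗ M|V)`. -/
noncomputable def projFunIso (G : ModSite.Mod (O.over V)) :
    ModSite.restr O V ⋙ (ModSite.tensorBi (O.over V)).obj G ⋙ ModSite.extZero O V ≅
      (ModSite.tensorBi O).obj ((ModSite.extZero O V).obj G) :=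
  NatIso.ofComponents (fun N => _root_.ModSiteLib.projIso (U := V) G N)
    fun b => _root_.ModSiteLib.projMap_natural_right V G b

/-- The two sides of the tensor product. -/
noncomputable def symFunIso (G : ModSite.Mod O) :
    (ModSite.tensorBi O).obj G ≅ (ModSite.tensorBi O).flip.obj G :=
  NatIso.ofComponents (fun b => _root_.ModSiteLib.symX O G b) fun g => _root_.ModSiteLib.symX₂ G g

variable (g : O.obj.obj (op V))

/-- `(j_! O_{V,g}) ⊗ P'` is extended by zero from `C/V`. -/
noncomputable def awayTensorIso (P' : CochainComplex (ModSite.Mod O) ℤ) :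
    ((ModSite.tensorCx O).obj ((single (ModSite.Mod O) (ComplexShape.up ℤ) 0).obj (awayMod V g))).obj P' ≅
      ((ModSite.extZero O V).mapHomologicalComplex (ComplexShape.up ℤ)).obj
        ((tFun (DerComp.GSec.ofSect O V g)).obj
          (((ModSite.restr O V).mapHomologicalComplex (ComplexShape.up ℤ)).obj P')) :=
  (_root_.Groth.Agent.ModSiteLib.BimapExact.singleIso (ModSite.tensorBi O) P' (awayMod V g)).symm ≪≫
    ((NatIso.mapHomologicalComplex (projFunIso V (DerComp.awayOver O V g)).symm (ComplexShape.up ℤ)).app P') ≪≫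
    (Iso.refl _) ≪≫
    ((ModSite.extZero O V).mapHomologicalComplex (ComplexShape.up ℤ)).mapIso
      ((NatIso.mapHomologicalComplex (symFunIso (DerComp.awayOver O V g)) (ComplexShape.up ℤ)).app
        (((ModSite.restr O V).mapHomologicalComplex (ComplexShape.up ℤ)).obj P'))

theorem subsingleton_test_rhom (I : DerComp.IdealSh O) (P : CochainComplex (ModSite.Mod O) ℤ)
    [ModSite.HasLTensorCx P] [DerComp.HasRHom P] (L : DerivedCategory (ModSite.Mod O))
    (hL : DerComp.IsDerComp O I L) (hg : g ∈ I.ideal V) (n : ℤ) :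
    Subsingleton (SiteCmp.inD O (awayMod V g) ⟶ ((DerComp.RHom P).obj L)⟦n⟧) := by
  obtain ⟨P', hP', ⟨η⟩⟩ := exists_lTensorCx_iso P
  let G := ModSite.extZero O V
  let S := (single (ModSite.Mod O) (ComplexShape.up ℤ) 0).obj (awayMod V g)
  let X : CochainComplex (ModSite.Mod O) ℤ := S⟦-n⟧
  let Y := ((ModSite.tensorCx O).obj S).obj P'
  let A := ((ModSite.restr O V).mapHomologicalComplex (ComplexShape.up ℤ)).obj P'
  let B := (tFun (DerComp.GSec.ofSect O V g)).obj A
  have hK : ∀ W : Over V,
      TV (O := O.over V) W ((DerComp.GSec.ofSect O V g).1 W) ((restrD O V).obj (L⟦n⟧)) := fun W =>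
    (tv_restr_iff W _ _).2 ((subsingleton_tests_iff W.left _ _).1 fun m =>
      (Equiv.subsingleton_congr
        ((Iso.refl _).homCongr ((shiftFunctorAdd (DerivedCategory (ModSite.Mod O)) n m).app L))).1
        ((subsingleton_tests_iff W.left _ L).2 ((isDerComp_iff_le L I).1 hL V hg W.left W.hom) (n + m)))
  haveI h0 := subsingleton_tFun (DerComp.GSec.ofSect O V g) _ hK A
  -- maps out of the test are maps out of its shift
  let e1 : (SiteCmp.inD O (awayMod V g))⟦-n⟧ ≅ DerivedCategory.Q.obj X :=
    (shiftFunctor _ (-n)).mapIso ((DerivedCategory.singleFunctorIsoCompQ _ 0).app _) ≪≫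
      ((DerivedCategory.Q.commShiftIso (-n)).app S).symm
  let e2 : (ModSite.LTensorCx P).obj (DerivedCategory.Q.obj X) ≅ (DerivedCategory.Q.obj Y)⟦-n⟧ :=
    η.app X ≪≫ DerivedCategory.Q.mapIso
        (CochainComplex.mapBifunctorShift₁Iso S P' (ModSite.tensorBi O) (-n)) ≪≫
      (DerivedCategory.Q.commShiftIso (-n)).app Y
  let e3 : DerivedCategory.Q.obj Y ≅ (extZeroD O V).obj (DerivedCategory.Q.obj B) :=
    DerivedCategory.Q.mapIso (awayTensorIso V g P') ≪≫ (G.mapDerivedCategoryFactors.app B).symm
  haveI h1 : Subsingleton ((DerivedCategory.Q.obj Y)⟦-n⟧ ⟶ L) := by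
    refine (Equiv.subsingleton_congr ?_).2 h0
    exact ((shiftEquiv' _ (-n) n (by omega)).toAdjunction.homEquiv _ L).trans
      ((e3.homCongr (Iso.refl _)).trans ((extRestrAdj O V).homEquiv _ _))
  haveI h2 : Subsingleton ((SiteCmp.inD O (awayMod V g))⟦-n⟧ ⟶ (DerComp.RHom P).obj L) := by
    refine (Equiv.subsingleton_congr ?_).2 h1
    exact (e1.homCongr (Iso.refl _)).trans (((DerComp.RHomAdj P).homEquiv _ L).symm.trans
      (e2.homCongr (Iso.refl _)))
  exact (Equiv.subsingleton_congr
    ((shiftEquiv' _ (-n) n (by omega)).toAdjunction.homEquiv _ _)).1 h2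

end Groth.Agent.DerCompLib
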