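import Groth.Agent.ModSiteLib.Flat
import Groth.Agent.ModSiteLib.FlatLocal
import Groth.Agent.ModSiteLib.EqnOfFlat
import Groth.Agent.ModSiteLib.ShT
import Groth.Agent.DerCompLib.TeleMono
import Groth.Agent.ModSiteLib.Grothendieck
import Groth.Prelude.Def_DerComp

/-!
# Tensoring with `O_s`
-/

set_option autoImplicit false
set_option linter.style.haveILetI false
set_option linter.unusedSectionVars false
set_option backward.isDefEq.respectTransparency false

universe u

open CategoryTheory CategoryTheory.Limits Opposite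

namespace Groth.Agent.DerCompLib

variable {C : Type u} [SmallCategory C] {J : GrothendieckTopology C} {O : Sheaf J CommRingCat.{u}}

open _root_.ModSiteLib in
theorem tensorBi_smulEnd (s : DerComp.GSec O) (M N : ModSite.Mod O) :
    ((ModSite.tensorBi O).obj M).map (DerComp.smulEnd s N) =
      DerComp.smulEnd s (((ModSite.tensorBi O).obj M).obj N) := by
  refine tens_hom_ext fun V m n => ?_
  refine (ap_tensorBi₂ M _ m n).trans ?_
  exact shT_smul_right M N (s.1 V) m n

open _root_.ModSiteLib in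
/-- The structure sheaf is a right unit. -/
noncomputable def rightUnit :
    (ModSite.tensorBi O).flip.obj (ModSite.unit O) ≅ 𝟭 (ModSite.Mod O) :=
  tensorFlipIso O (ModSite.unit O) ≪≫ NatIso.ofComponents (fun M => unitTensorIso M) fun {M N} f => by
    refine tens_hom_ext fun V r m => ?_
    change ap (unitTensorIso N).hom V (ap (((ModSite.tensorBi O).obj _).map f) V (shT _ M r m)) =
      ap f V (ap (unitTensorIso M).hom V (shT _ M r m))
    rw [ap_tensorBi₂]
    exact (ap_unitTensorIso N (r : O.obj.obj (op V)) _).trans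
      ((ap_smul f V _ m).symm.trans (congrArg (ap f V) (ap_unitTensorIso M _ m).symm))

variable (s : DerComp.GSec O)

/-- `O_s`. -/
noncomputable abbrev Pz : ModSite.Mod O := DerComp.locAway s (ModSite.unit O)

/-- The `n`-th structure map of `O_s`. -/
noncomputable abbrev cz (n : ℕ) : ModSite.unit O ⟶ Pz s :=
  Sigma.ι (fun _ : ℕ => ModSite.unit O) n ≫ cokernel.π (DerComp.awayMap s (ModSite.unit O))

theorem cz_rel (n : ℕ) : cz s n = DerComp.smulEnd s (ModSite.unit O) ≫ cz s (n + 1) := by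
  have h := congrArg (fun t => Sigma.ι (fun _ : ℕ => ModSite.unit O) n ≫ t)
    (cokernel.condition (DerComp.awayMap s (ModSite.unit O)))
  simp only [DerComp.awayMap, Sigma.ι_desc_assoc, Preadditive.sub_comp, Category.assoc, comp_zero,
    sub_eq_zero] at h
  exact h

/-- `M ⟶ M ⊗ O_s`, the `n`-th map. -/
noncomputable def tz (n : ℕ) : 𝟭 (ModSite.Mod O) ⟶ (ModSite.tensorBi O).flip.obj (Pz s) :=
  rightUnit.inv ≫ (ModSite.tensorBi O).flip.map (cz s n)

theorem tz_app (n : ℕ) (M : ModSite.Mod O) :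
    (tz s n).app M = rightUnit.inv.app M ≫ ((ModSite.tensorBi O).obj M).map (cz s n) := rfl

theorem tz_rel (n : ℕ) (M : ModSite.Mod O) :
    (tz s n).app M = DerComp.smulEnd s M ≫ (tz s (n + 1)).app M := by
  rw [tz_app, tz_app, cz_rel, Functor.map_comp, tensorBi_smulEnd, ← Category.assoc]
  exact (congrArg (· ≫ _) (DerComp.smulEnd_comm s (rightUnit.inv.app M)).symm).trans (Category.assoc _ _ _)

/-- The telescope of a module. -/
noncomputable def tele (M : ModSite.Mod O) : (∐ fun _ : ℕ => M) ⟶ ∐ fun _ : ℕ => M :=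
  DerComp.awayMap s M

/-- The map from the countable sum to `M ⊗ O_s`. -/
noncomputable def teleπ (M : ModSite.Mod O) :
    (∐ fun _ : ℕ => M) ⟶ ((ModSite.tensorBi O).flip.obj (Pz s)).obj M :=
  Sigma.desc fun n => (tz s n).app M

theorem tele_teleπ (M : ModSite.Mod O) : tele s M ≫ teleπ s M = 0 :=
  Limits.Sigma.hom_ext _ _ fun n => by
    simp only [tele, DerComp.awayMap, teleπ, Sigma.ι_desc_assoc, Preadditive.sub_comp, Category.assoc,
      Sigma.ι_desc, comp_zero, sub_eq_zero]
    exact tz_rel s n M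

/-- `0 → ⊕ M → ⊕ M → M ⊗ O_s → 0`. -/
noncomputable abbrev teleSeq (M : ModSite.Mod O) : ShortComplex (ModSite.Mod O) :=
  ShortComplex.mk (tele s M) (teleπ s M) (tele_teleπ s M)

theorem teleπ_jointlyEpi (M : ModSite.Mod O) {T : ModSite.Mod O}
    {a b : ((ModSite.tensorBi O).flip.obj (Pz s)).obj M ⟶ T}
    (h : ∀ n, (tz s n).app M ≫ a = (tz s n).app M ≫ b) : a = b := by
  let G := (ModSite.tensorBi O).obj M
  haveI := _root_.ModSiteLib.preservesColimits_tensor O M
  haveI : PreservesColimitsOfSize.{0, 0} G := preservesColimitsOfSize_shrink.{0, u, 0, u} G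
  haveI : Epi (G.map (cokernel.π (DerComp.awayMap s (ModSite.unit O)))) := inferInstance
  refine (cancel_epi (G.map (cokernel.π (DerComp.awayMap s (ModSite.unit O))))).1 ?_
  refine (isColimitCofanMkObjOfIsColimit G _ _ (coproductIsCoproduct fun _ : ℕ => ModSite.unit O)).hom_ext
    fun j => ?_
  refine (cancel_epi (rightUnit.inv.app M)).1 ?_
  change rightUnit.inv.app M ≫ G.map (Sigma.ι (fun _ : ℕ => ModSite.unit O) j.as) ≫ _ ≫ a =
    rightUnit.inv.app M ≫ G.map (Sigma.ι (fun _ : ℕ => ModSite.unit O) j.as) ≫ _ ≫ b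
  have := h j.as
  rw [tz_app, Category.assoc, Category.assoc] at this
  rw [← Functor.map_comp_assoc, ← Functor.map_comp_assoc]
  exact this

theorem exists_desc (M : ModSite.Mod O) {T : ModSite.Mod O} (φ : ℕ → (M ⟶ T))
    (hφ : ∀ n, φ n = DerComp.smulEnd s M ≫ φ (n + 1)) :
    ∃ a : ((ModSite.tensorBi O).flip.obj (Pz s)).obj M ⟶ T, ∀ n, (tz s n).app M ≫ a = φ n := by
  let G := (ModSite.tensorBi O).obj M
  haveI := _root_.ModSiteLib.preservesColimits_tensor O M
  haveI : PreservesColimitsOfSize.{0, 0} G := preservesColimitsOfSize_shrink.{0, u, 0, u} G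
  let hf := isColimitCofanMkObjOfIsColimit G _ _ (coproductIsCoproduct fun _ : ℕ => ModSite.unit O)
  let a₁ := hf.desc (Cofan.mk T fun n => rightUnit.hom.app M ≫ φ n)
  have ha₁ : ∀ n, G.map (Sigma.ι (fun _ : ℕ => ModSite.unit O) n) ≫ a₁ = rightUnit.hom.app M ≫ φ n :=
    fun n => hf.fac _ ⟨n⟩
  have h0 : G.map (DerComp.awayMap s (ModSite.unit O)) ≫ a₁ = 0 := hf.hom_ext fun ⟨n⟩ => by
    change G.map (Sigma.ι (fun _ : ℕ => ModSite.unit O) n) ≫ G.map (DerComp.awayMap s _) ≫ a₁ =
      G.map (Sigma.ι (fun _ : ℕ => ModSite.unit O) n) ≫ 0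
    rw [comp_zero, ← Functor.map_comp_assoc, DerComp.awayMap, Sigma.ι_desc, Functor.map_sub,
      Preadditive.sub_comp, Functor.map_comp, Category.assoc, ha₁, ha₁, tensorBi_smulEnd,
      ← Category.assoc, DerComp.smulEnd_comm, Category.assoc, sub_eq_zero]
    exact congrArg (rightUnit.hom.app M ≫ ·) (hφ n)
  let hc := CokernelCofork.mapIsColimit _ (cokernelIsCokernel (DerComp.awayMap s (ModSite.unit O))) G
  obtain ⟨a, ha⟩ := CokernelCofork.IsColimit.desc' hc a₁ h0
  refine ⟨a, fun n => ?_⟩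
  rw [tz_app, Category.assoc, Functor.map_comp, Category.assoc]
  refine (congrArg (fun t => rightUnit.inv.app M ≫ G.map (Sigma.ι (fun _ : ℕ => ModSite.unit O) n) ≫ t)
    (show G.map (cokernel.π _) ≫ a = a₁ from ha)).trans ?_
  rw [ha₁, Iso.inv_hom_id_app_assoc]

theorem teleSeq_shortExact (M : ModSite.Mod O) : (teleSeq s M).ShortExact := by
  haveI hm : Mono (teleSeq s M).f := mono_telescope (DerComp.smulEnd s M) _ fun n => Sigma.ι_desc _ n
  have hg' : ∀ {T : ModSite.Mod O} (g : (∐ fun _ : ℕ => M) ⟶ T), tele s M ≫ g = 0 → ∀ n,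
      Sigma.ι (fun _ : ℕ => M) n ≫ g =
        DerComp.smulEnd s M ≫ Sigma.ι (fun _ : ℕ => M) (n + 1) ≫ g := by
    intro T g hg n
    have := congrArg (fun t => Sigma.ι (fun _ : ℕ => M) n ≫ t) hg
    simp only [tele, DerComp.awayMap, Sigma.ι_desc_assoc, Preadditive.sub_comp,
      Category.assoc, comp_zero, sub_eq_zero] at this
    exact this
  have hc : IsColimit (CokernelCofork.ofπ (teleSeq s M).g (teleSeq s M).zero) :=
    CokernelCofork.IsColimit.ofπ _ _
      (fun {T} g hg => (exists_desc s M _ (hg' g hg)).choose)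
      (fun {T} g hg => Limits.Sigma.hom_ext _ _ fun n => by
        rw [← Category.assoc]
        exact (congrArg (· ≫ _) (Sigma.ι_desc _ n)).trans ((exists_desc s M _ (hg' g hg)).choose_spec n))
      fun {T} g hg b hb => teleπ_jointlyEpi s M fun n => by
        rw [(exists_desc s M _ (hg' g hg)).choose_spec n, ← hb, ← Category.assoc]
        exact congrArg (· ≫ b) (Sigma.ι_desc (fun n => (tz s n).app M) n).symm
  exact
    { exact := (teleSeq s M).exact_of_g_is_cokernel hc
      epi_g := Cofork.IsColimit.epi hc }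

theorem teleπ_natural {M N : ModSite.Mod O} (f : M ⟶ N) :
    Limits.Sigma.map (fun _ : ℕ => f) ≫ teleπ s N =
      teleπ s M ≫ ((ModSite.tensorBi O).flip.obj (Pz s)).map f :=
  Limits.Sigma.hom_ext _ _ fun n => by
    simp only [teleπ, Sigma.ι_map_assoc, Sigma.ι_desc, Sigma.ι_desc_assoc]
    exact (tz s n).naturality f

theorem preservesExact_tensor_Pz {M N : ModSite.Mod O} (f : M ⟶ N) :
    Limits.Sigma.map (fun _ : ℕ => f) ≫ tele s N = tele s M ≫ Limits.Sigma.map (fun _ : ℕ => f) :=
  Limits.Sigma.hom_ext _ _ fun n => by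
    simp only [tele, DerComp.awayMap, Sigma.ι_map_assoc, Sigma.ι_desc, Sigma.ι_desc_assoc,
      Preadditive.comp_sub, Preadditive.sub_comp, Category.assoc, Sigma.ι_map]
    rw [← Category.assoc f, ← DerComp.smulEnd_comm, Category.assoc]

end Groth.Agent.DerCompLib
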