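import Groth.Agent.ModSiteLib.FlatLocal
import Groth.Agent.ModSiteLib.ExtZero
import Groth.Agent.DerCompLib.TensorAway
import Groth.Agent.DerCompLib.RHomComp

/-!
# Locally nilpotent action of a sheaf of ideals
-/

set_option autoImplicit false
set_option linter.style.haveILetI false
set_option linter.unusedSectionVars false
set_option backward.isDefEq.respectTransparency false

universe u

open CategoryTheory CategoryTheory.Limits Opposite

namespace Groth.Agent.DerCompLib

open _root_.ModSiteLib (jP aP adjP oLan mι oLanMap)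

variable {C : Type u} [SmallCategory C] {J : GrothendieckTopology C} {O : Sheaf J CommRingCat.{u}}

/-- Restriction of sections. -/
noncomputable abbrev rs (M : ModSite.Mod O) {Y Z : C} (k : Z ⟶ Y) (x : M.val.obj (op Y)) : M.val.obj (op Z) :=
  M.val.map k.op x

theorem rs_smul (M : ModSite.Mod O) {Y Z : C} (k : Z ⟶ Y) (f : O.obj.obj (op Y)) (x : M.val.obj (op Y)) :
    rs M k (scal Y f • x) = scal Z ((O.obj.map k.op).hom f) • rs M k x :=
  PresheafOfModules.map_smul M.val k.op (scal Y f) x

theorem rs_comp (M : ModSite.Mod O) {Y Z W : C} (k : Z ⟶ Y) (l : W ⟶ Z) (x : M.val.obj (op Y)) :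
    rs M (l ≫ k) x = rs M l (rs M k x) := by
  simp only [rs, op_comp, PresheafOfModules.map_comp_apply]

theorem map_map_sect {Y Z W : C} (k : Z ⟶ Y) (l : W ⟶ Z) (f : O.obj.obj (op Y)) :
    (O.obj.map (l ≫ k).op).hom f = (O.obj.map l.op).hom ((O.obj.map k.op).hom f) := by
  rw [op_comp, Functor.map_comp]; rfl

/-- The annihilator of a section. -/
def annI (M : ModSite.Mod O) {Z : C} (y : M.val.obj (op Z)) : Ideal (O.obj.obj (op Z)) where
  carrier := {r | scal Z r • y = 0}
  zero_mem' := zero_smul _ _
  add_mem' := fun {a b} ha hb => (add_smul (scal Z a) (scal Z b) y).trans (by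
    rw [show scal Z a • y = 0 from ha, show scal Z b • y = 0 from hb, add_zero])
  smul_mem' := fun c a ha => (mul_smul (scal Z c) (scal Z a) y).trans (by
    rw [show scal Z a • y = 0 from ha, smul_zero])

theorem annI_le_comap (M : ModSite.Mod O) {Z W : C} (l : W ⟶ Z) (y : M.val.obj (op Z)) :
    annI M y ≤ (annI M (rs M l y)).comap (O.obj.map l.op).hom := fun r hr =>
  (rs_smul M l r y).symm.trans ((congrArg (rs M l) hr).trans (map_zero (M.val.map l.op).hom))

theorem annI_le_smul (M : ModSite.Mod O) {Z : C} (c : O.obj.obj (op Z)) (y : M.val.obj (op Z)) :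
    annI M y ≤ annI M (scal Z c • y) := fun r hr => by
  have h1 : scal Z r • y = 0 := hr
  change scal Z r • scal Z c • y = 0
  rw [smul_smul, show scal Z r * scal Z c = scal Z c * scal Z r from mul_comm r c, mul_smul, h1, smul_zero]

theorem annI_inf_le_add (M : ModSite.Mod O) {Z : C} (y y' : M.val.obj (op Z)) :
    annI M y ⊓ annI M y' ≤ annI M (y + y') := fun r hr =>
  (smul_add (scal Z r) y y').trans (by
    rw [show scal Z r • y = 0 from hr.1, show scal Z r • y' = 0 from hr.2, add_zero])

/-- A power of `f` kills `x` after restricting along `k`. -/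
def NilAt (M : ModSite.Mod O) {Y Z : C} (k : Z ⟶ Y) (x : M.val.obj (op Y)) (f : O.obj.obj (op Y)) : Prop :=
  (O.obj.map k.op).hom f ∈ (annI M (rs M k x)).radical

/-- The sieve where a power of `f` kills `x`. -/
def nilSieve (M : ModSite.Mod O) {Y : C} (x : M.val.obj (op Y)) (f : O.obj.obj (op Y)) : Sieve Y where
  arrows Z k := NilAt M k x f
  downward_closed := by
    intro Z W k hk l
    change (O.obj.map (l ≫ k).op).hom f ∈ (annI M (rs M (l ≫ k) x)).radical
    rw [map_map_sect, rs_comp]
    exact Ideal.mem_comap.1 (((Ideal.radical_mono (annI_le_comap M l _)).trans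
      (Ideal.comap_radical _ _).ge) hk)

/-- `I` acts locally nilpotently on all sections of `M`. -/
def LNil (I : DerComp.IdealSh O) (M : ModSite.Mod O) : Prop :=
  ∀ (Y : C) (x : M.val.obj (op Y)) (f : O.obj.obj (op Y)), f ∈ I.ideal Y → nilSieve M x f ∈ J Y

theorem pullback_nilSieve {M : ModSite.Mod O} {Y Z : C} (k : Z ⟶ Y) (x : M.val.obj (op Y))
    (f : O.obj.obj (op Y)) :
    (nilSieve M x f).pullback k = nilSieve M (rs M k x) ((O.obj.map k.op).hom f) := by
  ext W l
  change (O.obj.map (l ≫ k).op).hom f ∈ (annI M (rs M (l ≫ k) x)).radical ↔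
    (O.obj.map l.op).hom ((O.obj.map k.op).hom f) ∈ (annI M (rs M l (rs M k x))).radical
  rw [map_map_sect, rs_comp]

/-- Local nilpotency for generators killing `M`. -/
theorem lnil_of_gen (I : DerComp.IdealSh O) {ι : Type*} (s : ι → DerComp.GSec O) (hI : I.IsGenBy s)
    (M : ModSite.Mod O) (h : ∀ i, ∃ m : ℕ, DerComp.smulEnd (s i ^ m) M = 0) : LNil I M := by
  let A : DerComp.IdealSh O :=
    { ideal := fun Y =>
        { carrier := {f | ∀ (Z : C) (k : Z ⟶ Y) (x : M.val.obj (op Z)),
            nilSieve M x ((O.obj.map k.op).hom f) ∈ J Z}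
          zero_mem' := fun Z k x => by
            refine J.superset_covering ?_ (J.top_mem Z)
            rintro W l -
            change (O.obj.map l.op).hom _ ∈ _
            rw [map_zero, map_zero]
            exact Submodule.zero_mem _
          add_mem' := fun {a b} ha hb Z k x => by
            refine J.superset_covering ?_ (J.intersection_covering (ha Z k x) (hb Z k x))
            rintro W l ⟨h1, h2⟩
            change (O.obj.map l.op).hom _ ∈ _
            rw [map_add, map_add]
            exact Submodule.add_mem _ h1 h2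
          smul_mem' := fun c a ha Z k x => by
            refine J.superset_covering ?_ (ha Z k x)
            rintro W l h1
            change (O.obj.map l.op).hom _ ∈ _
            rw [smul_eq_mul, map_mul, map_mul]
            exact Ideal.mul_mem_left _ _ h1 }
      map_mem := fun {Y Y'} g f hf Z k x => by
        rw [← map_map_sect]
        exact hf Z (k ≫ g) x
      glue := fun {Y f} S hS hloc Z k x => by
        refine J.transitive (J.pullback_stable k hS) _ fun W l hl => ?_
        rw [pullback_nilSieve, ← map_map_sect]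
        have := hloc (l ≫ k) hl W (𝟙 W) (rs M l x)
        simpa using this }
  have hA : A.Contains s := fun i Y Z k x => by
    obtain ⟨m, hm⟩ := h i
    refine J.superset_covering ?_ (J.top_mem Z)
    rintro W l -
    refine ⟨m, ?_⟩
    rw [← map_map_sect, (s i).2 (l ≫ k)]
    have e : ((DerComp.smulEnd (s i ^ m) M).val.app (op W)).hom (rs M l x) = 0 := by rw [hm]; rfl
    exact e
  intro Y x f hf
  have := hI.2 A hA Y hf Y (𝟙 Y) x
  simpa using this

theorem lnil_of_iso (I : DerComp.IdealSh O) {M M' : ModSite.Mod O} (e : M ≅ M') (h : LNil I M) :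
    LNil I M' := by
  intro Y x f hf
  refine J.superset_covering ?_ (h Y ((e.inv.val.app (op Y)).hom x) f hf)
  intro Z k hk
  refine Ideal.radical_mono (fun r hr => ?_) hk
  have h1 : rs M' k x = (e.hom.val.app (op Z)).hom (rs M k ((e.inv.val.app (op Y)).hom x)) := by
    exact ((PresheafOfModules.naturality_apply e.hom.val k.op _).trans
      (congrArg (rs M' k) congr((($(e.inv_hom_id)).val.app (op Y)).hom x))).symm
  change scal Z r • rs M' k x = 0
  rw [h1]
  refine ((e.hom.val.app (op Z)).hom.map_smul (scal Z r) _).symm.trans ?_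
  rw [show scal Z r • rs M k ((e.inv.val.app (op Y)).hom x) = 0 from hr]
  exact map_zero _

/-- Extension by zero keeps local nilpotency. -/
theorem lnil_extZero (I : DerComp.IdealSh O) (V : C) (N : ModSite.Mod (O.over V))
    (hN : LNil (I.over V) N) : LNil I ((ModSite.extZero O V).obj N) := by
  refine lnil_of_iso I ((_root_.ModSiteLib.extZeroIso O V).app N).symm ?_
  let G := (jP (O.over V)).obj N
  let L := (oLan O V).obj G
  change LNil I ((aP O).obj L)
  let η : L ⟶ (jP O).obj ((aP O).obj L) := (adjP O).unit.app L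
  intro Y x f hf
  have hW := _root_.ModSiteLib.W_unit O L
  rw [GrothendieckTopology.W_iff_isLocallyBijective] at hW
  haveI := hW.2
  refine J.transitive (Presheaf.imageSieve_mem J ((PresheafOfModules.toPresheaf _).map η) x) _
    fun Z k hk => ?_
  obtain ⟨p, hp⟩ := hk
  rw [pullback_nilSieve]
  have hfk := I.map_mem k hf
  rw [show rs ((aP O).obj L) k x = (η.app (op Z)).hom p from hp.symm]
  generalize (O.obj.map k.op).hom f = r at hfk
  -- the sections on which `r` is locally nilpotent
  let S : Submodule (O.obj.obj (op Z)) (L.obj (op Z)) :=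
    { carrier := {p | nilSieve ((aP O).obj L) ((η.app (op Z)).hom p) r ∈ J Z}
      zero_mem' := by
        refine J.superset_covering ?_ (J.top_mem Z)
        rintro W l -
        refine ⟨0, ?_⟩
        rw [map_zero]
        change scal W _ • rs _ l 0 = 0
        rw [show rs ((aP O).obj L) l 0 = 0 from map_zero _, smul_zero]
      add_mem' := fun {a b} ha hb => by
        refine J.superset_covering ?_ (J.intersection_covering ha hb)
        intro W l hl
        have := (Ideal.radical_inf _ _).ge (Submodule.mem_inf.2 hl)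
        change _ ∈ (annI _ (rs _ l ((η.app (op Z)).hom (a + b)))).radical
        rw [map_add, show rs ((aP O).obj L) l _ = _ from map_add _ _ _]
        exact Ideal.radical_mono (annI_inf_le_add _ _ _) this
      smul_mem' := fun c a ha => by
        refine J.superset_covering ?_ ha
        intro W l hl
        change _ ∈ (annI _ (rs _ l ((η.app (op Z)).hom (c • a)))).radical
        rw [show (η.app (op Z)).hom (c • a) = scal Z c • (η.app (op Z)).hom a from
          (η.app (op Z)).hom.map_smul _ _, rs_smul]
        exact Ideal.radical_mono (annI_le_smul _ _ _) hl }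
  have hgen : ∀ (j : Z ⟶ V) n, (mι G (op Z) j).hom n ∈ S := by
    intro j n
    have h0 := hN (Over.mk j) n r hfk
    rw [GrothendieckTopology.mem_over_iff] at h0
    refine J.superset_covering ?_ h0
    intro W l hl
    rw [Sieve.overEquiv_iff] at hl
    obtain ⟨m, hm⟩ := hl
    refine ⟨m, ?_⟩
    change scal W _ • rs ((aP O).obj L) l ((η.app (op Z)).hom ((mι G (op Z) j).hom n)) = 0
    rw [show rs ((aP O).obj L) l ((η.app (op Z)).hom ((mι G (op Z) j).hom n)) =
        (η.app (op W)).hom (oLanMap G l.op ((mι G (op Z) j).hom n)) from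
      (PresheafOfModules.naturality_apply η l.op _).symm, _root_.ModSiteLib.oLanMap_mι]
    refine ((η.app (op W)).hom.map_smul _ _).symm.trans ((congrArg (η.app (op W)).hom ?_).trans (map_zero _))
    exact ((mι G (op W) (l ≫ j)).hom.map_smul _ _).symm.trans
      ((congrArg (mι G (op W) (l ≫ j)).hom hm).trans (map_zero _))
  let q : L.obj (op Z) ⟶ ModuleCat.of _ (L.obj (op Z) ⧸ S) := ModuleCat.ofHom S.mkQ
  have hq : q = 0 := Limits.Sigma.hom_ext _ _ fun j => by
    ext n
    exact (Submodule.Quotient.mk_eq_zero S).2 (hgen j n)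
  exact (Submodule.Quotient.mk_eq_zero S).1 congr(($hq).hom p)

theorem tz_pow (s : DerComp.GSec O) (M : ModSite.Mod O) (n : ℕ) : ∀ m : ℕ,
    (tz s n).app M = DerComp.smulEnd (s ^ m) M ≫ (tz s (n + m)).app M := by
  intro m
  induction m with
  | zero => rw [pow_zero, DerComp.smulEnd_one, Category.id_comp]; rfl
  | succ m ih =>
    rw [ih, tz_rel s (n + m), ← Category.assoc, DerComp.smulEnd_comp, ← pow_succ]
    rfl

/-- A locally nilpotent module is killed by inverting a section of the ideal. -/
theorem isZero_tFun_of_lnil (I : DerComp.IdealSh O) (s : DerComp.GSec O) (hs : ∀ Y, s.1 Y ∈ I.ideal Y)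
    (M : ModSite.Mod O) (hM : LNil I M) :
    IsZero (((ModSite.tensorBi O).flip.obj (Pz s)).obj M) := by
  have hz : ∀ n, (tz s n).app M = 0 := fun n => by
    apply SheafOfModules.hom_ext
    ext ⟨Y⟩ : 1
    ext x
    let T := ((ModSite.tensorBi O).flip.obj (Pz s)).obj M
    refine Presheaf.IsSheaf.isSeparated T.isSheaf Y _ (hM Y x (s.1 Y) (hs Y)) _ _ ?_
    rintro Z k ⟨m, hm⟩
    change rs T k ((((tz s n).app M).val.app (op Y)).hom x) =
      rs T k (((0 : M ⟶ T).val.app (op Y)).hom x)
    rw [show ((0 : M ⟶ T).val.app (op Y)).hom x = 0 from rfl,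
      show rs T k 0 = 0 from map_zero _]
    refine ((PresheafOfModules.naturality_apply ((tz s n).app M).val k.op x).symm).trans ?_
    rw [tz_pow s M n m]
    change (((tz s (n + m)).app M).val.app (op Z)).hom
      (((DerComp.smulEnd (s ^ m) M).val.app (op Z)).hom (rs M k x)) = 0
    refine (congrArg _ ?_).trans (map_zero _)
    have hm' : scal Z (((O.obj.map k.op).hom (s.1 Y)) ^ m) • rs M k x = 0 := hm
    rw [s.2 k] at hm'
    exact hm'
  rw [IsZero.iff_id_eq_zero]
  exact teleπ_jointlyEpi s M fun n => by rw [hz n, zero_comp, zero_comp]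

theorem isZero_awayTensor (I : DerComp.IdealSh O) (W : C) (g : O.obj.obj (op W)) (hg : g ∈ I.ideal W)
    (M : ModSite.Mod O) (hM : LNil I M) :
    IsZero (((ModSite.tensorBi O).obj (awayMod W g)).obj M) := by
  let s := DerComp.GSec.ofSect O W g
  let M' := (ModSite.restr O W).obj M
  have hM' : LNil (I.over W) M' := fun Y x f hf => by
    rw [GrothendieckTopology.mem_over_iff]
    refine J.superset_covering ?_ (hM Y.left x f hf)
    intro Z l hl
    rw [Sieve.overEquiv_iff]
    exact hl
  have h0 : IsZero (((ModSite.tensorBi (O.over W)).obj (Pz s)).obj M') :=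
    (isZero_tFun_of_lnil (I.over W) s (fun Y => I.map_mem Y.hom hg) M' hM').of_iso
      ((symFunIso (Pz s)).app M')
  exact ((ModSite.extZero O W).map_isZero h0).of_iso ((projFunIso W (Pz s)).app M).symm

/-- Killed modules on `C/V` are killed by tensoring with the restriction of `j_! O_{W,g}`. -/
theorem isZero_tensor_restr_away (I : DerComp.IdealSh O) (V W : C) (g : O.obj.obj (op W))
    (hg : g ∈ I.ideal W) (N : ModSite.Mod (O.over V)) (hN : LNil (I.over V) N) :
    IsZero (((ModSite.tensorBi (O.over V)).obj N).obj ((ModSite.restr O V).obj (awayMod W g))) := by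
  apply _root_.ModSiteLib.isZero_of_isZero_extZero
  refine IsZero.of_iso ?_ (_root_.ModSiteLib.projIso (U := V) N (awayMod W g))
  exact (isZero_awayTensor I W g hg _ (lnil_extZero I V N hN)).of_iso
    ((symFunIso ((ModSite.extZero O V).obj N)).app (awayMod W g))

end Groth.Agent.DerCompLib
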