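import Groth.Agent.DerCompLib.Criteria
import Groth.Agent.DerCompLib.LNil

/-!
# Killed modules do not see the extension of scalars
-/

set_option autoImplicit false
set_option linter.style.haveILetI false
set_option linter.unusedSectionVars false
set_option backward.isDefEq.respectTransparency false

universe u

open CategoryTheory CategoryTheory.Limits Opposite MonoidalCategory

namespace Groth.Agent.DerCompLib

open _root_.ModSiteLib (jP aP adjP tens ap shT res res_id res_comp tens_hom_ext)

/-- Sections of a sheaf of modules. -/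
abbrev MSec {C : Type u} [SmallCategory C] {J : GrothendieckTopology C} {O : Sheaf J CommRingCat.{u}}
    (M : ModSite.Mod O) (V : C) : Type u := _root_.ModSiteLib.Sec M V

variable {C : Type u} [SmallCategory C] {J : GrothendieckTopology C} {O O' : Sheaf J CommRingCat.{u}}
  (φ : O ⟶ O')

/-- `O'` as an `O`-module. -/
noncomputable abbrev algMod : ModSite.Mod O := (resScal φ).obj (ModSite.unit O')

/-- A section of `O'` as a section of the `O`-module `O'`. -/
abbrev bSec {V : C} (b : O'.obj.obj (op V)) : MSec (algMod φ) V := b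

/-- The image of a section of `O`. -/
abbrev phi {V : C} : O.obj.obj (op V) →+* O'.obj.obj (op V) := (φ.hom.app (op V)).hom

theorem smul_bSec {V : C} (a : O.obj.obj (op V)) (b : O'.obj.obj (op V)) :
    a • bSec φ b = bSec φ (phi φ a * b) := rfl

theorem res_bSec {V W : C} (g : W ⟶ V) (b : O'.obj.obj (op V)) :
    res ((jP O).obj (algMod φ)) g.op (bSec φ b) = bSec φ ((O'.obj.map g.op).hom b) := rfl

theorem phi_nat {V W : C} (g : W ⟶ V) (a : O.obj.obj (op V)) :
    phi φ ((O.obj.map g.op).hom a) = (O'.obj.map g.op).hom (phi φ a) :=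
  NatTrans.naturality_apply φ.hom g.op a

/-- `m ↦ m ⊗ 1` on presheaves. -/
noncomputable def addOnePre (M : ModSite.Mod O) : (jP O).obj M ⟶ (jP O).obj (tens M (algMod φ)) where
  app V := ModuleCat.ofHom
    { toFun := fun m => shT M (algMod φ) (V := V.unop) m (bSec φ 1)
      map_add' := fun m m' => _root_.ModSiteLib.shT_add_left M _ m m' _
      map_smul' := fun r m => _root_.ModSiteLib.shT_smul_left M _ r m _ }
  naturality {V W} g := ModuleCat.hom_ext (LinearMap.ext fun m => by
    change shT M (algMod φ) (V := W.unop) (res ((jP O).obj M) g m) (bSec φ 1) =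
      res ((jP O).obj (tens M (algMod φ))) g.unop.op (shT M (algMod φ) (V := V.unop) m (bSec φ 1))
    rw [_root_.ModSiteLib.res_shT, res_bSec, map_one]
    rfl)

/-- `m ↦ m ⊗ 1`. -/
noncomputable def addOne (M : ModSite.Mod O) : M ⟶ tens M (algMod φ) :=
  (SheafOfModules.fullyFaithfulForget (ModSite.ringSh O)).preimage (addOnePre φ M)

theorem ap_addOne (M : ModSite.Mod O) {V : C} (m : MSec M V) :
    ap (addOne φ M) V m = shT M (algMod φ) m (bSec φ 1) := rfl

theorem hom_ext_ap {M N : ModSite.Mod O} {a b : M ⟶ N} (h : ∀ (V : C) (m : MSec M V), ap a V m = ap b V m) :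
    a = b :=
  SheafOfModules.hom_ext (PresheafOfModules.hom_ext fun V => ModuleCat.hom_ext (LinearMap.ext fun m => h V.unop m))

/-- `𝟭 ⟶ - ⊗ O'`. -/
noncomputable def addOneNat : 𝟭 (ModSite.Mod O) ⟶ (ModSite.tensorBi O).flip.obj (algMod φ) where
  app M := addOne φ M
  naturality M N g := hom_ext_ap fun V m => by
    change ap (addOne φ N) V (ap g V m) = ap (((ModSite.tensorBi O).map g).app (algMod φ)) V (ap (addOne φ M) V m)
    rw [ap_addOne, ap_addOne, _root_.ModSiteLib.ap_tensorBi₁]

/-- `M` is killed by `I`. -/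
def Killed (I : DerComp.IdealSh O) (M : ModSite.Mod O) : Prop :=
  ∀ (Y : C) (f : O.obj.obj (op Y)), f ∈ I.ideal Y → ∀ x : MSec M Y, f • x = 0

theorem sec_sep (M : ModSite.Mod O) {X : C} {S : Sieve X} (hS : S ∈ J X) {x y : MSec M X}
    (h : ∀ ⦃Y : C⦄ (g : Y ⟶ X), S g → res ((jP O).obj M) g.op x = res ((jP O).obj M) g.op y) : x = y :=
  _root_.ModSiteLib.sheaf_sep J M.isSheaf hS (fun Y g hg => h g hg)

variable (I : DerComp.IdealSh O) (I' : DerComp.IdealSh O')

/-- `e` is `b • h`. -/
def IsAct {M : ModSite.Mod O} {X : C} (h : MSec M X) (b : O'.obj.obj (op X)) (e : MSec M X) : Prop :=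
  ∀ ⦃Y : C⦄ (g : Y ⟶ X) (a : O.obj.obj (op Y)), (O'.obj.map g.op).hom b - phi φ a ∈ I'.ideal Y →
    res ((jP O).obj M) g.op e = a • res ((jP O).obj M) g.op h

variable {φ I I'} (hinj : ∀ (U : C) (f : O.obj.obj (op U)), phi φ f ∈ I'.ideal U → f ∈ I.ideal U)
  (hsurj : ∀ (U : C) (f' : O'.obj.obj (op U)), ∃ S ∈ J U, ∀ ⦃V : C⦄ (g : V ⟶ U), S g →
    ∃ a : O.obj.obj (op V), (O'.obj.map g.op).hom f' - phi φ a ∈ I'.ideal V)

include hinj in
theorem smul_congr_killed {M : ModSite.Mod O} (hM : Killed I M) {Y : C} {a a' : O.obj.obj (op Y)}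
    {b : O'.obj.obj (op Y)} (ha : b - phi φ a ∈ I'.ideal Y) (ha' : b - phi φ a' ∈ I'.ideal Y)
    (x : MSec M Y) : a • x = a' • x := by
  have h1 : phi φ (a - a') ∈ I'.ideal Y := by
    have := (I'.ideal Y).sub_mem ha' ha
    rw [sub_sub_sub_cancel_left, ← map_sub] at this
    exact this
  have h2 := hM Y _ (hinj Y _ h1) x
  rwa [sub_smul, sub_eq_zero] at h2

theorem mem_map_sub {Y Z : C} (k : Z ⟶ Y) {b : O'.obj.obj (op Y)} {a : O.obj.obj (op Y)}
    (h : b - phi φ a ∈ I'.ideal Y) :
    (O'.obj.map k.op).hom b - phi φ ((O.obj.map k.op).hom a) ∈ I'.ideal Z := by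
  rw [phi_nat, ← map_sub]
  exact I'.map_mem k h

include hinj hsurj in
theorem exists_isAct {M : ModSite.Mod O} (hM : Killed I M) {X : C} (h : MSec M X) (b : O'.obj.obj (op X)) :
    ∃ e, IsAct φ I' h b e := by
  obtain ⟨S, hS, hp⟩ := hsurj X b
  choose loc hloc using hp
  let F := ((jP O).obj M)
  have hF' := ((isSheaf_iff_isSheaf_of_type _ _).1
    ((Presheaf.isSheaf_iff_isSheaf_forget J F.presheaf (forget AddCommGrpCat.{u})).1 M.isSheaf)) S hS
  let x : Presieve.FamilyOfElements (F.presheaf ⋙ forget AddCommGrpCat.{u}) S.arrows :=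
    fun Y g hg => loc g hg • res F g.op h
  have hx : x.Compatible := by
    intro Y₁ Y₂ Z g₁ g₂ f₁ f₂ h₁ h₂ fac
    change res F g₁.op (loc f₁ h₁ • res F f₁.op h) = res F g₂.op (loc f₂ h₂ • res F f₂.op h)
    rw [_root_.ModSiteLib.res_smul, _root_.ModSiteLib.res_smul, res_comp, res_comp, ← op_comp, ← op_comp, fac]
    refine smul_congr_killed hinj hM (b := (O'.obj.map (g₂ ≫ f₂).op).hom b) ?_ ?_ _
    · rw [← fac, op_comp, Functor.map_comp, CommRingCat.comp_apply]
      exact mem_map_sub g₁ (hloc f₁ h₁)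
    · rw [op_comp, Functor.map_comp, CommRingCat.comp_apply]
      exact mem_map_sub g₂ (hloc f₂ h₂)
  obtain ⟨e₀, he, -⟩ := hF' x hx
  refine ⟨e₀, fun Y g a ha => sec_sep M (J.pullback_stable g hS) fun Z k hk => ?_⟩
  have e₁ : res F (k ≫ g).op e₀ = loc (k ≫ g) hk • res F (k ≫ g).op h := he (k ≫ g) hk
  rw [_root_.ModSiteLib.res_smul, res_comp, res_comp, ← op_comp]
  refine e₁.trans (smul_congr_killed hinj hM (b := (O'.obj.map (k ≫ g).op).hom b) (hloc _ hk) ?_ _)
  rw [op_comp, Functor.map_comp, CommRingCat.comp_apply]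
  exact mem_map_sub k ha

theorem mem_sub_add {X Y : C} (g : Y ⟶ X) {b b' : O'.obj.obj (op X)} {a a' : O.obj.obj (op Y)}
    (h : (O'.obj.map g.op).hom b - phi φ a ∈ I'.ideal Y) (h' : (O'.obj.map g.op).hom b' - phi φ a' ∈ I'.ideal Y) :
    (O'.obj.map g.op).hom (b + b') - phi φ (a + a') ∈ I'.ideal Y := by
  rw [map_add, map_add, add_sub_add_comm]
  exact (I'.ideal Y).add_mem h h'

theorem mem_sub_mul {X Y : C} (g : Y ⟶ X) (r : O.obj.obj (op X)) {b : O'.obj.obj (op X)} {a : O.obj.obj (op Y)}
    (h : (O'.obj.map g.op).hom b - phi φ a ∈ I'.ideal Y) :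
    (O'.obj.map g.op).hom (phi φ r * b) - phi φ ((O.obj.map g.op).hom r * a) ∈ I'.ideal Y := by
  rw [map_mul, map_mul, phi_nat, ← mul_sub]
  exact (I'.ideal Y).mul_mem_left _ h

variable {M : ModSite.Mod O} {X : C}

include hsurj in
theorem isAct_unique {h : MSec M X} {b : O'.obj.obj (op X)} {e e' : MSec M X} (he : IsAct φ I' h b e)
    (he' : IsAct φ I' h b e') : e = e' := by
  obtain ⟨S, hS, hp⟩ := hsurj X b
  exact sec_sep M hS fun Y g hg => by
    obtain ⟨a, ha⟩ := hp g hg
    rw [he g a ha, he' g a ha]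

include hinj hsurj in
theorem isAct_iff (hM : Killed I M) {h : MSec M X} {b : O'.obj.obj (op X)} {e : MSec M X}
    {S : Sieve X} (hS : S ∈ J X)
    (hloc : ∀ ⦃Y : C⦄ (g : Y ⟶ X), S g → ∃ a : O.obj.obj (op Y),
      (O'.obj.map g.op).hom b - phi φ a ∈ I'.ideal Y ∧
        res ((jP O).obj M) g.op e = a • res ((jP O).obj M) g.op h) : IsAct φ I' h b e := by
  obtain ⟨e', he'⟩ := exists_isAct hinj hsurj hM h b
  have : e = e' := sec_sep M hS fun Y g hg => by
    obtain ⟨a, ha, hae⟩ := hloc g hg
    rw [hae, he' g a ha]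
  rw [this]
  exact he'

/-- `b • h`. -/
noncomputable def act (hM : Killed I M) (h : MSec M X) (b : O'.obj.obj (op X)) : MSec M X :=
  (exists_isAct hinj hsurj hM h b).choose

theorem act_spec (hM : Killed I M) (h : MSec M X) (b : O'.obj.obj (op X)) :
    IsAct φ I' h b (act hinj hsurj hM h b) :=
  (exists_isAct hinj hsurj hM h b).choose_spec

/-- The action on presheaves. -/
noncomputable def actPre (hM : Killed I M) :
    ((jP O).obj M ⊗ (jP O).obj (algMod φ) : _root_.ModSiteLib.PMod O) ⟶ (jP O).obj M where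
  app V := ModuleCat.MonoidalCategory.tensorLift
    (fun h b => act hinj hsurj hM (X := V.unop) h (show O'.obj.obj V from b))
    (fun h h' b => (isAct_unique hsurj (act_spec hinj hsurj hM (X := V.unop) _ _) fun Y g a ha => by
      rw [_root_.ModSiteLib.res_add, _root_.ModSiteLib.res_add, smul_add,
        act_spec hinj hsurj hM _ _ g a ha, act_spec hinj hsurj hM _ _ g a ha]))
    (fun r h b => (isAct_unique hsurj (act_spec hinj hsurj hM (X := V.unop) _ _) fun Y g a ha => by
      rw [_root_.ModSiteLib.res_smul, _root_.ModSiteLib.res_smul, act_spec hinj hsurj hM _ _ g a ha,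
        smul_comm]))
    (fun h b b' => by
      obtain ⟨S₁, hS₁, h₁⟩ := hsurj V.unop (show O'.obj.obj V from b)
      obtain ⟨S₂, hS₂, h₂⟩ := hsurj V.unop (show O'.obj.obj V from b')
      refine isAct_unique hsurj (act_spec hinj hsurj hM (X := V.unop) _ _)
        (isAct_iff hinj hsurj hM (J.intersection_covering hS₁ hS₂) fun Y g hg => ?_)
      obtain ⟨a, ha⟩ := h₁ g hg.1
      obtain ⟨a', ha'⟩ := h₂ g hg.2
      refine ⟨a + a', ?_, ?_⟩
      · exact mem_sub_add g ha ha'
      · rw [_root_.ModSiteLib.res_add, act_spec hinj hsurj hM _ _ g a ha,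
          act_spec hinj hsurj hM _ _ g a' ha', add_smul])
    (fun r h b => by
      obtain ⟨S₁, hS₁, h₁⟩ := hsurj V.unop (show O'.obj.obj V from b)
      refine isAct_unique hsurj (act_spec hinj hsurj hM (X := V.unop) _ _)
        (isAct_iff hinj hsurj hM hS₁ fun Y g hg => ?_)
      obtain ⟨a, ha⟩ := h₁ g hg
      refine ⟨(O.obj.map g.op).hom r * a, ?_, ?_⟩
      · exact mem_sub_mul g r ha
      · rw [_root_.ModSiteLib.res_smul, act_spec hinj hsurj hM _ _ g a ha, ← mul_smul])
  naturality {V W} g := ModuleCat.MonoidalCategory.tensor_ext fun h b => by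
    change act hinj hsurj hM (X := W.unop) (res ((jP O).obj M) g h) _ =
      res ((jP O).obj M) g.unop.op (act hinj hsurj hM (X := V.unop) h (show O'.obj.obj V from b))
    refine isAct_unique hsurj (act_spec hinj hsurj hM _ _) fun Y k a ha => ?_
    rw [res_comp, ← op_comp, act_spec hinj hsurj hM (X := V.unop) h _ (k ≫ g.unop) a (by
      rw [op_comp, Functor.map_comp, CommRingCat.comp_apply]; exact ha), op_comp, ← res_comp]
    rfl

/-- The action. -/
noncomputable def actHom (hM : Killed I M) : tens M (algMod φ) ⟶ M :=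
  ((adjP O).homEquiv _ _).symm (actPre hinj hsurj hM)

theorem ap_actHom (hM : Killed I M) (h : MSec M X) (b : O'.obj.obj (op X)) :
    ap (actHom hinj hsurj hM) X (shT M (algMod φ) h (bSec φ b)) = act hinj hsurj hM h b := by
  have e := ((adjP O).homEquiv_unit _ _ (actHom hinj hsurj hM)).symm.trans
    (Equiv.apply_symm_apply _ (actPre hinj hsurj hM))
  exact congr($(e).app (op X) (TensorProduct.tmul (O.obj.obj (op X)) h (bSec φ b)))

theorem shT_zero_right (M N : ModSite.Mod O) {V : C} (m : MSec M V) : shT M N m (0 : MSec N V) = 0 := by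
  have := _root_.ModSiteLib.shT_add_right M N m (0 : MSec N V) 0
  rwa [add_zero, left_eq_add] at this

theorem shT_zero_left (M N : ModSite.Mod O) {V : C} (n : MSec N V) : shT M N (0 : MSec M V) n = 0 := by
  have := _root_.ModSiteLib.shT_add_left M N (0 : MSec M V) 0 n
  rwa [add_zero, left_eq_add] at this

/-- Tensors with `I'` vanish on killed modules. -/
theorem shT_eq_zero (hI' : DerComp.IsIdealExt φ I I') (hM : Killed I M) (h : MSec M X)
    {i : O'.obj.obj (op X)} (hi : i ∈ I'.ideal X) : shT M (algMod φ) h (bSec φ i) = 0 := by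
  let A : DerComp.IdealSh O' :=
    { ideal := fun Y =>
        { carrier := {x | ∀ (Z : C) (k : Z ⟶ Y) (l : Z ⟶ X) (c : O'.obj.obj (op Z)),
            shT M (algMod φ) (res ((jP O).obj M) l.op h) (bSec φ (c * (O'.obj.map k.op).hom x)) = 0}
          zero_mem' := fun Z k l c => by
            rw [map_zero, mul_zero]
            exact shT_zero_right _ _ _
          add_mem' := fun {x y} hx hy Z k l c => by
            rw [map_add, mul_add]
            refine (_root_.ModSiteLib.shT_add_right M (algMod φ) _ _ _).trans ?_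
            rw [hx Z k l c, hy Z k l c, add_zero]
          smul_mem' := fun d x hx Z k l c => by
            rw [smul_eq_mul, map_mul, ← mul_assoc]
            exact hx Z k l _ }
      map_mem := fun {Y Y'} g x hx Z k l c => by
        rw [← map_map_sect]
        exact hx Z (k ≫ g) l c
      glue := fun {Y x} S hS hloc Z k l c => sec_sep _ (J.pullback_stable k hS) fun W m hm => by
        rw [_root_.ModSiteLib.res_shT, res_bSec, map_mul, res_comp, ← op_comp, ← map_map_sect,
          show (O'.obj.map (m ≫ k).op).hom x = (O'.obj.map (𝟙 W).op).hom ((O'.obj.map (m ≫ k).op).hom x) by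
            simp,
          hloc (m ≫ k) hm W (𝟙 W) (m ≫ l) _]
        exact (map_zero (((jP O).obj (tens M (algMod φ))).map m.op).hom).symm }
  have hA : DerComp.MapsIdealInto φ I A := fun Y a ha Z k l c => by
    rw [← phi_nat φ k a, mul_comm, ← smul_bSec, _root_.ModSiteLib.shT_smul_right,
      ← _root_.ModSiteLib.shT_smul_left, hM Z _ (I.map_mem k ha)]
    exact shT_zero_left _ _ _
  have := hI'.2 A hA X hi X (𝟙 X) (𝟙 X) 1
  rw [op_id, CategoryTheory.Functor.map_id, one_mul, res_id] at this
  exact this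

include hinj hsurj in
/-- A killed module is its own extension of scalars. -/
theorem isIso_addOne (hI' : DerComp.IsIdealExt φ I I') (hM : Killed I M) : IsIso (addOne φ M) := by
  refine ⟨actHom hinj hsurj hM, hom_ext_ap fun V m => ?_, tens_hom_ext fun V m n => ?_⟩
  · change ap (actHom hinj hsurj hM) V (shT M (algMod φ) m (bSec φ 1)) = m
    rw [ap_actHom]
    refine isAct_unique hsurj (act_spec hinj hsurj hM _ _)
      (isAct_iff hinj hsurj hM (J.top_mem V) fun Y g _ => ⟨1, ?_, (one_smul _ _).symm⟩)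
    rw [map_one, map_one, sub_self]
    exact (I'.ideal Y).zero_mem
  · let b : O'.obj.obj (op V) := n
    change ap (addOne φ M) V (ap (actHom hinj hsurj hM) V (shT M (algMod φ) m (bSec φ b))) =
      shT M (algMod φ) m (bSec φ b)
    rw [ap_actHom, ap_addOne]
    obtain ⟨S, hS, hp⟩ := hsurj V b
    refine sec_sep _ hS fun Y g hg => ?_
    obtain ⟨a, ha⟩ := hp g hg
    rw [_root_.ModSiteLib.res_shT, _root_.ModSiteLib.res_shT, act_spec hinj hsurj hM m b g a ha,
      res_bSec, res_bSec, map_one, _root_.ModSiteLib.shT_smul_left, ← _root_.ModSiteLib.shT_smul_right,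
      smul_bSec, mul_one]
    have := shT_eq_zero hI' hM (res ((jP O).obj M) g.op m) ha
    have h2 := _root_.ModSiteLib.shT_add_right M (algMod φ) (res ((jP O).obj M) g.op m)
      (bSec φ ((O'.obj.map g.op).hom b - phi φ a)) (bSec φ (phi φ a))
    rw [this, zero_add] at h2
    refine h2.symm.trans (congrArg (shT M (algMod φ) _) ?_)
    exact sub_add_cancel ((O'.obj.map g.op).hom b) (phi φ a)

end Groth.Agent.DerCompLib
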