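import Groth.Agent.DerCompLib.RestrOrth
import Groth.Agent.DerCompLib.LTensorFlat
import Groth.Agent.ModSiteLib.FlatLocal

/-!
# `RHom(P, -)` and completion
-/

set_option autoImplicit false
set_option linter.style.haveILetI false
set_option linter.unusedSectionVars false
set_option backward.isDefEq.respectTransparency false

universe u

open CategoryTheory CategoryTheory.Limits Opposite HomologicalComplex
open CategoryTheory.Pretriangulated (Triangle)
attribute [local instance] HasDerivedCategory.standard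

namespace Groth.Agent.DerCompLib

variable {C : Type u} [SmallCategory C] {J : GrothendieckTopology C} {O : Sheaf J CommRingCat.{u}}

theorem nilp_shift {a : DerComp.GSec O} {T : DerivedCategory (ModSite.Mod O)} (h : Nilp a T) (n : ℤ) :
    Nilp a (T⟦n⟧) := by
  obtain ⟨k, hk⟩ := h
  exact ⟨k, by rw [← smulD_shift, hk, Functor.map_zero]⟩

theorem nilp_of_iso {a : DerComp.GSec O} {T T' : DerivedCategory (ModSite.Mod O)} (e : T ≅ T')
    (h : Nilp a T) : Nilp a T' := by
  obtain ⟨k, hk⟩ := h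
  refine ⟨k, ?_⟩
  rw [← cancel_epi e.hom, comp_zero, Linear.comp_smul, Category.comp_id, ← Category.id_comp e.hom,
    ← Linear.smul_comp, hk, zero_comp]

/-- No maps from killed objects to objects with vanishing iterated cones. -/
theorem subsingleton_of_kz : ∀ (l : List (DerComp.GSec O)) (X : DerivedCategory (ModSite.Mod O))
    (_ : KZ l X) (T : DerivedCategory (ModSite.Mod O)), (∀ a ∈ l, Nilp a T) → Subsingleton (T ⟶ X)
  | [], X, h, T, _ => ⟨fun a b => IsZero.eq_of_tgt h a b⟩
  | a :: l, X, h, T, hT => by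
    obtain ⟨Z, p, q, hZ⟩ := Pretriangulated.distinguished_cocone_triangle (a • 𝟙 X)
    have inj : ∀ y : T ⟶ X, a • y = 0 → y = 0 := by
      intro y hy
      have hr := Pretriangulated.inv_rot_of_distTriang _ hZ
      obtain ⟨z, hz⟩ := Triangle.coyoneda_exact₂ _ hr y (by
        change y ≫ (a • 𝟙 X) = 0
        rw [Linear.comp_smul, Category.comp_id, hy])
      haveI : Subsingleton (T ⟶ Z⟦(-1 : ℤ)⟧) := (subsingleton_shift_iff T Z 1).1
        (subsingleton_of_kz l Z (h Z p q hZ) (T⟦(1 : ℤ)⟧) fun b hb => nilp_shift (hT b (List.mem_cons_of_mem a hb)) 1)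
      rw [hz, Subsingleton.elim (show T ⟶ Z⟦(-1 : ℤ)⟧ from z) 0]
      exact zero_comp
    obtain ⟨k, hk⟩ := hT a List.mem_cons_self
    have key : ∀ (j : ℕ) (y : T ⟶ X), a ^ j • y = 0 → y = 0 := by
      intro j
      induction j with
      | zero => intro y hy; simpa using hy
      | succ j ih => intro y hy; exact ih y (inj _ (by rw [smul_smul, ← pow_succ', hy]))
    refine ⟨fun y y' => sub_eq_zero.1 (key k _ ?_)⟩
    rw [← Category.id_comp (y - y'), ← Linear.smul_comp, hk, zero_comp]

/-- Vanishing iterated cones are detected by killed objects. -/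
theorem kz_of_subsingleton : ∀ (l acc : List (DerComp.GSec O)) (X : DerivedCategory (ModSite.Mod O))
    (_ : ∀ T, (∀ a ∈ acc ++ l, Nilp a T) → Subsingleton (T ⟶ X)) (_ : ∀ a ∈ acc, Nilp a X), KZ l X
  | [], acc, X, hX, hn => by
    haveI := hX X (by simpa using hn)
    exact (IsZero.iff_id_eq_zero X).2 (Subsingleton.elim _ _)
  | a :: l, acc, X, hX, hn => fun Z p q hT => by
    refine kz_of_subsingleton l (acc ++ [a]) Z (fun T hT' => ?_) ?_
    · have hT'' : ∀ b ∈ acc ++ a :: l, Nilp b T := fun b hb => hT' b (by simpa using hb)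
      haveI := hX T hT''
      haveI : Subsingleton (T ⟶ X⟦(1 : ℤ)⟧) := by
        have := (subsingleton_shift_iff T X (-1)).1 (hX _ fun b hb => nilp_shift (hT'' b hb) _)
        rwa [neg_neg] at this
      refine ⟨fun y y' => sub_eq_zero.1 ?_⟩
      obtain ⟨z, hz⟩ := Triangle.coyoneda_exact₃ _ hT (y - y') (this.elim _ _ :)
      rw [hz, Subsingleton.elim (show T ⟶ X from z) 0]
      exact zero_comp
    · intro b hb
      rcases List.mem_append.1 hb with hb | hb
      · exact (nilp_cone hT).2 b (hn b hb)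
      · obtain rfl : b = a := by simpa using hb
        exact (nilp_cone hT).1

theorem tensor_map_smul (c : DerComp.GSec O) (K P : CochainComplex (ModSite.Mod O) ℤ) :
    ((ModSite.tensorCx O).flip.obj P).map (c • 𝟙 K) = c • 𝟙 (((ModSite.tensorCx O).flip.obj P).obj K) := by
  refine HomologicalComplex.hom_ext _ _ fun n => mapBifunctor.hom_ext fun p q h => ?_
  refine (KFlatLib.ι_bimap₁_map (ModSite.tensorBi O) P (c • 𝟙 K) p q n h).trans ?_
  change (((ModSite.tensorBi O).flip.obj (P.X q)).map (c • 𝟙 (K.X p))) ≫ _ = _ ≫ (c • 𝟙 _)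
  rw [Functor.map_smul, Linear.smul_comp, Linear.comp_smul, CategoryTheory.Functor.map_id, Category.id_comp]
  exact congrArg (c • ·) (Category.comp_id _).symm

/-- Killing passes to the tensor product with a K-flat complex. -/
theorem nilp_tensor (c : DerComp.GSec O) (K P : CochainComplex (ModSite.Mod O) ℤ) (hP : ModSite.IsKFlat P)
    (h : Nilp c (DerivedCategory.Q.obj K)) :
    Nilp c (DerivedCategory.Q.obj (((ModSite.tensorCx O).flip.obj P).obj K)) := by
  obtain ⟨k, hk⟩ := h
  refine ⟨k, ?_⟩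
  let W := HomologicalComplex.quasiIso (ModSite.Mod O) (ComplexShape.up ℤ)
  have hinv : W.IsInvertedBy (ModSite.tensorCxQ P) := fun K L g (hg : QuasiIso g) => by
    haveI : QuasiIso (((ModSite.tensorCx O).flip.obj P).map g) :=
      KFlatLib.quasiIso_bimap₁ (ModSite.tensorBi O) P hP g
    exact (DerivedCategory.isIso_Q_map_iff_quasiIso (C := ModSite.Mod O)
      (((ModSite.tensorCx O).flip.obj P).map g)).2 inferInstance
  let G := Localization.lift (ModSite.tensorCxQ P) hinv DerivedCategory.Q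
  let e : DerivedCategory.Q ⋙ G ≅ ModSite.tensorCxQ P := Localization.fac _ hinv _
  obtain ⟨Z, hZ⟩ : ∃ Z : CochainComplex (ModSite.Mod O) ℤ, IsZero Z := ⟨HomologicalComplex.zero, HomologicalComplex.isZero_zero⟩
  have h0 : DerivedCategory.Q.map (c ^ k • 𝟙 K) = DerivedCategory.Q.map (hZ.from_ K ≫ hZ.to_ K) := by
    rw [hZ.eq_of_src (hZ.to_ K) 0, comp_zero, Functor.map_zero, Functor.map_smul,
      CategoryTheory.Functor.map_id, hk]
  have h1 : (ModSite.tensorCxQ P).map (c ^ k • 𝟙 K) = (ModSite.tensorCxQ P).map (hZ.from_ K ≫ hZ.to_ K) := by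
    rw [← cancel_epi (e.hom.app K), ← e.hom.naturality, ← e.hom.naturality]
    exact congrArg (fun t => G.map t ≫ _) h0
  have h2 : ∀ g : ((ModSite.tensorCx O).flip.obj P).obj Z ⟶ ((ModSite.tensorCx O).flip.obj P).obj K, g = 0 :=
    fun g => (((ModSite.tensorCx O).flip.obj P).map_isZero hZ).eq_of_src g 0
  rw [← CategoryTheory.Functor.map_id, ← Functor.map_smul, ← tensor_map_smul]
  refine h1.trans ?_
  change DerivedCategory.Q.map (((ModSite.tensorCx O).flip.obj P).map (hZ.from_ K ≫ hZ.to_ K)) = 0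
  rw [Functor.map_comp, h2 (((ModSite.tensorCx O).flip.obj P).map (hZ.to_ K)), comp_zero, Functor.map_zero]

/-- The projection formula for complexes. -/
noncomputable def tensorExtIso (V : C) (K : CochainComplex (ModSite.Mod (O.over V)) ℤ)
    (P : CochainComplex (ModSite.Mod O) ℤ) :
    ((ModSite.tensorCx O).flip.obj P).obj (((ModSite.extZero O V).mapHomologicalComplex _).obj K) ≅
      ((ModSite.extZero O V).mapHomologicalComplex _).obj
        (((ModSite.tensorCx (O.over V)).flip.obj
          (((ModSite.restr O V).mapHomologicalComplex _).obj P)).obj K) :=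
  _root_.ModSiteLib.totExtZeroIso V K P ≪≫
    ((ModSite.extZero O V).mapHomologicalComplex _).mapIso (_root_.ModSiteLib.totRestrIso V K P).symm

theorem bijective_postcomp_of_subsingleton {T X Y Z : DerivedCategory (ModSite.Mod O)} {u : X ⟶ Y}
    {p : Y ⟶ Z} {q : Z ⟶ X⟦(1 : ℤ)⟧} (hT : Triangle.mk u p q ∈ Pretriangulated.distinguishedTriangles)
    (h0 : Subsingleton (T ⟶ Z)) (h1 : Subsingleton (T ⟶ Z⟦(-1 : ℤ)⟧)) :
    Function.Bijective fun x : T ⟶ X => x ≫ u := by
  refine ⟨fun a b hab => sub_eq_zero.1 ?_, fun y => ?_⟩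
  · obtain ⟨z, hz⟩ := Triangle.coyoneda_exact₂ _ (Pretriangulated.inv_rot_of_distTriang _ hT) (a - b)
      (show (a - b) ≫ u = 0 by rw [Preadditive.sub_comp, sub_eq_zero]; exact hab)
    rw [hz, Subsingleton.elim (show T ⟶ Z⟦(-1 : ℤ)⟧ from z) 0]
    exact zero_comp
  · obtain ⟨x, hx⟩ := Triangle.coyoneda_exact₂ _ hT y (h0.elim _ _)
    exact ⟨x, hx.symm⟩

theorem subsingleton_obj₃ {T : DerivedCategory (ModSite.Mod O)} {S : Triangle (DerivedCategory (ModSite.Mod O))}
    (hS : S ∈ Pretriangulated.distinguishedTriangles)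
    (h1 : Function.Surjective fun x : T ⟶ S.obj₁ => x ≫ S.mor₁)
    (h2 : Function.Injective fun x : T⟦(-1 : ℤ)⟧ ⟶ S.obj₁ => x ≫ S.mor₁) : Subsingleton (T ⟶ S.obj₃) := by
  refine ⟨fun y y' => sub_eq_zero.1 ?_⟩
  let adj := (shiftEquiv' (DerivedCategory (ModSite.Mod O)) (-1 : ℤ) 1 (by omega)).toAdjunction
  have h3 : (y - y') ≫ S.mor₃ = 0 := by
    apply (adj.homEquiv _ _).symm.injective
    refine h2 ?_
    change (adj.homEquiv _ _).symm ((y - y') ≫ S.mor₃) ≫ S.mor₁ = (adj.homEquiv _ _).symm 0 ≫ S.mor₁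
    rw [← Adjunction.homEquiv_naturality_right_symm, ← Adjunction.homEquiv_naturality_right_symm,
      zero_comp, Category.assoc]
    congr 1
    exact (congrArg ((y - y') ≫ ·) (Pretriangulated.comp_distTriang_mor_zero₃₁ _ hS)).trans comp_zero
  obtain ⟨z, hz⟩ := Triangle.coyoneda_exact₃ _ hS (y - y') h3
  obtain ⟨x, hx⟩ := h1 z
  rw [hz, ← hx]
  exact (Category.assoc _ _ _).trans
    ((congrArg (x ≫ ·) (Pretriangulated.comp_distTriang_mor_zero₁₂ _ hS)).trans comp_zero)

variable (I : DerComp.IdealSh O) [DerComp.HasDerCompletion O I] (P : CochainComplex (ModSite.Mod O) ℤ)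
  [ModSite.HasLTensorCx P] [DerComp.HasRHom P]

/-- Killed objects do not see the difference between `RHom(P, X)` and `RHom(P, Y)` if the cone is orthogonal. -/
theorem bijective_restr_rhom (V : C) {r : ℕ} (s : Fin r → DerComp.GSec (O.over V))
    (hs : (I.over V).IsGenBy s) {X Y N : DerivedCategory (ModSite.Mod O)} {u : X ⟶ Y} {p : Y ⟶ N}
    {q : N ⟶ X⟦(1 : ℤ)⟧} (hT : Triangle.mk u p q ∈ Pretriangulated.distinguishedTriangles)
    (hN : Orth I N) (T : DerivedCategory (ModSite.Mod (O.over V))) (hn : ∀ i, Nilp (s i) T) :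
    Function.Bijective fun x : T ⟶ (restrD O V).obj ((DerComp.RHom P).obj X) =>
      x ≫ (restrD O V).map ((DerComp.RHom P).map u) := by
  obtain ⟨P', hP', ⟨η⟩⟩ := exists_lTensorCx_iso P
  let K := DerivedCategory.Q.objPreimage T
  let eT : DerivedCategory.Q.obj K ≅ T := DerivedCategory.Q.objObjPreimageIso T
  let B := ((ModSite.tensorCx (O.over V)).flip.obj (((ModSite.restr O V).mapHomologicalComplex _).obj P')).obj K
  have hB : ∀ i, Nilp (s i) (DerivedCategory.Q.obj B) := fun i =>
    nilp_tensor _ K _ (_root_.ModSiteLib.isKFlat_restr' V hP') (nilp_of_iso eT.symm (hn i))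
  let eL : (ModSite.LTensorCx P).obj ((extZeroD O V).obj T) ≅ (extZeroD O V).obj (DerivedCategory.Q.obj B) :=
    (ModSite.LTensorCx P).mapIso ((extZeroD O V).mapIso eT.symm ≪≫
        (ModSite.extZero O V).mapDerivedCategoryFactors.app K) ≪≫
      η.app _ ≪≫ DerivedCategory.Q.mapIso (tensorExtIso V K P') ≪≫
      ((ModSite.extZero O V).mapDerivedCategoryFactors.app B).symm
  have hk := kz_restr_of_orth I V s hs N hN
  have hz : ∀ m : ℤ, Subsingleton (DerivedCategory.Q.obj B ⟶ ((restrD O V).obj N)⟦m⟧) := fun m => by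
    have := (subsingleton_shift_iff (DerivedCategory.Q.obj B) ((restrD O V).obj N) (-m)).1
      (subsingleton_of_kz _ _ hk _ fun a ha => by
        obtain ⟨i, rfl⟩ := List.mem_ofFn.1 ha
        exact nilp_shift (hB i) _)
    rwa [neg_neg] at this
  have hb := bijective_postcomp_of_subsingleton (T := DerivedCategory.Q.obj B)
    ((restrD O V).map_distinguished _ hT)
    ((((Iso.refl _).homCongr ((shiftFunctorZero (DerivedCategory (ModSite.Mod (O.over V))) ℤ).app
      ((restrD O V).obj N)))).subsingleton_congr.1 (hz 0)) (hz (-1))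
  let E : ∀ W, (T ⟶ (restrD O V).obj ((DerComp.RHom P).obj W)) ≃
      (DerivedCategory.Q.obj B ⟶ (restrD O V).obj W) := fun W =>
    ((extRestrAdj O V).homEquiv _ _).symm.trans (((DerComp.RHomAdj P).homEquiv _ _).symm.trans
      ((eL.homCongr (Iso.refl _)).trans ((extRestrAdj O V).homEquiv _ _)))
  have hE : ∀ x, E Y (x ≫ (restrD O V).map ((DerComp.RHom P).map u)) = E X x ≫ (restrD O V).map u := fun x => by
    simp only [E, Equiv.trans_apply, Adjunction.homEquiv_naturality_right_symm, Iso.homCongr_apply,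
      Iso.refl_hom, Category.comp_id]
    rw [← Category.assoc, Adjunction.homEquiv_naturality_right]
  exact ((E Y).comp_bijective _).1 (by
    rw [show (⇑(E Y) ∘ fun x => x ≫ (restrD O V).map ((DerComp.RHom P).map u)) =
      (fun y => y ≫ (restrD O V).map u) ∘ ⇑(E X) from funext hE]
    exact hb.comp (E X).bijective)

/-- If the cone of `u` is orthogonal, so is the cone of `RHom(P, u)`. -/
theorem orth_cone_rhom (hI : I.IsFiniteType) {X Y N Z : DerivedCategory (ModSite.Mod O)} {u : X ⟶ Y}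
    {p : Y ⟶ N} {q : N ⟶ X⟦(1 : ℤ)⟧} (hT : Triangle.mk u p q ∈ Pretriangulated.distinguishedTriangles)
    (hN : Orth I N) {p' : (DerComp.RHom P).obj Y ⟶ Z} {q' : Z ⟶ ((DerComp.RHom P).obj X)⟦(1 : ℤ)⟧}
    (hT' : Triangle.mk ((DerComp.RHom P).map u) p' q' ∈ Pretriangulated.distinguishedTriangles) :
    Orth I Z := by
  refine orth_of_local I (covering_gen I hI) Z fun V ⟨r, a, ha⟩ => ⟨r, _, ha, ?_⟩
  refine kz_of_subsingleton _ [] _ (fun T hn => ?_) fun b hb => absurd hb List.not_mem_nil
  have hn' : ∀ i, Nilp (DerComp.GSec.ofSect O V (a i)) T := fun i => hn _ (by simp [List.mem_ofFn])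
  have hR := (restrD O V).map_distinguished _ hT'
  exact subsingleton_obj₃ hR (bijective_restr_rhom I P V _ ha hT hN T hn').2
    (bijective_restr_rhom I P V _ ha hT hN _ fun i => nilp_shift (hn' i) (-1)).1

end Groth.Agent.DerCompLib
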