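import Groth.Agent.DerCompLib.ExtPull
import Groth.Agent.DerCompLib.RHomOrth

/-!
# Nilpotent objects do not see a flat extension of scalars
-/

set_option autoImplicit false
set_option linter.style.haveILetI false
set_option linter.unusedSectionVars false
set_option backward.isDefEq.respectTransparency false

universe u

open CategoryTheory CategoryTheory.Limits Opposite HomologicalComplex
open CategoryTheory.Pretriangulated (Triangle)
attribute [local instance] HasDerivedCategory.standard

namespace Groth.Agent.DerCompLib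

variable {C : Type u} [SmallCategory C] {J : GrothendieckTopology C} {O : Sheaf J CommRingCat.{u}}

theorem killed_of_gen (I : DerComp.IdealSh O) {r : ℕ} (s : Fin r → DerComp.GSec O) (hs : I.IsGenBy s)
    (H : ModSite.Mod O) (h : ∀ i, DerComp.smulEnd (s i) H = 0) : Killed I H := by
  let A : DerComp.IdealSh O :=
    { ideal := fun Y =>
        { carrier := {f | ∀ (Z : C) (k : Z ⟶ Y) (x : MSec H Z), (O.obj.map k.op).hom f • x = 0}
          zero_mem' := fun Z k x => by rw [map_zero]; exact zero_smul _ _
          add_mem' := fun {a b} ha hb Z k x => by rw [map_add, add_smul, ha Z k x, hb Z k x, add_zero]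
          smul_mem' := fun c a ha Z k x => by rw [smul_eq_mul, map_mul, mul_smul, ha Z k x, smul_zero] }
      map_mem := fun {Y Y'} g f hf Z k x => by
        rw [← map_map_sect]
        exact hf Z (k ≫ g) x
      glue := fun {Y f} S hS hloc Z k x => sec_sep H (J.pullback_stable k hS) fun W l hl => by
        rw [_root_.ModSiteLib.res_smul]
        have := hloc (l ≫ k) hl W (𝟙 W) (_root_.ModSiteLib.res ((_root_.ModSiteLib.jP O).obj H) l.op x)
        rw [op_id, CategoryTheory.Functor.map_id, map_map_sect] at this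
        exact this.trans (map_zero (((_root_.ModSiteLib.jP O).obj H).map l.op).hom).symm }
  have hA : A.Contains s := fun i Y Z k x => by
    rw [(s i).2 k]
    have e : _root_.ModSiteLib.ap (DerComp.smulEnd (s i) H) Z x = 0 := by rw [h i]; rfl
    exact e
  intro Y f hf x
  have := hs.2 A hA Y hf Y (𝟙 Y) x
  rw [op_id, CategoryTheory.Functor.map_id] at this
  exact this

variable {O' : Sheaf J CommRingCat.{u}} {φ : O ⟶ O'} {I : DerComp.IdealSh O} {I' : DerComp.IdealSh O'}

theorem isIso_of_isZero' {A : Type*} [Category* A] [Preadditive A] {X Y : A} (f : X ⟶ Y) (hX : IsZero X)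
    (hY : IsZero Y) : IsIso f :=
  ⟨⟨0, hX.eq_of_src _ _, hY.eq_of_src _ _⟩⟩

/-- Modules killed by powers of the generators are unchanged by a flat extension. -/
theorem isIso_addOne_of_nilp (hinj : ∀ (U : C) (f : O.obj.obj (op U)), phi φ f ∈ I'.ideal U → f ∈ I.ideal U)
    (hsurj : ∀ (U : C) (f' : O'.obj.obj (op U)), ∃ S ∈ J U, ∀ ⦃V : C⦄ (g : V ⟶ U), S g →
      ∃ a : O.obj.obj (op V), (O'.obj.map g.op).hom f' - phi φ a ∈ I'.ideal V)
    (hI' : DerComp.IsIdealExt φ I I') (hflat : ModSite.IsFlat (algMod φ))
    {r : ℕ} (s : Fin r → DerComp.GSec O) (hs : I.IsGenBy s) :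
    ∀ (l acc : List (DerComp.GSec O)) (H : ModSite.Mod O) (_ : ∀ a ∈ acc, DerComp.smulEnd a H = 0)
      (_ : ∀ a ∈ l, ∃ k : ℕ, DerComp.smulEnd (a ^ k) H = 0) (_ : ∀ i, s i ∈ acc ++ l),
      IsIso ((addOneNat φ).app H)
  | [], acc, H, hacc, _, hmem =>
    isIso_addOne hinj hsurj hI' (killed_of_gen I s hs H fun i => hacc _ (by simpa using hmem i))
  | a :: l, acc, H, hacc, hl, hmem => by
    haveI := hflat.1
    haveI := hflat.2
    let F := (ModSite.tensorBi O).flip.obj (algMod φ)
    obtain ⟨k, hk⟩ := hl a List.mem_cons_self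
    have hl' : ∀ b ∈ l, ∃ j : ℕ, DerComp.smulEnd (b ^ j) H = 0 := fun b hb => hl b (List.mem_cons_of_mem a hb)
    clear hl
    induction k generalizing H with
    | zero =>
      have hz : IsZero H := (IsZero.iff_id_eq_zero H).2 (by rw [← DerComp.smulEnd_one, ← pow_zero a, hk])
      exact isIso_of_isZero' _ hz (F.map_isZero hz)
    | succ k ih =>
      let u := DerComp.smulEnd a H
      have hsub : ∀ c : DerComp.GSec O, DerComp.smulEnd c H = 0 → DerComp.smulEnd c (kernel u) = 0 :=
        fun c hc => by rw [← cancel_mono (kernel.ι u), DerComp.smulEnd_comm, hc, comp_zero, zero_comp]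
      have hquo : ∀ c : DerComp.GSec O, DerComp.smulEnd c H = 0 →
          DerComp.smulEnd c (cokernel (kernel.ι u)) = 0 := fun c hc => by
        rw [← cancel_epi (cokernel.π (kernel.ι u)), ← DerComp.smulEnd_comm, hc, comp_zero, zero_comp]
      have h1 : IsIso ((addOneNat φ).app (kernel u)) := by
        refine isIso_addOne_of_nilp hinj hsurj hI' hflat s hs l (acc ++ [a]) _ ?_
          (fun b hb => (hl' b hb).imp fun j hj => hsub _ hj) (fun i => by simpa using hmem i)
        intro b hb
        rcases List.mem_append.1 hb with hb | hb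
        · exact hsub b (hacc b hb)
        · obtain rfl : b = a := by simpa using hb
          rw [← cancel_mono (kernel.ι u), DerComp.smulEnd_comm, kernel.condition, zero_comp]
      have h2 : IsIso ((addOneNat φ).app (cokernel (kernel.ι u))) := by
        refine ih _ (fun b hb => hquo b (hacc b hb)) ?_ (fun b hb => (hl' b hb).imp fun j hj => hquo _ hj)
        rw [← cancel_epi (cokernel.π (kernel.ι u)), ← DerComp.smulEnd_comm, comp_zero]
        have h3 : DerComp.smulEnd (a ^ k) H ≫ u = 0 := by
          rw [DerComp.smulEnd_comp, ← pow_succ, hk]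
        rw [← kernel.lift_ι u _ h3, Category.assoc, cokernel.condition, comp_zero]
      let S := ShortComplex.mk (kernel.ι u) (cokernel.π (kernel.ι u)) (cokernel.condition _)
      have hS : S.ShortExact :=
        { mono_f := inferInstanceAs (Mono (kernel.ι u))
          epi_g := inferInstanceAs (Epi (cokernel.π _))
          exact := S.exact_of_g_is_cokernel (cokernelIsCokernel _) }
      let τ : S ⟶ S.map F :=
        { τ₁ := (addOneNat φ).app S.X₁
          τ₂ := (addOneNat φ).app S.X₂
          τ₃ := (addOneNat φ).app S.X₃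
          comm₁₂ := ((addOneNat φ).naturality S.f).symm
          comm₂₃ := ((addOneNat φ).naturality S.g).symm }
      haveI : IsIso τ.τ₁ := h1
      haveI : IsIso τ.τ₃ := h2
      exact ShortComplex.isIso₂_of_shortExact_of_isIso₁₃ τ hS (hS.map_of_exact F)

/-- `- ⊗ O'` on complexes, with the unit. -/
noncomputable def addOneCx (φ : O ⟶ O') : 𝟭 (CochainComplex (ModSite.Mod O) ℤ) ⟶
    ((ModSite.tensorBi O).flip.obj (algMod φ)).mapHomologicalComplex (ComplexShape.up ℤ) where
  app K := { f := fun i => (addOneNat φ).app (K.X i), comm' := fun i j _ => ((addOneNat φ).naturality (K.d i j)).symm }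
  naturality K L g := by
    ext i : 1
    exact (addOneNat φ).naturality (g.f i)

section Derived

variable (φ) [PreservesFiniteLimits ((ModSite.tensorBi O).flip.obj (algMod φ))]
  [PreservesFiniteColimits ((ModSite.tensorBi O).flip.obj (algMod φ))]

/-- `- ⊗ O'` on the derived category. -/
noncomputable abbrev algD : DerivedCategory (ModSite.Mod O) ⥤ DerivedCategory (ModSite.Mod O) :=
  ((ModSite.tensorBi O).flip.obj (algMod φ)).mapDerivedCategory

/-- The unit on the derived category. -/
noncomputable def addOneD : 𝟭 (DerivedCategory (ModSite.Mod O)) ⟶ algD φ :=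
  letI : Localization.Lifting DerivedCategory.Q (HomologicalComplex.quasiIso (ModSite.Mod O) (ComplexShape.up ℤ))
      (((ModSite.tensorBi O).flip.obj (algMod φ)).mapHomologicalComplex (ComplexShape.up ℤ) ⋙ DerivedCategory.Q)
      (algD φ) := ⟨((ModSite.tensorBi O).flip.obj (algMod φ)).mapDerivedCategoryFactors⟩
  Localization.liftNatTrans DerivedCategory.Q (HomologicalComplex.quasiIso _ _) DerivedCategory.Q
    (((ModSite.tensorBi O).flip.obj (algMod φ)).mapHomologicalComplex (ComplexShape.up ℤ) ⋙ DerivedCategory.Q)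
    _ _ (Functor.whiskerRight (addOneCx φ) DerivedCategory.Q)

theorem addOneD_app (K : CochainComplex (ModSite.Mod O) ℤ) :
    (addOneD φ).app (DerivedCategory.Q.obj K) = DerivedCategory.Q.map ((addOneCx φ).app K) ≫
      ((ModSite.tensorBi O).flip.obj (algMod φ)).mapDerivedCategoryFactors.inv.app K := by
  rw [addOneD, Localization.liftNatTrans_app]
  simp [Localization.Lifting.iso]

end Derived

theorem isIso_addOneD_of_nilp (hinj : ∀ (U : C) (f : O.obj.obj (op U)), phi φ f ∈ I'.ideal U → f ∈ I.ideal U)
    (hsurj : ∀ (U : C) (f' : O'.obj.obj (op U)), ∃ S ∈ J U, ∀ ⦃V : C⦄ (g : V ⟶ U), S g →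
      ∃ a : O.obj.obj (op V), (O'.obj.map g.op).hom f' - phi φ a ∈ I'.ideal V)
    (hI' : DerComp.IsIdealExt φ I I') (hflat : ModSite.IsFlat (algMod φ))
    [PreservesFiniteLimits ((ModSite.tensorBi O).flip.obj (algMod φ))]
    [PreservesFiniteColimits ((ModSite.tensorBi O).flip.obj (algMod φ))]
    {r : ℕ} (s : Fin r → DerComp.GSec O) (hs : I.IsGenBy s) (X : DerivedCategory (ModSite.Mod O))
    (hX : ∀ i, Nilp (s i) X) : IsIso ((addOneD φ).app X) := by
  let K := DerivedCategory.Q.objPreimage X
  let e : DerivedCategory.Q.obj K ≅ X := DerivedCategory.Q.objObjPreimageIso X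
  suffices IsIso ((addOneD φ).app (DerivedCategory.Q.obj K)) from (NatTrans.isIso_app_iff_of_iso _ e).1 this
  let F := (ModSite.tensorBi O).flip.obj (algMod φ)
  haveI : F.PreservesHomology := inferInstance
  haveI : QuasiIso ((addOneCx φ).app K) := ⟨fun i => by
    rw [quasiIsoAt_iff, ShortComplex.quasiIso_iff]
    haveI : IsIso ((addOneNat φ).app (K.homology i)) :=
      isIso_addOne_of_nilp hinj hsurj hI' hflat s hs (List.ofFn s) [] (K.homology i)
        (fun a ha => absurd ha List.not_mem_nil)
        (fun a ha => by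
          obtain ⟨j, rfl⟩ := List.mem_ofFn.1 ha
          obtain ⟨k, hk⟩ := nilp_of_iso e.symm (hX j)
          exact ⟨k, homologyMap_smul_eq_zero _ hk i⟩)
        (fun j => by simp [List.mem_ofFn])
    have h : (addOneNat φ).app (K.sc i).homology = _ := NatTrans.app_homology (addOneNat φ) (K.sc i)
    change IsIso (ShortComplex.homologyMap ((K.sc i).mapNatTrans (addOneNat φ)))
    have h' : ShortComplex.homologyMap ((K.sc i).mapNatTrans (addOneNat φ)) =
        ((K.sc i).mapHomologyIso (𝟭 _)).hom ≫ (addOneNat φ).app (K.homology i) ≫ ((K.sc i).mapHomologyIso F).inv := by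
      rw [show (addOneNat φ).app (K.homology i) = _ from h]
      simp [F]
    rw [h']
    infer_instance⟩
  haveI : IsIso (DerivedCategory.Q.map ((addOneCx φ).app K)) :=
    (DerivedCategory.isIso_Q_map_iff_quasiIso (C := ModSite.Mod O) _).2 inferInstance
  rw [addOneD_app]
  infer_instance

/-- Killed test objects do not distinguish `X` and `F X`. -/
theorem bijective_of_nilp (F : DerivedCategory (ModSite.Mod O) ⥤ DerivedCategory (ModSite.Mod O))
    [F.CommShift ℤ] [F.IsTriangulated] [F.Linear (DerComp.GSec O)] (η : 𝟭 _ ⟶ F)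
    (T : DerivedCategory (ModSite.Mod O)) :
    ∀ (l acc : List (DerComp.GSec O))
      (_ : ∀ X, (∀ a ∈ acc ++ l, Nilp a X) → IsIso (η.app X)) (_ : ∀ a ∈ l, Nilp a T)
      (X : DerivedCategory (ModSite.Mod O)), (∀ a ∈ acc, Nilp a X) →
      Function.Bijective fun x : T ⟶ X => x ≫ η.app X
  | [], acc, hbase, _, X, hX => by
    haveI := hbase X (by simpa using hX)
    exact ⟨fun x y h => (cancel_mono (η.app X)).1 h, fun y => ⟨y ≫ inv (η.app X), by
      change (y ≫ inv (η.app X)) ≫ η.app X = y
      rw [Category.assoc, IsIso.inv_hom_id, Category.comp_id]⟩⟩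
  | a :: l, acc, hbase, hT, X, hX => by
    obtain ⟨k, hk⟩ := hT a List.mem_cons_self
    let c := a ^ (k + 1)
    have hc : c • 𝟙 T = 0 := by
      change a ^ (k + 1) • 𝟙 T = 0
      rw [pow_succ', mul_smul, hk, smul_zero]
    obtain ⟨Z, p, q, hZ⟩ := Pretriangulated.distinguished_cocone_triangle (c • 𝟙 X)
    have hZn : ∀ b ∈ acc ++ [a], Nilp b Z := fun b hb => by
      rcases List.mem_append.1 hb with hb | hb
      · exact (nilp_cone hZ).2 b (hX b hb)
      · obtain rfl : b = a := by simpa using hb
        obtain ⟨m, hm⟩ := (nilp_cone hZ).1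
        exact ⟨(k + 1) * m, by rw [pow_mul]; exact hm⟩
    have ih := fun Y hY => bijective_of_nilp F η T l (acc ++ [a])
      (fun X' h => hbase X' (by simpa using h)) (fun b hb => hT b (List.mem_cons_of_mem a hb)) Y hY
    have hkill : ∀ (Y : DerivedCategory (ModSite.Mod O)) (y : T ⟶ Y), y ≫ (c • 𝟙 Y) = 0 := fun Y y => by
      rw [Linear.comp_smul, Category.comp_id, ← Category.id_comp y, ← Linear.smul_comp, hc, zero_comp]
    refine ⟨fun x x' hxx => sub_eq_zero.1 ?_, fun y => ?_⟩
    · have h0 : (x - x') ≫ η.app X = 0 := by rw [Preadditive.sub_comp, sub_eq_zero]; exact hxx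
      have h1 : (x - x') ≫ p = 0 := (ih Z hZn).1 (by
        change ((x - x') ≫ p) ≫ η.app Z = (0 : T ⟶ Z) ≫ η.app Z
        rw [Category.assoc, show p ≫ η.app Z = η.app X ≫ F.map p from η.naturality p, reassoc_of% h0,
          zero_comp, zero_comp])
      obtain ⟨w, hw⟩ := Triangle.coyoneda_exact₂ _ hZ (x - x') h1
      exact hw.trans (hkill X w)
    · let S := (Triangle.mk (c • 𝟙 X) p q).invRotate
      have hS : S ∈ Pretriangulated.distinguishedTriangles := Pretriangulated.inv_rot_of_distTriang _ hZ
      obtain ⟨w, hw⟩ := Triangle.coyoneda_exact₂ _ (F.map_distinguished _ hS) y (by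
        refine Eq.trans (congrArg (y ≫ ·) ?_) (hkill _ y)
        change F.map (c • 𝟙 X) = c • 𝟙 (F.obj X)
        rw [Functor.map_smul, CategoryTheory.Functor.map_id]
        )
      obtain ⟨w', hw'⟩ := (ih S.obj₁ fun b hb => nilp_shift (hZn b hb) _).2 w
      refine ⟨w' ≫ S.mor₁, ?_⟩
      change (w' ≫ S.mor₁) ≫ η.app X = y
      rw [Category.assoc, show S.mor₁ ≫ η.app X = η.app S.obj₁ ≫ F.map S.mor₁ from η.naturality S.mor₁,
        ← Category.assoc]
      exact (congrArg (· ≫ F.map S.mor₁) hw').trans hw.symm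

end Groth.Agent.DerCompLib
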