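import Groth.Agent.ModSiteLib.SetPullLocal
import Groth.Agent.DerCompLib.RestrOrth
import Groth.Agent.DerCompLib.RpushComp
import Groth.Agent.DerCompLib.Criteria

/-!
# A morphism of ringed sites over an object
-/

set_option autoImplicit false
set_option linter.style.haveILetI false
set_option linter.unusedSectionVars false
set_option backward.isDefEq.respectTransparency false

universe u

open CategoryTheory CategoryTheory.Limits Opposite HomologicalComplex
open CategoryTheory.Pretriangulated (Triangle)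
attribute [local instance] HasDerivedCategory.standard

namespace Groth.Agent.DerCompLib

open Groth.Agent.ModSiteLib (SetPull.Loc SetPull.loc_lift_pair SetPull.loc_lift_eq SetPull.loc_lift_cover)

variable {C : Type u} [SmallCategory C] {J : GrothendieckTopology C} {O : Sheaf J CommRingCat.{u}}
  {D : Type u} [SmallCategory D] {K : GrothendieckTopology D} {O_D : Sheaf K CommRingCat.{u}}
  (f : ModSite.RMor O O_D) (V : D)

/-- The functor between the localised sites. -/
abbrev overFn : Over V ⥤ Over (f.fn.obj V) := Over.post f.fn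

theorem coverPreserving_overFn : CoverPreserving (K.over V) (J.over (f.fn.obj V)) (overFn f V) := by
  refine CoverPreserving.overPost V ⟨fun {U S} hS => ?_⟩
  obtain ⟨T, hT, hT'⟩ := SetPull.loc_lift_cover (J := J) f.fn hS (𝟙 (f.fn.obj U))
  refine J.superset_covering ?_ hT
  intro Y g hg
  obtain ⟨W', h', k, hk, e⟩ := hT' g hg
  rw [Category.comp_id] at e
  exact ⟨W', k, h', hk, e⟩

theorem compatiblePreserving_overFn : CompatiblePreserving.{u} (J.over (f.fn.obj V)) (overFn f V) := by
  constructor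
  intro P Z T x hx Y₁ Y₂ X f₁ f₂ g₁ g₂ hg₁ hg₂ he
  obtain ⟨S, hS, hS'⟩ := ((SetPull.loc_lift_pair (J := J) (K := K) f.fn f₁.left f₂.left).bind
    (q := fun {Y'} k => ∃ (W : D) (h : Y' ⟶ f.fn.obj W) (p : W ⟶ Y₁.left) (q : W ⟶ Y₂.left),
      k ≫ f₁.left = h ≫ f.fn.map p ∧ k ≫ f₂.left = h ≫ f.fn.map q ∧ p ≫ g₁.left = q ≫ g₂.left)
    fun Y' k ⟨W, h, p, q, e₁, e₂⟩ => by
      refine (SetPull.loc_lift_eq (J := J) (K := K) f.fn (p ≫ g₁.left) (q ≫ g₂.left) h ?_).mono
        fun Y'' l ⟨W', h', m, hm, em⟩ => ⟨W', h', m ≫ p, m ≫ q, ?_, ?_, ?_⟩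
      · have he' : f₁.left ≫ f.fn.map g₁.left = f₂.left ≫ f.fn.map g₂.left :=
          congrArg (fun t => t.left) he
        rw [f.fn.map_comp, f.fn.map_comp, ← reassoc_of% e₁, ← reassoc_of% e₂, he']
      · rw [Category.assoc, e₁, f.fn.map_comp, ← reassoc_of% em]
      · rw [Category.assoc, e₂, f.fn.map_comp, ← reassoc_of% em]
      · rw [Category.assoc, Category.assoc, hm])
  refine (((isSheaf_iff_isSheaf_of_type _ _).1 P.property).isSeparated _
    (GrothendieckTopology.overEquiv_symm_mem_over J X S hS)).ext fun Y' k hk => ?_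
  rw [Sieve.overEquiv_symm_iff] at hk
  obtain ⟨W, h, p, q, e₁, e₂, e₃⟩ := hS' k.left hk
  let W₀ : Over V := Over.mk (p ≫ Y₁.hom)
  have hq : q ≫ Y₂.hom = p ≫ Y₁.hom := by
    rw [← Over.w g₁, ← Over.w g₂, ← Category.assoc, ← e₃, Category.assoc]
  let p₀ : W₀ ⟶ Y₁ := Over.homMk p
  let q₀ : W₀ ⟶ Y₂ := Over.homMk q hq
  let h₀ : Y' ⟶ (overFn f V).obj W₀ := Over.homMk h (by
    change h ≫ f.fn.map (p ≫ Y₁.hom) = Y'.hom
    rw [f.fn.map_comp, ← reassoc_of% e₁, show f₁.left ≫ f.fn.map Y₁.hom = X.hom from Over.w f₁, Over.w k])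
  have hp₀ : k ≫ f₁ = h₀ ≫ (overFn f V).map p₀ := by ext1; exact e₁
  have hq₀ : k ≫ f₂ = h₀ ≫ (overFn f V).map q₀ := by ext1; exact e₂
  have := congrArg (P.obj.map h₀.op) (hx p₀ q₀ hg₁ hg₂ (by ext1; exact e₃))
  change P.obj.map k.op (P.obj.map f₁.op (x g₁ hg₁)) = P.obj.map k.op (P.obj.map f₂.op (x g₂ hg₂))
  simp only [Functor.comp_map, Functor.op_map, Quiver.Hom.unop_op] at this
  rw [← FunctorToTypes.map_comp_apply, ← FunctorToTypes.map_comp_apply, ← op_comp, ← op_comp, hp₀, hq₀,
    op_comp, op_comp, FunctorToTypes.map_comp_apply, FunctorToTypes.map_comp_apply]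
  exact this

instance isContinuous_overFn : (overFn f V).IsContinuous (K.over V) (J.over (f.fn.obj V)) :=
  Functor.isContinuous_of_coverPreserving (compatiblePreserving_overFn f V) (coverPreserving_overFn f V)

/-- The structure map over `V`. -/
noncomputable def sharpOver : O_D.over V ⟶
    ((overFn f V).sheafPushforwardContinuous CommRingCat.{u} (K.over V) (J.over (f.fn.obj V))).obj
      (O.over (f.fn.obj V)) :=
  ⟨{ app := fun Y => f.sharp.hom.app (op Y.unop.left)
     naturality := fun Y Z g => f.sharp.hom.naturality g.unop.left.op }⟩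

/-- Direct image over `V`. -/
noncomputable abbrev pushOver : ModSite.Mod (O.over (f.fn.obj V)) ⥤ ModSite.Mod (O_D.over V) :=
  SheafOfModules.pushforward.{u}
    ((sheafCompose (K.over V) (forget₂ CommRingCat.{u} RingCat.{u})).map (sharpOver f V))

instance additive_pushOver : (pushOver f V).Additive where

/-- Direct image commutes with restriction. -/
noncomputable def pushRestrIso :
    f.push ⋙ ModSite.restr O_D V ≅ ModSite.restr O (f.fn.obj V) ⋙ pushOver f V :=
  NatIso.ofComponents (fun M => Iso.refl _) (fun _ => rfl)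

/-- A section over `V`, upstairs. -/
noncomputable abbrev upSect (a : O_D.obj.obj (op V)) : DerComp.GSec (O.over (f.fn.obj V)) :=
  DerComp.GSec.ofSect O (f.fn.obj V) (sharpSect f V a)

theorem pushOver_smulEnd (a : O_D.obj.obj (op V)) (M : ModSite.Mod (O.over (f.fn.obj V))) :
    (pushOver f V).map (DerComp.smulEnd (upSect f V a) M) =
      DerComp.smulEnd (DerComp.GSec.ofSect O_D V a) ((pushOver f V).obj M) := by
  apply SheafOfModules.hom_ext
  ext ⟨Y⟩ : 1
  ext x
  exact congrArg (fun r : O.obj.obj (op (f.fn.obj Y.left)) =>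
      (show (ModSite.ringSh (O.over (f.fn.obj V))).obj.obj (op ((overFn f V).obj Y)) from r) •
        (show M.val.obj (op ((overFn f V).obj Y)) from x))
    (NatTrans.naturality_apply f.sharp.hom Y.hom.op a).symm

variable {I : DerComp.IdealSh O_D} {I' : DerComp.IdealSh O}

/-- Membership in an ideal of `C/U`, for sections of `O`. -/
def AMem {U : C} (A : DerComp.IdealSh (O.over U)) (Z : Over U) (x : O.obj.obj (op Z.left)) : Prop :=
  x ∈ A.ideal Z

theorem AMem.map {U : C} {A : DerComp.IdealSh (O.over U)} {Y Z : Over U} (g : Z ⟶ Y)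
    {x : O.obj.obj (op Y.left)} (h : AMem A Y x) : AMem A Z ((O.obj.map g.left.op).hom x) :=
  A.map_mem g h

theorem AMem.glue {U : C} {A : DerComp.IdealSh (O.over U)} {Y : Over U} {x : O.obj.obj (op Y.left)}
    (S : Sieve Y) (hS : S ∈ J.over U Y)
    (h : ∀ ⦃Z : Over U⦄ (g : Z ⟶ Y), S g → AMem A Z ((O.obj.map g.left.op).hom x)) : AMem A Y x :=
  A.glue S hS h

theorem sharp_nat {W Z : D} (p : Z ⟶ W) (g : O_D.obj.obj (op W)) :
    sharpSect f Z ((O_D.obj.map p.op).hom g) = (O.obj.map (f.fn.map p).op).hom (sharpSect f W g) :=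
  NatTrans.naturality_apply f.sharp.hom p.op g

theorem AMem.pull_map {A : DerComp.IdealSh (O.over (f.fn.obj V))} {Y Z : Over V} (g : Z ⟶ Y)
    {y : O_D.obj.obj (op Y.left)} (hy : AMem A ((overFn f V).obj Y) (sharpSect f Y.left y)) :
    AMem A ((overFn f V).obj Z) (sharpSect f Z.left ((O_D.obj.map g.left.op).hom y)) := by
  rw [sharp_nat]
  exact AMem.map ((overFn f V).map g) hy

theorem AMem.pull_glue {A : DerComp.IdealSh (O.over (f.fn.obj V))} {Y : Over V}
    {y : O_D.obj.obj (op Y.left)} (S : Sieve Y) (hS : S ∈ K.over V Y)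
    (h : ∀ ⦃W : Over V⦄ (g : W ⟶ Y), S g →
      AMem A ((overFn f V).obj W) (sharpSect f W.left ((O_D.obj.map g.left.op).hom y))) :
    AMem A ((overFn f V).obj Y) (sharpSect f Y.left y) := by
  refine AMem.glue _ ((coverPreserving_overFn f V).cover_preserve hS) ?_
  rintro Z k ⟨W, g, m, hg, rfl⟩
  have h0 := AMem.map m (h g hg)
  rw [sharp_nat] at h0
  exact (congrArg (AMem A Z) (map_map_sect (O := O) (f.fn.map g.left) m.left _)).mpr h0

/-- The sections of `O_D` over `V` whose image lies in an ideal upstairs. -/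
def pullIdeal (A : DerComp.IdealSh (O.over (f.fn.obj V))) : DerComp.IdealSh (O_D.over V) where
  ideal Y := (A.ideal ((overFn f V).obj Y)).comap (f.sharp.hom.app (op Y.left)).hom
  map_mem {Y Z} g {y} hy := AMem.pull_map f V (A := A) (Y := Y) (Z := Z) g (y := y) hy
  glue {Y y} S hS h := AMem.pull_glue f V (A := A) (Y := Y) (y := y) S hS h

theorem mem_pullIdeal {A : DerComp.IdealSh (O.over (f.fn.obj V))} {Y : Over V}
    {y : O_D.obj.obj (op Y.left)} (h : y ∈ (pullIdeal f V A).ideal Y) :
    AMem A ((overFn f V).obj Y) (sharpSect f Y.left y) := h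

/-- The sections of `O` which lie in `A` wherever they live over `U`. -/
def spreadIdeal {U : C} (A : DerComp.IdealSh (O.over U)) : DerComp.IdealSh O where
  ideal Y :=
    { carrier := {x | ∀ (Y' : C) (k : Y' ⟶ Y) (h : Y' ⟶ U), AMem A (Over.mk h) ((O.obj.map k.op).hom x)}
      zero_mem' := fun Y' k h => by
        rw [map_zero]
        exact (A.ideal (Over.mk h)).zero_mem
      add_mem' := fun ha hb Y' k h => by
        rw [map_add]
        exact (A.ideal (Over.mk h)).add_mem (ha Y' k h) (hb Y' k h)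
      smul_mem' := fun c x hx Y' k h => by
        rw [smul_eq_mul, map_mul]
        exact (A.ideal (Over.mk h)).mul_mem_left _ (hx Y' k h) }
  map_mem {Y Z} g {x} hx Y' k h := by
    have := hx Y' (k ≫ g) h
    rw [map_map_sect] at this
    exact this
  glue {Y x} S hS hloc Y' k h := by
    refine AMem.glue _ (GrothendieckTopology.overEquiv_symm_mem_over J (Over.mk h) _ (J.pullback_stable k hS)) ?_
    intro Z m hm
    rw [Sieve.overEquiv_symm_iff] at hm
    obtain ⟨Zl, Zh, rfl⟩ := Over.mk_surjective Z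
    have := hloc (m.left ≫ k) hm Zl (𝟙 Zl) Zh
    rw [← map_map_sect, Category.id_comp, map_map_sect] at this
    exact this

theorem mem_spreadIdeal {U : C} {A : DerComp.IdealSh (O.over U)} {Y : C} {x : O.obj.obj (op Y)}
    (h : x ∈ (spreadIdeal A).ideal Y) (h' : Y ⟶ U) : AMem A (Over.mk h') x := by
  have := h Y (𝟙 Y) h'
  rwa [op_id, CategoryTheory.Functor.map_id] at this

/-- The image of generators generates. -/
theorem isGenBy_up (hI' : DerComp.RIsIdealExt f I I') {r : ℕ} (a : Fin r → O_D.obj.obj (op V))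
    (ha : (I.over V).IsGenBy fun i => DerComp.GSec.ofSect O_D V (a i)) :
    (I'.over (f.fn.obj V)).IsGenBy fun i => upSect f V (a i) := by
  constructor
  · intro i Y
    have h1 : (O_D.obj.map (𝟙 V).op).hom (a i) ∈ I.ideal V := ha.1 i (Over.mk (𝟙 V))
    rw [op_id, CategoryTheory.Functor.map_id] at h1
    exact I'.map_mem Y.hom (hI'.1 V (a i) h1)
  · intro A hA
    have hB : I.over V ≤ pullIdeal f V A := ha.2 _ fun i Y => by
      have h0 : AMem A ((overFn f V).obj Y) ((O.obj.map (f.fn.map Y.hom).op).hom (sharpSect f V (a i))) :=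
        hA i ((overFn f V).obj Y)
      rw [← sharp_nat f Y.hom (a i)] at h0
      exact h0
    have hS : I' ≤ spreadIdeal A := hI'.2 _ fun W g hg Y' k h => by
      obtain ⟨S, hS, hS'⟩ := SetPull.loc_lift_pair (J := J) (K := K) f.fn k h
      refine AMem.glue _ (GrothendieckTopology.overEquiv_symm_mem_over J (Over.mk h) _ hS) ?_
      intro Z m hm
      rw [Sieve.overEquiv_symm_iff] at hm
      obtain ⟨Z₀, t, p, q, e₁, e₂⟩ := hS' m.left hm
      let Y₀ : Over V := Over.mk q
      have h1 : AMem A ((overFn f V).obj Y₀) (sharpSect f Z₀ ((O_D.obj.map p.op).hom g)) :=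
        mem_pullIdeal f V (hB Y₀ (I.map_mem p hg))
      let t₀ : Z ⟶ (overFn f V).obj Y₀ := Over.homMk t (e₂.symm.trans (Over.w m))
      have h2 : AMem A Z ((O.obj.map t.op).hom (sharpSect f Z₀ ((O_D.obj.map p.op).hom g))) := AMem.map t₀ h1
      rw [sharp_nat, ← map_map_sect, ← e₁, map_map_sect] at h2
      exact h2
    intro Y x hx
    obtain ⟨Yl, Yh, rfl⟩ := Over.mk_surjective Y
    exact mem_spreadIdeal (hS Yl hx) Yh

/-- Restriction preserves K-injective complexes. -/
theorem isKInjective_restr (U : C) (I₀ : CochainComplex (ModSite.Mod O) ℤ) [I₀.IsKInjective] :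
    CochainComplex.IsKInjective
      (((ModSite.restr O U).mapHomologicalComplex (ComplexShape.up ℤ)).obj I₀) := by
  let R := (ModSite.restr O U).mapHomologicalComplex (ComplexShape.up ℤ)
  let qV := HomotopyCategory.quotient (ModSite.Mod (O.over U)) (ComplexShape.up ℤ)
  let qC := HomotopyCategory.quotient (ModSite.Mod O) (ComplexShape.up ℤ)
  let adjH := DerLib.KInjDerived.mapHomotopyCategoryAdj (ModSite.extZeroAdj O U) (ComplexShape.up ℤ)
  refine ⟨fun {X} t hX => ⟨HomotopyCategory.homotopyOfEq _ _ ?_⟩⟩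
  let eh : (qV.obj X ⟶ qV.obj (R.obj I₀)) ≃
      (qC.obj (((ModSite.extZero O U).mapHomologicalComplex _).obj X) ⟶ qC.obj I₀) :=
    ((Iso.refl _).homCongr ((ModSite.restr O U).mapHomotopyCategoryFactors _ |>.app I₀).symm).trans
      ((adjH.homEquiv (qV.obj X) (qC.obj I₀)).symm.trans
        ((((ModSite.extZero O U).mapHomotopyCategoryFactors _).app X).homCongr (Iso.refl _)))
  have hX' : (((ModSite.extZero O U).mapHomologicalComplex (ComplexShape.up ℤ)).obj X).Acyclic := fun i =>
    (hX i).map (ModSite.extZero O U)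
  haveI : Subsingleton (qC.obj (((ModSite.extZero O U).mapHomologicalComplex _).obj X) ⟶ qC.obj I₀) :=
    ⟨fun a b => by
      obtain ⟨a', rfl⟩ := qC.map_surjective a
      obtain ⟨b', rfl⟩ := qC.map_surjective b
      exact (HomotopyCategory.eq_of_homotopy _ 0 (CochainComplex.IsKInjective.homotopyZero a' hX')).trans
        (HomotopyCategory.eq_of_homotopy _ 0 (CochainComplex.IsKInjective.homotopyZero b' hX')).symm⟩
  haveI := eh.subsingleton
  exact Subsingleton.elim _ _

/-- Vanishing iterated cones of K-injective complexes pass to direct images. -/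
theorem kz_pushOver : ∀ (a : List (O_D.obj.obj (op V)))
    (X : CochainComplex (ModSite.Mod (O.over (f.fn.obj V))) ℤ) [X.IsKInjective]
    (_ : KZ (a.map (upSect f V)) (DerivedCategory.Q.obj X)),
    KZ (a.map (DerComp.GSec.ofSect O_D V))
      (DerivedCategory.Q.obj (((pushOver f V).mapHomologicalComplex (ComplexShape.up ℤ)).obj X))
  | [], X, hX, h => by
    let q := HomotopyCategory.quotient (ModSite.Mod (O.over (f.fn.obj V))) (ComplexShape.up ℤ)
    have h0 : q.map (𝟙 X) = 0 := DerLib.KInjUse.quotient_eq_zero_of_Q (IsZero.eq_of_src h _ _)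
    change IsZero _
    rw [IsZero.iff_id_eq_zero, ← CategoryTheory.Functor.map_id, ← CategoryTheory.Functor.map_id]
    have H := HomotopyCategory.homotopyOfEq _ _ (h0.trans (Functor.map_zero q _ _).symm)
    refine DerLib.KInjUse.Q_map_zero_of_quotient ?_
    exact (HomotopyCategory.eq_of_homotopy _ _ ((pushOver f V).mapHomotopy H)).trans
      (by rw [Functor.map_zero, Functor.map_zero])
  | s :: a, X, hX, h => fun Z p q hT => by
    let P := (pushOver f V).mapHomologicalComplex (ComplexShape.up ℤ)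
    let φ : X ⟶ X := upSect f V s • 𝟙 X
    let Y := CochainComplex.mappingCone φ
    haveI : Y.IsKInjective := by
      rw [CochainComplex.isKInjective_iff_rightOrthogonal]
      exact (HomotopyCategory.subcategoryAcyclic _).rightOrthogonal.ext_of_isTriangulatedClosed₃
        _ (HomotopyCategory.mappingCone_triangleh_distinguished φ)
        (CochainComplex.IsKInjective.rightOrthogonal X) (CochainComplex.IsKInjective.rightOrthogonal X)
    let T₀ := DerivedCategory.Q.mapTriangle.obj (CochainComplex.mappingCone.triangle φ)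
    have hd : T₀ ∈ Pretriangulated.distinguishedTriangles :=
      (DerivedCategory.mem_distTriang_iff _).2 ⟨X, X, φ, ⟨Iso.refl _⟩⟩
    have hY := h (DerivedCategory.Q.obj Y) T₀.mor₂ T₀.mor₃ (by
      refine Pretriangulated.isomorphic_distinguished _ hd _ ?_
      refine Triangle.isoMk _ _ (Iso.refl _) (Iso.refl _) (Iso.refl _) ?_ ?_ ?_
      · change (upSect f V s • 𝟙 (DerivedCategory.Q.obj X)) ≫ 𝟙 _ = 𝟙 _ ≫ DerivedCategory.Q.map φ
        rw [Category.comp_id, Category.id_comp, Functor.map_smul, CategoryTheory.Functor.map_id]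
      · exact (Category.comp_id _).trans (Category.id_comp _).symm
      · change T₀.mor₃ ≫ (shiftFunctor _ (1 : ℤ)).map (𝟙 _) = 𝟙 _ ≫ T₀.mor₃
        rw [CategoryTheory.Functor.map_id]
        exact (Category.comp_id _).trans (Category.id_comp _).symm)
    have hd' : DerivedCategory.Q.mapTriangle.obj (CochainComplex.mappingCone.triangle (P.map φ)) ∈
        Pretriangulated.distinguishedTriangles :=
      (DerivedCategory.mem_distTriang_iff _).2 ⟨P.obj X, P.obj X, P.map φ, ⟨Iso.refl _⟩⟩
    have hφ : P.map φ = DerComp.GSec.ofSect O_D V s • 𝟙 (P.obj X) := by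
      ext i : 1
      change (pushOver f V).map (DerComp.smulEnd (upSect f V s) _ ≫ 𝟙 (X.X i)) =
        DerComp.smulEnd _ _ ≫ 𝟙 _
      rw [Category.comp_id, Category.comp_id, pushOver_smulEnd]
    obtain ⟨e, -⟩ := Pretriangulated.exists_iso_of_arrow_iso _ _ hd' hT
      (Arrow.isoMk (Iso.refl _) (Iso.refl _) (by
        change 𝟙 _ ≫ (DerComp.GSec.ofSect O_D V s • 𝟙 (DerivedCategory.Q.obj (P.obj X))) =
          DerivedCategory.Q.map (P.map φ) ≫ 𝟙 _
        rw [Category.id_comp, Category.comp_id, hφ, Functor.map_smul, CategoryTheory.Functor.map_id]))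
    refine kz_of_iso ?_ (kz_pushOver a Y hY)
    exact DerivedCategory.Q.mapIso (CochainComplex.mappingCone.mapHomologicalComplexIso φ (pushOver f V)) ≪≫
      Triangle.π₃.mapIso e

theorem kz_restr_rpush [SiteCmp.HasRpushD f] (hI' : DerComp.RIsIdealExt f I I') {r : ℕ}
    (a : Fin r → O_D.obj.obj (op V))
    (ha : (I.over V).IsGenBy fun i => DerComp.GSec.ofSect O_D V (a i))
    (N : DerivedCategory (ModSite.Mod O)) (hN : Orth I' N) :
    KZ (List.ofFn fun i => DerComp.GSec.ofSect O_D V (a i))
      ((restrD O_D V).obj ((SiteCmp.RpushD f).obj N)) := by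
  obtain ⟨I₀, hI₀, ⟨e⟩⟩ := DerLib.KInjUse.exists_iso_Q_kInjective N
  let U := f.fn.obj V
  let X := ((ModSite.restr O U).mapHomologicalComplex (ComplexShape.up ℤ)).obj I₀
  haveI : CochainComplex.IsKInjective X := isKInjective_restr U I₀
  have h1 := kz_of_iso ((restrD O U).mapIso e ≪≫ (ModSite.restr O U).mapDerivedCategoryFactors.app I₀)
    (kz_restr_of_orth I' U _ (isGenBy_up f V hI' a ha) N hN)
  rw [show (List.ofFn fun i => upSect f V (a i)) = (List.ofFn a).map (upSect f V) from
    (List.map_ofFn (f := a) (g := upSect f V)).symm] at h1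
  have h2 := kz_pushOver f V (List.ofFn a) X h1
  rw [show (List.ofFn fun i => DerComp.GSec.ofSect O_D V (a i)) =
    (List.ofFn a).map (DerComp.GSec.ofSect O_D V) from
    (List.map_ofFn (f := a) (g := DerComp.GSec.ofSect O_D V)).symm]
  refine kz_of_iso ?_ h2
  let eN : (SiteCmp.RpushD f).obj N ≅
      DerivedCategory.Q.obj ((f.push.mapHomologicalComplex (ComplexShape.up ℤ)).obj I₀) :=
    (SiteCmp.RpushD f).mapIso e ≪≫ rIso f I₀
  exact ((restrD O_D V).mapIso eN ≪≫
    (ModSite.restr O_D V).mapDerivedCategoryFactors.app _ ≪≫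
    DerivedCategory.Q.mapIso (((NatIso.mapHomologicalComplex (pushRestrIso f V) _).app I₀))).symm

end Groth.Agent.DerCompLib
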