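import Groth.Agent.DerCompLib.ExtNilp
import Groth.Agent.DerCompLib.OverPush

/-!
# Restricting an extension of scalars to an object
-/

set_option autoImplicit false
set_option linter.style.haveILetI false
set_option linter.unusedSectionVars false
set_option backward.isDefEq.respectTransparency false

universe u

open CategoryTheory CategoryTheory.Limits Opposite MonoidalCategory

namespace Groth.Agent.DerCompLib

open _root_.ModSiteLib (jP aP adjP tens ap shT res res_id res_comp tens_hom_ext oRes resTensor restrPreIso)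

variable {C : Type u} [SmallCategory C] {J : GrothendieckTopology C} {O O' : Sheaf J CommRingCat.{u}}
  (φ : O ⟶ O') (V : C)

/-- `φ` over `V`. -/
noncomputable abbrev phiOver : O.over V ⟶ O'.over V := (J.overPullback CommRingCat.{u} V).map φ

variable {φ} {I : DerComp.IdealSh O} {I' : DerComp.IdealSh O'}

theorem isIdealExt_over (hI' : DerComp.IsIdealExt φ I I') :
    DerComp.IsIdealExt (phiOver φ V) (I.over V) (I'.over V) := by
  refine ⟨fun U g hg => hI'.1 U.left g hg, fun A hA => ?_⟩
  have hS : I' ≤ spreadIdeal (O := O') A := hI'.2 _ fun W g hg Y' k h => by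
    have := hA (Over.mk h) _ (I.map_mem k hg)
    rw [show ((phiOver φ V).hom.app (op (Over.mk h))).hom ((O.obj.map k.op).hom g) =
      (O'.obj.map k.op).hom ((φ.hom.app (op W)).hom g) from NatTrans.naturality_apply φ.hom k.op g] at this
    exact this
  intro U x hx
  obtain ⟨Ul, Uh, rfl⟩ := Over.mk_surjective U
  exact mem_spreadIdeal (hS Ul hx) Uh

theorem hinj_over (hinj : ∀ (U : C) (f : O.obj.obj (op U)), phi φ f ∈ I'.ideal U → f ∈ I.ideal U)
    (U : Over V) (f : (O.over V).obj.obj (op U)) (h : phi (phiOver φ V) f ∈ (I'.over V).ideal U) :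
    f ∈ (I.over V).ideal U := hinj U.left f h

theorem hsurj_over (hsurj : ∀ (U : C) (f' : O'.obj.obj (op U)), ∃ S ∈ J U, ∀ ⦃W : C⦄ (g : W ⟶ U), S g →
      ∃ a : O.obj.obj (op W), (O'.obj.map g.op).hom f' - phi φ a ∈ I'.ideal W)
    (U : Over V) (f' : (O'.over V).obj.obj (op U)) : ∃ S ∈ J.over V U, ∀ ⦃W : Over V⦄ (g : W ⟶ U), S g →
      ∃ a : (O.over V).obj.obj (op W),
        ((O'.over V).obj.map g.op).hom f' - phi (phiOver φ V) a ∈ (I'.over V).ideal W := by
  obtain ⟨S, hS, h⟩ := hsurj U.left f'
  refine ⟨_, GrothendieckTopology.overEquiv_symm_mem_over J U S hS, fun W g hg => ?_⟩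
  rw [Sieve.overEquiv_symm_iff] at hg
  exact h g.left hg

variable (φ)

/-- The restricted algebra. -/
noncomputable def algRestrIso : algMod (phiOver φ V) ≅ (ModSite.restr O V).obj (algMod φ) := Iso.refl _

theorem isFlat_algMod_over (h : ModSite.IsFlat (algMod φ)) : ModSite.IsFlat (algMod (phiOver φ V)) :=
  _root_.ModSiteLib.isFlat_of_iso (O.over V) (algRestrIso φ V).symm (_root_.ModSiteLib.isFlat_restr' V h)

/-- The comparison on presheaves. -/
noncomputable def restrTensPre (M : ModSite.Mod O) :
    ((jP (O.over V)).obj ((ModSite.restr O V).obj M) ⊗ (jP (O.over V)).obj (algMod (phiOver φ V)) :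
      _root_.ModSiteLib.PMod (O.over V)) ⟶
      (jP (O.over V)).obj ((ModSite.restr O V).obj (tens M (algMod φ))) where
  app W := ModuleCat.MonoidalCategory.tensorLift
    (fun m b => shT M (algMod φ) (V := W.unop.left) m b)
    (fun m m' b => _root_.ModSiteLib.shT_add_left M (algMod φ) m m' b)
    (fun r m b => _root_.ModSiteLib.shT_smul_left M (algMod φ) (V := W.unop.left) r m b)
    (fun m b b' => _root_.ModSiteLib.shT_add_right M (algMod φ) m b b')
    (fun r m b => _root_.ModSiteLib.shT_smul_right M (algMod φ) (V := W.unop.left) r m b)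
  naturality {W W'} g := ModuleCat.MonoidalCategory.tensor_ext fun m b =>
    (_root_.ModSiteLib.res_shT M (algMod φ) g.unop.left m b).symm

/-- The comparison. -/
noncomputable def restrTens (M : ModSite.Mod O) :
    tens ((ModSite.restr O V).obj M) (algMod (phiOver φ V)) ⟶ (ModSite.restr O V).obj (tens M (algMod φ)) :=
  ((adjP (O.over V)).homEquiv _ _).symm (restrTensPre φ V M)

theorem ap_restrTens {M : ModSite.Mod O} {W : Over V} (m : MSec ((ModSite.restr O V).obj M) W)
    (b : O'.obj.obj (op W.left)) :
    ap (restrTens φ V M) W (shT ((ModSite.restr O V).obj M) (algMod (phiOver φ V)) m (bSec (phiOver φ V) b)) =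
      shT M (algMod φ) (V := W.left) m (bSec φ b) := by
  have e := ((adjP (O.over V)).homEquiv_unit _ _ (restrTens φ V M)).symm.trans
    (Equiv.apply_symm_apply _ (restrTensPre φ V M))
  exact congr($(e).app (op W) (TensorProduct.tmul ((O.over V).obj.obj (op W)) m (bSec (phiOver φ V) b)))

theorem isIso_restrTens (M : ModSite.Mod O) : IsIso (restrTens φ V M) := by
  let e : (jP (O.over V)).obj ((ModSite.restr O V).obj M) ⊗ (jP (O.over V)).obj (algMod (phiOver φ V)) ≅
      (oRes O V).obj ((jP O).obj M ⊗ (jP O).obj (algMod φ)) :=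
    tensorIso ((restrPreIso O V).app M)
      ((jP (O.over V)).mapIso (algRestrIso φ V) ≪≫ (restrPreIso O V).app (algMod φ)) ≪≫
    (@asIso _ _ _ _ _ (_root_.ModSiteLib.isIso_resTensor V ((jP O).obj M) ((jP O).obj (algMod φ))))
  let g := e.hom ≫ (oRes O V).map ((adjP O).unit.app ((jP O).obj M ⊗ (jP O).obj (algMod φ))) ≫
    ((restrPreIso O V).app (tens M (algMod φ))).inv
  have hg : restrTensPre φ V M = g := PresheafOfModules.hom_ext fun W =>
    ModuleCat.MonoidalCategory.tensor_ext fun m b => rfl
  haveI : IsIso ((aP (O.over V)).map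
      ((oRes O V).map ((adjP O).unit.app ((jP O).obj M ⊗ (jP O).obj (algMod φ))))) :=
    _root_.ModSiteLib.isIso_aP_map_of_W (O := O.over V) _
      (_root_.ModSiteLib.W_oRes V _ (_root_.ModSiteLib.W_unit O _))
  haveI : IsIso ((aP (O.over V)).map g) := by
    simp only [g, Functor.map_comp]
    infer_instance
  have h : restrTens φ V M = (aP (O.over V)).map g ≫ (adjP (O.over V)).counit.app _ :=
    (congrArg ((adjP (O.over V)).homEquiv _ _).symm hg).trans ((adjP (O.over V)).homEquiv_counit _ _ _)
  rw [h]
  infer_instance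

/-- `(M|V) ⊗ (O'|V) = (M ⊗ O')|V`. -/
noncomputable def restrTensIso :
    ModSite.restr O V ⋙ (ModSite.tensorBi (O.over V)).flip.obj (algMod (phiOver φ V)) ≅
      (ModSite.tensorBi O).flip.obj (algMod φ) ⋙ ModSite.restr O V :=
  haveI := isIso_restrTens φ V
  NatIso.ofComponents (fun M => asIso (restrTens φ V M)) fun {M N} g => tens_hom_ext fun W m b => by
    change ap (restrTens φ V N) W (ap (((ModSite.tensorBi (O.over V)).map ((ModSite.restr O V).map g)).app _) W
        (shT _ _ m (bSec (phiOver φ V) b))) =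
      ap (((ModSite.tensorBi O).map g).app (algMod φ)) W.left (ap (restrTens φ V M) W (shT _ _ m (bSec (phiOver φ V) b)))
    rw [_root_.ModSiteLib.ap_tensorBi₁, ap_restrTens, ap_restrTens]
    exact (_root_.ModSiteLib.ap_tensorBi₁ g (algMod φ) (V := W.left) m (bSec φ b)).symm

theorem addOne_restrTens (M : ModSite.Mod O) :
    addOne (phiOver φ V) ((ModSite.restr O V).obj M) ≫ restrTens φ V M =
      (ModSite.restr O V).map (addOne φ M) :=
  hom_ext_ap fun W m => by
    change ap (restrTens φ V M) W (ap (addOne (phiOver φ V) _) W m) = ap (addOne φ M) W.left m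
    rw [ap_addOne]
    exact (ap_restrTens φ V (W := W) m 1).trans (ap_addOne φ M (V := W.left) m).symm

end Groth.Agent.DerCompLib
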