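import Groth.Agent.DerCompLib.ExtKilled
import Groth.Agent.ModSiteLib.PullTensorIso
import Groth.Agent.ModSiteLib.RestrTensor

/-!
# `M ⊗ O'` is the restriction of the inverse image
-/

set_option autoImplicit false
set_option linter.style.haveILetI false
set_option linter.unusedSectionVars false
set_option backward.isDefEq.respectTransparency false

universe u

open CategoryTheory CategoryTheory.Limits Opposite MonoidalCategory

namespace Groth.Agent.DerCompLib

open _root_.ModSiteLib (jP aP adjP tens ap shT res res_id res_comp tens_hom_ext puS hat frP stdGen stdSec)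

variable {C : Type u} [SmallCategory C] {J : GrothendieckTopology C} {O O' : Sheaf J CommRingCat.{u}}
  (φ : O ⟶ O')

/-- The inverse image along `φ`. -/
noncomputable abbrev extSc : ModSite.Mod O ⥤ ModSite.Mod O' := (ringMor φ).pull

/-- The pullback of a section. -/
noncomputable abbrev up {M : ModSite.Mod O} {V : C} (m : MSec M V) : MSec ((extSc φ).obj M) V :=
  puS (ringMor φ) m

/-- A section of the restriction of scalars. -/
abbrev down {N : ModSite.Mod O'} {V : C} (x : MSec N V) : MSec ((ringMor φ).push.obj N) V := x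

theorem smul_down {N : ModSite.Mod O'} {V : C} (r : O.obj.obj (op V)) (x : MSec N V) :
    r • down φ x = down φ (phi φ r • x) := rfl

theorem up_smul {M : ModSite.Mod O} {V : C} (r : O.obj.obj (op V)) (m : MSec M V) :
    up φ (r • m) = phi φ r • up φ m :=
  (((jP O).map ((ringMor φ).adj.unit.app M)).app (op V)).hom.map_smul r m

theorem up_add {M : ModSite.Mod O} {V : C} (m m' : MSec M V) : up φ (m + m') = up φ m + up φ m' :=
  (((jP O).map ((ringMor φ).adj.unit.app M)).app (op V)).hom.map_add m m'

theorem res_up {M : ModSite.Mod O} {V W : C} (g : W ⟶ V) (m : MSec M V) :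
    res ((jP O').obj ((extSc φ).obj M)) g.op (up φ m) = up φ (res ((jP O).obj M) g.op m) :=
  _root_.ModSiteLib.res_puS (ringMor φ) g m

/-- `(m, b) ↦ b • η(m)`. -/
noncomputable def extPre (M : ModSite.Mod O) :
    ((jP O).obj M ⊗ (jP O).obj (algMod φ) : _root_.ModSiteLib.PMod O) ⟶
      (jP O).obj ((ringMor φ).push.obj ((extSc φ).obj M)) where
  app V := ModuleCat.MonoidalCategory.tensorLift
    (fun m b => down φ (V := V.unop) ((show O'.obj.obj V from b) • up φ (V := V.unop) m))
    (fun m m' b => by rw [up_add φ (V := V.unop), smul_add])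
    (fun r m b => by
      rw [up_smul φ (V := V.unop)]
      exact congrArg (down φ) (smul_comm _ _ _))
    (fun m b b' => congrArg (down φ) (add_smul (R := O'.obj.obj V) _ _ _))
    (fun r m b => congrArg (down φ) (mul_smul (phi φ (V := V.unop) r) (show O'.obj.obj V from b) (up φ (V := V.unop) m)))
  naturality {V W} g := ModuleCat.MonoidalCategory.tensor_ext fun m b => by
    change down φ ((O'.obj.map g).hom (show O'.obj.obj V from b) • up φ (V := W.unop) (res ((jP O).obj M) g.unop.op m)) =
      res ((jP O').obj ((extSc φ).obj M)) g.unop.op ((show O'.obj.obj V from b) • up φ (V := V.unop) m)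
    rw [_root_.ModSiteLib.res_smul, res_up]
    rfl

/-- `M ⊗ O' ⟶ φ_*φ^*M`. -/
noncomputable def extMap (M : ModSite.Mod O) :
    tens M (algMod φ) ⟶ (ringMor φ).push.obj ((extSc φ).obj M) :=
  ((adjP O).homEquiv _ _).symm (extPre φ M)

theorem ap_extMap {M : ModSite.Mod O} {V : C} (m : MSec M V) (b : O'.obj.obj (op V)) :
    ap (extMap φ M) V (shT M (algMod φ) m (bSec φ b)) = down φ (b • up φ m) := by
  have e := ((adjP O).homEquiv_unit _ _ (extMap φ M)).symm.trans
    (Equiv.apply_symm_apply _ (extPre φ M))
  exact congr($(e).app (op V) (TensorProduct.tmul (O.obj.obj (op V)) m (bSec φ b)))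

/-- The comparison, natural in the module. -/
noncomputable def extNat : (ModSite.tensorBi O).flip.obj (algMod φ) ⟶ extSc φ ⋙ (ringMor φ).push where
  app M := extMap φ M
  naturality M N g := tens_hom_ext fun V m b => by
    change ap (extMap φ N) V (ap (((ModSite.tensorBi O).map g).app (algMod φ)) V (shT M (algMod φ) m b)) =
      ap ((extSc φ).map g) V (ap (extMap φ M) V (shT M (algMod φ) m (bSec φ b)))
    rw [_root_.ModSiteLib.ap_tensorBi₁]
    refine (ap_extMap φ (M := N) _ b).trans ?_
    rw [ap_extMap]
    exact ((((jP O').map ((extSc φ).map g)).app (op V)).hom.map_smul _ _).trans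
      (congrArg (fun t => (show O'.obj.obj (op V) from b) • t)
        (_root_.ModSiteLib.puS_natural (ringMor φ) g m)) |>.symm

section Gen

variable (X : C)

/-- The source presheaf. -/
noncomputable abbrev genP : _root_.ModSiteLib.PMod O :=
  frP (O := O) (yoneda.obj X) ⊗ (jP O).obj (algMod φ)

/-- The free section. -/
noncomputable abbrev dlt {V : Cᵒᵖ} (s : V.unop ⟶ X) : (frP (O := O) (yoneda.obj X)).obj V :=
  ModuleCat.freeMk s

/-- The inverse on sections. -/
noncomputable def genInv (V : Cᵒᵖ) :
    ((V.unop ⟶ X) →₀ O'.obj.obj V) →+ (genP φ X).obj V :=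
  Finsupp.liftAddHom fun s =>
    { toFun := fun b => TensorProduct.tmul (O.obj.obj V) (dlt X s) (bSec φ (V := V.unop) b)
      map_zero' := TensorProduct.tmul_zero _ _
      map_add' := fun b b' => TensorProduct.tmul_add _ _ _ }

theorem genInv_single (V : Cᵒᵖ) (s : V.unop ⟶ X) (b : O'.obj.obj V) :
    genInv φ X V (Finsupp.single s b) = TensorProduct.tmul (O.obj.obj V) (dlt X s) (bSec φ (V := V.unop) b) :=
  Finsupp.liftAddHom_apply_single _ _ _

theorem surjective_genInv (V : Cᵒᵖ) : Function.Surjective (genInv φ X V) := by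
  intro z
  change TensorProduct (O.obj.obj V) _ _ at z
  induction z using TensorProduct.induction_on with
  | zero => exact ⟨0, map_zero _⟩
  | tmul q b =>
    change (V.unop ⟶ X) →₀ O.obj.obj V at q
    induction q using Finsupp.induction_linear with
    | zero => exact ⟨0, (map_zero _).trans (TensorProduct.zero_tmul (R := O.obj.obj V) _ b).symm⟩
    | add q q' hq hq' =>
      obtain ⟨x, hx⟩ := hq
      obtain ⟨x', hx'⟩ := hq'
      exact ⟨x + x', ((map_add _ _ _).trans (congrArg₂ (· + ·) hx hx')).trans
        (TensorProduct.add_tmul (R := O.obj.obj V) q q' b).symm⟩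
    | single s r =>
      refine ⟨Finsupp.single s (phi φ (V := V.unop) r * (show O'.obj.obj V from b)), (genInv_single φ X V s _).trans ?_⟩
      have e : (Finsupp.single s r : (V.unop ⟶ X) →₀ O.obj.obj V) = r • (Finsupp.single s 1) := by
        rw [Finsupp.smul_single, smul_eq_mul, mul_one]
      refine ((TensorProduct.smul_tmul r (dlt X s) b).trans ?_).symm.trans
        (congrArg (fun t => TensorProduct.tmul (O.obj.obj V) t b) e.symm)
      rfl
  | add z z' hz hz' =>
    obtain ⟨x, hx⟩ := hz
    obtain ⟨x', hx'⟩ := hz'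
    exact ⟨x + x', (map_add _ _ _).trans (congrArg₂ (· + ·) hx hx')⟩

theorem res_genInv {V W : Cᵒᵖ} (g : V ⟶ W) (q : (frP (O := O') (yoneda.obj X)).obj V) :
    res (genP φ X) g (genInv φ X V q) = genInv φ X W (res (frP (O := O') (yoneda.obj X)) g q) := by
  change (V.unop ⟶ X) →₀ O'.obj.obj V at q
  induction q using Finsupp.induction_linear with
  | zero =>
    rw [map_zero]
    exact (map_zero ((genP φ X).map g).hom).trans
      ((congrArg (genInv φ X W) (map_zero ((frP (O := O') (yoneda.obj X)).map g).hom)).trans (map_zero _)).symm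
  | add q q' hq hq' =>
    rw [map_add, _root_.ModSiteLib.res_add, hq, hq', ← map_add]
    exact congrArg (genInv φ X W) (_root_.ModSiteLib.res_add (frP (O := O') (yoneda.obj X)) g q q').symm
  | single s b =>
    have e : (Finsupp.single s b : (V.unop ⟶ X) →₀ O'.obj.obj V) = b • (Finsupp.single s 1) := by
      rw [Finsupp.smul_single, smul_eq_mul, mul_one]
    have e2 : res (frP (O := O') (yoneda.obj X)) g (Finsupp.single s b) =
        (Finsupp.single (g.unop ≫ s) ((O'.obj.map g).hom b) : (W.unop ⟶ X) →₀ O'.obj.obj W) := by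
      rw [e]
      refine (_root_.ModSiteLib.res_smul (frP (O := O') (yoneda.obj X)) g b (ModuleCat.freeMk s)).trans ?_
      rw [_root_.ModSiteLib.res_freeMk]
      change (O'.obj.map g).hom b • (Finsupp.single (g.unop ≫ s) 1 : (W.unop ⟶ X) →₀ O'.obj.obj W) = _
      rw [Finsupp.smul_single, smul_eq_mul, mul_one]
    rw [e2, genInv_single, genInv_single]
    refine Eq.trans ?_ (congrArg (fun t => TensorProduct.tmul (O.obj.obj W) t
      (bSec φ (V := W.unop) ((O'.obj.map g).hom b))) (_root_.ModSiteLib.res_freeMk (yoneda.obj X) g s))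
    rfl

variable {X} {G : ModSite.Mod O} (e : MSec G X)

/-- `(hat e) ⊗ O'` followed by the comparison. -/
noncomputable abbrev genMap : genP φ X ⟶ (jP O).obj ((ringMor φ).push.obj ((extSc φ).obj G)) :=
  hat e ▷ (jP O).obj (algMod φ) ≫ extPre φ G

theorem genMap_genInv (V : Cᵒᵖ) (q : (frP (O := O') (yoneda.obj X)).obj V) :
    (genMap φ e).app V (genInv φ X V q) = down φ (V := V.unop) ((hat (up φ e)).app V q) := by
  change (V.unop ⟶ X) →₀ O'.obj.obj V at q
  induction q using Finsupp.induction_linear with
  | zero =>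
    rw [map_zero]
    exact (map_zero ((genMap φ e).app V).hom).trans (map_zero ((hat (up φ e)).app V).hom).symm
  | add q q' hq hq' =>
    rw [map_add]
    refine (map_add ((genMap φ e).app V).hom _ _).trans ((congrArg₂ (· + ·) hq hq').trans ?_)
    exact (map_add ((hat (up φ e)).app V).hom q q').symm
  | single s b =>
    have e' : (Finsupp.single s b : (V.unop ⟶ X) →₀ O'.obj.obj V) = b • (Finsupp.single s 1) := by
      rw [Finsupp.smul_single, smul_eq_mul, mul_one]
    rw [genInv_single, e']
    refine Eq.trans ?_ (congrArg (down φ (V := V.unop))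
      ((((hat (up φ e)).app V).hom.map_smul b (ModuleCat.freeMk s)).trans
        (congrArg (b • ·) (_root_.ModSiteLib.hat_freeMk (up φ e) V s)))).symm
    rw [res_up]
    exact congrArg (fun t => down φ (V := V.unop) (b • up φ (V := V.unop) t))
      (_root_.ModSiteLib.hat_freeMk e V s)

include e in
theorem isIso_extMap_gen (he : _root_.ModSiteLib.IsGen e) : IsIso (extMap φ G) := by
  let Hh := (PresheafOfModules.toPresheaf _).map (hat (up φ e))
  have hW := (J.W_iff_isLocallyBijective Hh).1
    (_root_.ModSiteLib.W_hat (_root_.ModSiteLib.isGen_puS (ringMor φ) he))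
  let g := genMap φ e
  let Gg := (PresheafOfModules.toPresheaf _).map g
  have hinj : Presheaf.IsLocallyInjective J Gg := ⟨fun {V} x y hxy => by
    obtain ⟨q, rfl⟩ := surjective_genInv φ X V x
    obtain ⟨q', rfl⟩ := surjective_genInv φ X V y
    have h2 : (hat (up φ e)).app V q = (hat (up φ e)).app V q' :=
      (genMap_genInv φ e V q).symm.trans (hxy.trans (genMap_genInv φ e V q'))
    haveI := hW.1
    refine J.superset_covering ?_ (Presheaf.equalizerSieve_mem J Hh (X := V) q q' h2)
    intro Y k hk
    exact (res_genInv φ X k.op q).trans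
      ((congrArg (genInv φ X (op Y)) hk).trans (res_genInv φ X k.op q').symm)⟩
  have hsurj : Presheaf.IsLocallySurjective J Gg := ⟨fun {V} x => by
    haveI := hW.2
    refine J.superset_covering ?_ (Presheaf.imageSieve_mem J Hh (U := op V) x)
    rintro Y k ⟨t, ht⟩
    exact ⟨genInv φ X (op Y) t, (genMap_genInv φ e (op Y) t).trans ht⟩⟩
  have hg : J.W Gg := (J.W_iff_isLocallyBijective Gg).2 ⟨hinj, hsurj⟩
  haveI := _root_.ModSiteLib.isIso_aP_map_of_W g hg
  haveI : IsIso ((aP O).map (hat e ▷ (jP O).obj (algMod φ))) :=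
    _root_.ModSiteLib.isIso_tensorSh_map O _ _ (_root_.ModSiteLib.W_hat he)
  have : (aP O).map (hat e ▷ (jP O).obj (algMod φ)) ≫ extMap φ G =
      (aP O).map g ≫ (adjP O).counit.app _ := by
    exact ((adjP O).homEquiv_naturality_left_symm (hat e ▷ (jP O).obj (algMod φ)) (extPre φ G)).symm.trans
      ((adjP O).homEquiv_counit _ _ _)
  haveI : IsIso ((aP O).map (hat e ▷ (jP O).obj (algMod φ)) ≫ extMap φ G) := by
    rw [this]; infer_instance
  exact IsIso.of_isIso_comp_left ((aP O).map (hat e ▷ (jP O).obj (algMod φ))) _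

end Gen

theorem isIso_extMap (M : ModSite.Mod O) : IsIso (extMap φ M) := by
  haveI := _root_.ModSiteLib.isLeftAdjoint_tensor_flip (algMod φ)
  haveI : (extSc φ).IsLeftAdjoint := (ringMor φ).adj.isLeftAdjoint
  haveI := (_root_.ModSiteLib.restrictScalars_preserves
    ((sheafCompose J (forget₂ CommRingCat.{u} RingCat.{u})).map φ)).2.1
  haveI : PreservesColimitsOfSize.{u, u} (ringMor φ).push :=
    preservesColimits_of_natIso (pushRingMorIso φ).symm
  haveI : (ringMor φ).push.IsLeftAdjoint := _root_.ModSiteLib.isLeftAdjoint_of_preservesColimits _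
  haveI : (extSc φ ⋙ (ringMor φ).push).IsLeftAdjoint := inferInstance
  exact _root_.Groth.Agent.ModSiteLib.NatIsoGen.isIso_app_of_separating (extNat φ) (stdGen O)
    (fun _ _ g g' h => _root_.ModSiteLib.stdGen_separating g g' h)
    (fun X => isIso_extMap_gen φ (stdSec O X) (_root_.ModSiteLib.isGen_stdSec X)) M

/-- `M ⊗ O' = φ_*φ^*M`. -/
noncomputable def extIso : (ModSite.tensorBi O).flip.obj (algMod φ) ≅ extSc φ ⋙ (ringMor φ).push :=
  haveI := isIso_extMap φ
  NatIso.ofComponents (fun M => asIso (extMap φ M)) fun g => (extNat φ).naturality g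

theorem addOne_extMap (M : ModSite.Mod O) : addOne φ M ≫ extMap φ M = (ringMor φ).adj.unit.app M :=
  hom_ext_ap fun V m => by
    change ap (extMap φ M) V (ap (addOne φ M) V m) = _
    rw [ap_addOne, ap_extMap, one_smul]
    rfl

end Groth.Agent.DerCompLib
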