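import Groth.Agent.DerCompLib.RHomOrth
import Groth.Agent.DerLib.KInjTriangulated
import Groth.Agent.DerLib.KInjEnough
import Groth.Agent.DerLib.NilpTest
import Groth.Agent.DCompLib.Range
import Groth.Agent.DCompLib.AdicBC
import Mathlib.CategoryTheory.Linear.Yoneda
import Mathlib.Algebra.Homology.HomotopyCategory.HomComplexSingle

/-!
# `RHom(U, -)` from `D(O)` to `D(Γ(O))`
-/

set_option autoImplicit false
set_option linter.style.haveILetI false
set_option linter.unusedSectionVars false
set_option backward.isDefEq.respectTransparency false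

universe u

open CategoryTheory CategoryTheory.Limits Opposite HomologicalComplex
open CategoryTheory.Pretriangulated (Triangle)
open CochainComplex.HomComplex
attribute [local instance] HasDerivedCategory.standard

noncomputable section

namespace Groth.Agent.DerCompLib

variable {C : Type u} [SmallCategory C] {J : GrothendieckTopology C} {O : Sheaf J CommRingCat.{u}}
  (U : ModSite.Mod O)

/-- Morphisms out of `U`. -/
abbrev gF : ModSite.Mod O ⥤ ModuleCat.{u} (DerComp.GSec O) :=
  (linearCoyoneda (DerComp.GSec O) (ModSite.Mod O)).obj (op U)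

/-- On the homotopy category. -/
abbrev gKh : HomotopyCategory (ModSite.Mod O) (ComplexShape.up ℤ) ⥤
    DerivedCategory (ModuleCat.{u} (DerComp.GSec O)) :=
  (gF U).mapHomotopyCategory (ComplexShape.up ℤ) ⋙ DerivedCategory.Qh

theorem enoughKInj_mod : DerLib.KInjDerived.EnoughKInj (ModSite.Mod O) :=
  haveI : IsGrothendieckAbelian.{u} (ModSite.Mod O) := inferInstance
  DerLib.KInjDerived.enoughKInj _

instance hasRightDerived_gKh :
    (gKh U).HasRightDerivedFunctor (HomotopyCategory.quasiIso (ModSite.Mod O) (ComplexShape.up ℤ)) :=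
  DerLib.KInjDerived.hasRightDerivedFunctor _ enoughKInj_mod

/-- `RHom(U, -)`. -/
def gR : DerivedCategory (ModSite.Mod O) ⥤ DerivedCategory (ModuleCat.{u} (DerComp.GSec O)) :=
  (gKh U).totalRightDerived DerivedCategory.Qh
    (HomotopyCategory.quasiIso (ModSite.Mod O) (ComplexShape.up ℤ))

/-- The unit. -/
def gα : gKh U ⟶ DerivedCategory.Qh ⋙ gR U :=
  (gKh U).totalRightDerivedUnit DerivedCategory.Qh
    (HomotopyCategory.quasiIso (ModSite.Mod O) (ComplexShape.up ℤ))

instance : (gR U).IsRightDerivedFunctor (gα U)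
    (HomotopyCategory.quasiIso (ModSite.Mod O) (ComplexShape.up ℤ)) :=
  inferInstanceAs (((gKh U).totalRightDerived _ _).IsRightDerivedFunctor
    ((gKh U).totalRightDerivedUnit _ _) _)

/-- The shift structure. -/
instance commShift_gR : (gR U).CommShift ℤ :=
  (DerLib.KInjDerived.exists_isTriangulated_map enoughKInj_mod (gF U) (gR U) (gα U)).choose

instance isTriangulated_gR : (gR U).IsTriangulated :=
  (DerLib.KInjDerived.exists_isTriangulated_map enoughKInj_mod (gF U) (gR U) (gα U)).choose_spec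

instance additive_gR : (gR U).Additive := inferInstance

/-- The model on K-injective complexes. -/
def gModel (E : CochainComplex (ModSite.Mod O) ℤ) :
    DerivedCategory.Q.obj (((gF U).mapHomologicalComplex (ComplexShape.up ℤ)).obj E) ⟶
      (gR U).obj (DerivedCategory.Q.obj E) :=
  ((DerivedCategory.quotientCompQhIso _).app _).inv ≫
    DerivedCategory.Qh.map (((gF U).mapHomotopyCategoryFactors (ComplexShape.up ℤ)).app E).inv ≫
    (gα U).app _ ≫ (gR U).map ((DerivedCategory.quotientCompQhIso _).app E).hom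

instance isIso_gModel (E : CochainComplex (ModSite.Mod O) ℤ) [E.IsKInjective] : IsIso (gModel U E) := by
  haveI := DerLib.KInjDerived.isIso_app (gR U) (gα U) enoughKInj_mod E
  unfold gModel
  infer_instance

theorem gModel_naturality {E E' : CochainComplex (ModSite.Mod O) ℤ} (f : E ⟶ E') :
    DerivedCategory.Q.map (((gF U).mapHomologicalComplex (ComplexShape.up ℤ)).map f) ≫ gModel U E' =
      gModel U E ≫ (gR U).map (DerivedCategory.Q.map f) := by
  unfold gModel
  have h1 := (DerivedCategory.quotientCompQhIso _).inv.naturality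
    (((gF U).mapHomologicalComplex (ComplexShape.up ℤ)).map f)
  have h2 := ((gF U).mapHomotopyCategoryFactors (ComplexShape.up ℤ)).inv.naturality f
  have h3 := (gα U).naturality ((HomotopyCategory.quotient _ (ComplexShape.up ℤ)).map f)
  have h4 := (DerivedCategory.quotientCompQhIso (ModSite.Mod O)).hom.naturality f
  simp only [Functor.comp_map] at h1 h2 h3 h4
  simp only [Iso.app_inv, Iso.app_hom, Category.assoc, reassoc_of% h1, ← Functor.map_comp_assoc]
  erw [h2]
  simp only [Functor.map_comp, Category.assoc]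
  erw [reassoc_of% h3]
  simp only [← Functor.map_comp]
  erw [h4]

theorem gR_map_smul (s : DerComp.GSec O) (K : DerivedCategory (ModSite.Mod O)) :
    (gR U).map (s • 𝟙 K) = s • 𝟙 ((gR U).obj K) := by
  obtain ⟨E, f, hE, hf⟩ := enoughKInj_mod (DerivedCategory.Q.objPreimage K)
  let e : DerivedCategory.Q.obj E ≅ K :=
    (asIso (DerivedCategory.Q.map f)).symm ≪≫ DerivedCategory.Q.objObjPreimageIso K
  have h0 := gModel_naturality U (s • 𝟙 E)
  have hF : ((gF U).mapHomologicalComplex (ComplexShape.up ℤ)).map (s • 𝟙 E) = s • 𝟙 _ := by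
    ext i x
    change (show U ⟶ E.X i from x) ≫ (s • 𝟙 (E.X i)) = s • (show U ⟶ E.X i from x)
    rw [Linear.comp_smul, Category.comp_id]
  rw [hF, Functor.map_smul, Functor.map_smul, CategoryTheory.Functor.map_id, CategoryTheory.Functor.map_id,
    Linear.smul_comp, Category.id_comp] at h0
  have h1 : (gR U).map (s • 𝟙 (DerivedCategory.Q.obj E)) = s • 𝟙 _ := by
    rw [← cancel_epi (gModel U E)]
    refine h0.symm.trans ?_
    rw [Linear.comp_smul, Category.comp_id]
  have h : s • 𝟙 K = e.inv ≫ (s • 𝟙 (DerivedCategory.Q.obj E)) ≫ e.hom := by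
    rw [Linear.smul_comp, Linear.comp_smul, Category.id_comp, Iso.inv_hom_id]
  rw [h, Functor.map_comp, Functor.map_comp, h1, Linear.smul_comp, Linear.comp_smul, Category.id_comp,
    ← Functor.map_comp, Iso.inv_hom_id, CategoryTheory.Functor.map_id]

/-- The canonical class. -/
def gCanon : Dual.inD (DerComp.GSec O) (DerComp.GSec O) ⟶ (gR U).obj (SiteCmp.inD O U) :=
  ((DerivedCategory.singleFunctorIsoCompQ _ 0).app _).hom ≫
    DerivedCategory.Q.map ((single (ModuleCat.{u} (DerComp.GSec O)) (ComplexShape.up ℤ) 0).map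
      (ModuleCat.ofHom (LinearMap.toSpanSingleton (DerComp.GSec O) (U ⟶ U) (𝟙 U))) ≫
      (((HomologicalComplex.singleMapHomologicalComplex (gF U) (ComplexShape.up ℤ) 0).app U).inv)) ≫
    gModel U _ ≫ (gR U).map ((DerivedCategory.singleFunctorIsoCompQ (ModSite.Mod O) 0).app U).inv

/-- Classes of the cohomology. -/
def gθ {Y : DerivedCategory (ModSite.Mod O)} (t : SiteCmp.inD O U ⟶ Y) :
    Dual.inD (DerComp.GSec O) (DerComp.GSec O) ⟶ (gR U).obj Y :=
  gCanon U ≫ (gR U).map t

theorem gθ_comp {Y Y' : DerivedCategory (ModSite.Mod O)} (t : SiteCmp.inD O U ⟶ Y) (g : Y ⟶ Y') :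
    gθ U (t ≫ g) = gθ U t ≫ (gR U).map g := by
  simp [gθ]

theorem gθ_smul {Y : DerivedCategory (ModSite.Mod O)} (s : DerComp.GSec O) (t : SiteCmp.inD O U ⟶ Y) :
    gθ U (s • t) = s • gθ U t := by
  have h : s • t = t ≫ (s • 𝟙 Y) := by rw [Linear.comp_smul, Category.comp_id]
  rw [h, gθ_comp, gR_map_smul, Linear.comp_smul, Category.comp_id]

theorem gθ_add {Y : DerivedCategory (ModSite.Mod O)} (t t' : SiteCmp.inD O U ⟶ Y) :
    gθ U (t + t') = gθ U t + gθ U t' := by
  simp [gθ, Functor.map_add]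

section Chain

variable (E : CochainComplex (ModSite.Mod O) ℤ)

/-- The chain-level comparison. -/
def gχ (f : (single (ModSite.Mod O) (ComplexShape.up ℤ) 0).obj U ⟶ E) :
    (single (ModuleCat.{u} (DerComp.GSec O)) (ComplexShape.up ℤ) 0).obj
      (ModuleCat.of (DerComp.GSec O) (DerComp.GSec O)) ⟶
      ((gF U).mapHomologicalComplex (ComplexShape.up ℤ)).obj E :=
  (single _ _ 0).map (ModuleCat.ofHom (LinearMap.toSpanSingleton (DerComp.GSec O) (U ⟶ U) (𝟙 U))) ≫
    ((HomologicalComplex.singleMapHomologicalComplex (gF U) (ComplexShape.up ℤ) 0).app U).inv ≫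
    ((gF U).mapHomologicalComplex (ComplexShape.up ℤ)).map f

theorem gχ_apply_one (f : (single (ModSite.Mod O) (ComplexShape.up ℤ) 0).obj U ⟶ E) :
    ((singleObjXSelf (ComplexShape.up ℤ) 0 _).inv ≫ (gχ U E f).f 0).hom (1 : DerComp.GSec O) =
      (singleObjXSelf (ComplexShape.up ℤ) 0 U).inv ≫ f.f 0 := by
  simp only [gχ, comp_f, single_map_f_self, Iso.app_inv, singleMapHomologicalComplex_inv_app_self,
    Category.assoc, Iso.inv_hom_id_assoc]
  change (((1 : DerComp.GSec O) • 𝟙 U) ≫ (singleObjXSelf (ComplexShape.up ℤ) 0 U).inv) ≫ f.f 0 = _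
  rw [one_smul, Category.id_comp]

theorem gχ_zero : gχ U E 0 = 0 := by simp [gχ]

theorem gχ_sub (f f' : (single (ModSite.Mod O) (ComplexShape.up ℤ) 0).obj U ⟶ E) :
    gχ U E (f - f') = gχ U E f - gχ U E f' := by simp [gχ, Functor.map_sub]

theorem gχ_surjective : Function.Surjective (gχ U E) := fun g => by
  let h := (singleObjXSelf (ComplexShape.up ℤ) 0 _).inv ≫ g.f 0
  let z : U ⟶ E.X 0 := h.hom (1 : DerComp.GSec O)
  have hz : z ≫ E.d 0 1 = 0 := by
    have : h ≫ (((gF U).mapHomologicalComplex (ComplexShape.up ℤ)).obj E).d 0 1 = 0 := by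
      rw [Category.assoc, g.comm 0 1, single_obj_d, zero_comp, comp_zero]
    exact congrArg (fun φ => φ.hom (1 : DerComp.GSec O)) this
  refine ⟨mkHomFromSingle z fun k hk => (by obtain rfl : (0 : ℤ) + 1 = k := hk; exact hz), ?_⟩
  refine from_single_hom_ext ((cancel_epi (singleObjXSelf (ComplexShape.up ℤ) 0 _).inv).1
    (ModuleCat.hom_ext (LinearMap.ext_ring ?_)))
  refine (gχ_apply_one U E _).trans ?_
  rw [mkHomFromSingle_f, Iso.inv_hom_id_assoc]

theorem quotient_eq_zero_of_gχ (f : (single (ModSite.Mod O) (ComplexShape.up ℤ) 0).obj U ⟶ E)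
    (h : (HomotopyCategory.quotient _ _).map (gχ U E f) = 0) :
    (HomotopyCategory.quotient _ _).map f = 0 := by
  obtain ⟨ho⟩ := (HomotopyCategory.quotient_map_eq_zero_iff _).1 h
  have hc : (gχ U E f).f 0 = ho.hom 0 (-1) ≫
      (((gF U).mapHomologicalComplex (ComplexShape.up ℤ)).obj E).d (-1) 0 := by
    have := ho.comm 0
    rw [dNext_eq _ (show (ComplexShape.up ℤ).Rel 0 1 from rfl),
      prevD_eq _ (show (ComplexShape.up ℤ).Rel (-1) 0 from rfl)] at this
    simpa using this
  let w : U ⟶ E.X (-1) :=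
    ((singleObjXSelf (ComplexShape.up ℤ) 0 _).inv ≫ ho.hom 0 (-1)).hom (1 : DerComp.GSec O)
  have hw : w ≫ E.d (-1) 0 = (singleObjXSelf (ComplexShape.up ℤ) 0 U).inv ≫ f.f 0 := by
    rw [← gχ_apply_one U E f, hc]
    rfl
  let β : Cochain ((CochainComplex.singleFunctor (ModSite.Mod O) 0).obj U) E (-1) :=
    Cochain.fromSingleMk w (zero_add _)
  have hβ : Cochain.ofHom f = δ (-1) 0 β + Cochain.ofHom 0 := by
    rw [Cochain.ofHom_zero, add_zero, Cochain.δ_fromSingleMk _ _ 0 0 (add_zero 0), hw]
    apply (Cochain.fromSingleEquiv (add_zero (0 : ℤ))).injective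
    rw [Cochain.fromSingleEquiv_fromSingleMk]
    simp [Cochain.fromSingleEquiv]
  have := HomotopyCategory.eq_of_homotopy _ _ ((Cochain.equivHomotopy _ _).symm ⟨β, hβ⟩)
  rwa [Functor.map_zero] at this

end Chain

theorem gθ_Q_map (E : CochainComplex (ModSite.Mod O) ℤ)
    (f : (single (ModSite.Mod O) (ComplexShape.up ℤ) 0).obj U ⟶ E) :
    gθ U (((DerivedCategory.singleFunctorIsoCompQ (ModSite.Mod O) 0).app U).hom ≫ DerivedCategory.Q.map f) =
      ((DerivedCategory.singleFunctorIsoCompQ _ 0).app _).hom ≫ DerivedCategory.Q.map (gχ U E f) ≫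
        gModel U E := by
  simp only [gθ, gCanon, gχ, Functor.map_comp, Category.assoc]
  congr 1
  erw [← (gR U).map_comp_assoc, Iso.inv_hom_id, CategoryTheory.Functor.map_id, Category.id_comp,
    gModel_naturality]

/-- Classes out of `U` are the cohomology of `RHom(U, -)`. -/
theorem bijective_gθ (Y : DerivedCategory (ModSite.Mod O)) : Function.Bijective (gθ U (Y := Y)) := by
  obtain ⟨E, φ, hE, hφ⟩ := enoughKInj_mod (DerivedCategory.Q.objPreimage Y)
  haveI := hE
  let e : DerivedCategory.Q.obj E ≅ Y :=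
    (asIso (DerivedCategory.Q.map φ)).symm ≪≫ DerivedCategory.Q.objObjPreimageIso Y
  suffices h : Function.Bijective (gθ U (Y := DerivedCategory.Q.obj E)) by
    have := (((gR U).mapIso e).homToEquiv.bijective).comp (h.comp e.symm.homToEquiv.bijective)
    convert this using 1
    funext t
    change gθ U t = gθ U (t ≫ e.inv) ≫ (gR U).map e.hom
    rw [← gθ_comp, Category.assoc, Iso.inv_hom_id, Category.comp_id]
  let a := (DerivedCategory.singleFunctorIsoCompQ (ModSite.Mod O) 0).app U
  let a' := (DerivedCategory.singleFunctorIsoCompQ (ModuleCat.{u} (DerComp.GSec O)) 0).app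
    (ModuleCat.of (DerComp.GSec O) (DerComp.GSec O))
  haveI : Projective (ModuleCat.of (DerComp.GSec O) (DerComp.GSec O)) :=
    (IsProjective.iff_projective (R := DerComp.GSec O) (P := DerComp.GSec O)).mp inferInstance
  let S : CochainComplex (ModuleCat.{u} (DerComp.GSec O)) ℤ :=
    (single _ (ComplexShape.up ℤ) 0).obj (ModuleCat.of (DerComp.GSec O) (DerComp.GSec O))
  haveI : S.IsStrictlyLE 0 := (CochainComplex.isStrictlyLE_iff S 0).2
    fun i hi => isZero_single_obj_X _ 0 _ i (by omega)
  haveI : ∀ i, Projective (S.X i) := fun i => by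
    by_cases h : i = 0
    · subst h
      exact Projective.of_iso (singleObjXSelf (ComplexShape.up ℤ) 0 _).symm inferInstance
    · exact (isZero_single_obj_X _ 0 _ i h).projective
  haveI : S.IsKProjective := CochainComplex.isKProjective_of_projective S 0
  constructor
  · intro t₁ t₂ ht
    obtain ⟨f₁, hf₁⟩ := DerLib.KInjUse.Q_map_surjective _ E (a.inv ≫ t₁)
    obtain ⟨f₂, hf₂⟩ := DerLib.KInjUse.Q_map_surjective _ E (a.inv ≫ t₂)
    have e₁ : t₁ = a.hom ≫ DerivedCategory.Q.map f₁ := by rw [hf₁, Iso.hom_inv_id_assoc]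
    have e₂ : t₂ = a.hom ≫ DerivedCategory.Q.map f₂ := by rw [hf₂, Iso.hom_inv_id_assoc]
    rw [e₁, e₂, gθ_Q_map, gθ_Q_map, cancel_epi] at ht
    have h3 := (cancel_mono (gModel U E)).1 ht
    have h4 : (HomotopyCategory.quotient _ _).map (gχ U E (f₁ - f₂)) = 0 := by
      refine (CochainComplex.IsKProjective.Qh_map_bijective S _).1 ?_
      rw [Functor.map_zero, gχ_sub]
      change DerivedCategory.Q.map (gχ U E f₁ - gχ U E f₂) = 0
      rw [Functor.map_sub, h3, sub_self]
    have h5 := DerLib.KInjUse.Q_map_zero_of_quotient (quotient_eq_zero_of_gχ U E _ h4)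
    rw [Functor.map_sub, sub_eq_zero] at h5
    rw [e₁, e₂, h5]
  · intro g
    obtain ⟨g', hg'⟩ := (CochainComplex.IsKProjective.Qh_map_bijective S
      ((HomotopyCategory.quotient _ (ComplexShape.up ℤ)).obj
        (((gF U).mapHomologicalComplex (ComplexShape.up ℤ)).obj E))).2 (a'.inv ≫ g ≫ inv (gModel U E))
    obtain ⟨g'', rfl⟩ := (HomotopyCategory.quotient _ (ComplexShape.up ℤ)).map_surjective g'
    obtain ⟨f, rfl⟩ := gχ_surjective U E g''
    refine ⟨a.hom ≫ DerivedCategory.Q.map f, ?_⟩
    rw [gθ_Q_map]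
    refine Eq.trans (congrArg (fun t => a'.hom ≫ t ≫ gModel U E)
      (show DerivedCategory.Q.map (gχ U E f) = a'.inv ≫ g ≫ inv (gModel U E) from hg')) ?_
    simp

/-- The cohomology of `RHom(U, K)`. -/
def gHEquiv (K : DerivedCategory (ModSite.Mod O)) (n : ℤ) :
    (SiteCmp.inD O U ⟶ K⟦n⟧) ≃ₗ[DerComp.GSec O] Dual.HD (DerComp.GSec O) ((gR U).obj K) n := by
  haveI : Projective (ModuleCat.of (DerComp.GSec O) (DerComp.GSec O)) :=
    (IsProjective.iff_projective (R := DerComp.GSec O) (P := DerComp.GSec O)).mp inferInstance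
  let e := ((DerivedCategory.homologyFunctor (ModuleCat.{u} (DerComp.GSec O)) 0).mapIso
      (((gR U).commShiftIso n).app K) ≪≫
    ((DerivedCategory.homologyFunctor (ModuleCat.{u} (DerComp.GSec O)) 0).shiftIso n 0 n (add_zero n)).app
      ((gR U).obj K)).toLinearEquiv
  refine (LinearEquiv.ofBijective
    ({ toFun := fun t => (DCompLib.evH0 _ _ (gθ U t)).hom (1 : DerComp.GSec O)
       map_add' := fun t t' => by
        simp only [gθ_add, DCompLib.evH0, Functor.map_add, Preadditive.comp_add, ModuleCat.hom_add,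
          LinearMap.add_apply]
       map_smul' := fun s t => by
        simp only [gθ_smul, DCompLib.evH0, Functor.map_smul, Linear.comp_smul, ModuleCat.hom_smul,
          LinearMap.smul_apply, RingHom.id_apply] } :
      (SiteCmp.inD O U ⟶ K⟦n⟧) →ₗ[DerComp.GSec O] Dual.HD (DerComp.GSec O) ((gR U).obj (K⟦n⟧)) 0)
    ?_).trans e
  exact ((LinearMap.ringLmapEquivSelf (DerComp.GSec O) (DerComp.GSec O) _).bijective.comp
    (ModuleCat.homEquiv.bijective.comp ((DCompLib.bijective_evH0 _ _).comp (bijective_gθ U _))))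

theorem gHEquiv_naturality {K K' : DerivedCategory (ModSite.Mod O)} (g : K ⟶ K') (n : ℤ)
    (t : SiteCmp.inD O U ⟶ K⟦n⟧) :
    gHEquiv U K' n (t ≫ g⟦n⟧') =
      ((DerivedCategory.homologyFunctor _ n).map ((gR U).map g)).hom (gHEquiv U K n t) := by
  let H := DerivedCategory.homologyFunctor (ModuleCat.{u} (DerComp.GSec O))
  change ((H 0).map (((gR U).commShiftIso n).hom.app K') ≫ ((H 0).shiftIso n 0 n (add_zero n)).hom.app _).hom
      ((DCompLib.evH0 _ _ (gθ U (t ≫ g⟦n⟧'))).hom (1 : DerComp.GSec O)) =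
    ((H n).map ((gR U).map g)).hom
      (((H 0).map (((gR U).commShiftIso n).hom.app K) ≫ ((H 0).shiftIso n 0 n (add_zero n)).hom.app _).hom
        ((DCompLib.evH0 _ _ (gθ U t)).hom (1 : DerComp.GSec O)))
  rw [gθ_comp, DCompLib.evH0_comp]
  suffices hmain : (H 0).map ((gR U).map (g⟦n⟧')) ≫
      (H 0).map (((gR U).commShiftIso n).hom.app K') ≫ ((H 0).shiftIso n 0 n (add_zero n)).hom.app _ =
      ((H 0).map (((gR U).commShiftIso n).hom.app K) ≫ ((H 0).shiftIso n 0 n (add_zero n)).hom.app _) ≫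
        (H n).map ((gR U).map g) by
    exact congrArg (fun φ => φ.hom ((DCompLib.evH0 _ _ (gθ U t)).hom (1 : DerComp.GSec O))) hmain
  have h1 := congrArg (H 0).map (((gR U).commShiftIso n).hom.naturality g)
  have h2 := ((H 0).shiftIso n 0 n (add_zero n)).hom.naturality ((gR U).map g)
  simp only [Functor.comp_map, Functor.map_comp] at h1 h2
  rw [reassoc_of% h1]
  exact (congrArg (_ ≫ ·) h2).trans (Category.assoc _ _ _).symm

/-- Sequences of maps into a complete object. -/
theorem fComplete_hom {I : DerComp.IdealSh O} {L : DerivedCategory (ModSite.Mod O)}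
    (hL : DerComp.IsDerComp O I L) (s : DerComp.GSec O) (hs : ∀ W, s.1 W ∈ I.ideal W)
    (X : DerivedCategory (ModSite.Mod O)) : DCompLib.FComplete s (X ⟶ L) := by
  haveI := hasProduct_copies L
  haveI := isIso_thetaT s L covering_univ fun W _ => tv_shift hL s hs W
  have hπ : Function.Bijective fun (a : X ⟶ ∏ᶜ fun _ : ℕ => L) (k : ℕ) => a ≫ Pi.π _ k :=
    ⟨fun a b h => Pi.hom_ext _ _ fun k => congrFun h k, fun v => ⟨Pi.lift v, funext fun k => Pi.lift_π v k⟩⟩
  have hθ : Function.Bijective fun a : X ⟶ ∏ᶜ fun _ : ℕ => L => a ≫ thetaT s L :=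
    (asIso (thetaT s L)).homToEquiv.bijective
  unfold DCompLib.FComplete
  refine (Function.Bijective.of_comp_iff _ hπ).1 ?_
  have h := hπ.comp hθ
  convert h using 1
  funext a k
  simp [thetaT, Linear.comp_smul]

theorem isDerivedComplete_gR {I : DerComp.IdealSh O} {L : DerivedCategory (ModSite.Mod O)}
    (hL : DerComp.IsDerComp O I L) (Ig : Ideal (DerComp.GSec O))
    (hI : ∀ s ∈ Ig, ∀ W, s.1 W ∈ I.ideal W) : DRing.IsDerivedComplete Ig ((gR U).obj L) := by
  rw [DCompLib.isDerivedComplete_iff]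
  exact fun s hs n => (fComplete_hom (isDerComp_shift hL n) s (hI s hs) _).of_linearEquiv (gHEquiv U L n)

/-- Vanishing iterated cones give no maps from killed objects. -/
theorem subsingleton_hom_gR : ∀ (l : List (DerComp.GSec O)) (X : DerivedCategory (ModSite.Mod O)),
    KZ l X → ∀ T : Dual.D (DerComp.GSec O), (∀ a ∈ l, DerLib.NilpTest.Nilp a T) →
      Subsingleton (T ⟶ (gR U).obj X)
  | [], X, h, T, _ => ⟨fun a b => ((gR U).map_isZero h).eq_of_tgt a b⟩
  | a :: l, X, h, T, hT => by
    obtain ⟨Z, p, q, hZ⟩ := Pretriangulated.distinguished_cocone_triangle (a • 𝟙 X)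
    have hT' := Pretriangulated.inv_rot_of_distTriang _ ((gR U).map_distinguished _ hZ)
    have hZ0 := subsingleton_hom_gR l Z (h Z p q hZ)
    have hinj : ∀ x : T ⟶ (gR U).obj X, a • x = 0 → x = 0 := fun x hx => by
      obtain ⟨y, hy⟩ := Triangle.coyoneda_exact₂ _ hT' x (by
        change x ≫ (gR U).map (a • 𝟙 X) = 0
        rw [gR_map_smul, Linear.comp_smul, Category.comp_id]
        exact hx)
      have hsub := hZ0 (T⟦(1 : ℤ)⟧) fun b hb =>
        DerLib.NilpTest.nilp_shift (hT b (List.mem_cons_of_mem a hb)) 1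
      have : y = 0 := ((shiftEquiv' (Dual.D (DerComp.GSec O)) (1 : ℤ) (-1) (by omega)).toAdjunction.homEquiv
        T ((gR U).obj Z)).symm.injective (hsub.elim _ _)
      rw [hy, this, zero_comp]
    obtain ⟨k, hk⟩ := hT a List.mem_cons_self
    have hzero : ∀ x : T ⟶ (gR U).obj X, x = 0 := fun x => by
      have hx : a ^ k • x = 0 := by
        rw [← Category.id_comp x, ← Linear.smul_comp, hk, zero_comp]
      clear hk
      induction k with
      | zero => simpa using hx
      | succ k ih => exact ih (hinj _ (by rw [smul_smul, ← pow_succ']; exact hx))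
    exact ⟨fun x y => (hzero x).trans (hzero y).symm⟩

/-- `RHom(U, -)` turns derived completion into derived completion. -/
theorem isRefl_gR [IsNoetherianRing (DerComp.GSec O)] {I : DerComp.IdealSh O} (s : Finset (DerComp.GSec O))
    (hgen : I.IsGenBy (fun a : (s : Set (DerComp.GSec O)) => (a : DerComp.GSec O)))
    (hI : ∀ a ∈ Ideal.span (s : Set (DerComp.GSec O)), ∀ W, a.1 W ∈ I.ideal W)
    [DerComp.HasDerCompletion O I] (K : DerivedCategory (ModSite.Mod O)) :
    DCompLib.IsRefl (Ideal.span (s : Set (DerComp.GSec O))) ((gR U).map (DerComp.toDerCompletion I K)) := by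
  classical
  obtain ⟨N, p, q, hT⟩ := Pretriangulated.distinguished_cocone_triangle (DerComp.toDerCompletion I K)
  have hN : Orth I N := orth_cone hT fun L hL => bijective_toDerCompletion I K L hL
  have hkz : KZ s.toList N := kz_of_orth s.toList [] (fun Z hZ =>
    isDerComp_of_nilp (fun a : (s : Set (DerComp.GSec O)) => (a : DerComp.GSec O)) hgen Z fun a =>
      hZ a.1 (by simpa using a.2)) N hN (fun a ha => absurd ha List.not_mem_nil)
  refine DCompLib.isRefl_of_triangle ((gR U).map_distinguished _ hT)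
    (isDerivedComplete_gR U ((DerComp.derCompletion O I).obj K).property _ hI) ?_
  obtain ⟨B, Z, v, r, t, hS, hB, hZ⟩ := DCompLib.exists_decomp (I := Ideal.span (s : Set (DerComp.GSec O)))
    s.toList (fun f hf => Ideal.subset_span (Finset.mem_toList.1 hf)) ((gR U).obj N)
  refine DerLib.NilpTest.leftOrthogonal_of_test (R := DerComp.GSec O)
    (DRing.IsDerivedComplete _) s.toList ?_ ?_ hS ?_ hZ
    (fun T hT => subsingleton_hom_gR U s.toList N hkz T hT)
  · exact fun K' hK' => DCompLib.isDerivedComplete_of_nilp s fun f hf => hK' f (Finset.mem_toList.2 hf)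
  · intro f hf K' hK' hi
    exact DCompLib.isZero_of_isIso_smul s (Finset.mem_toList.1 hf) hK' hi
  · exact DCompLib.isDerivedComplete_span_iff.2 fun f hf => hB f (Finset.mem_toList.2 hf)

end Groth.Agent.DerCompLib
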