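import Groth.Agent.DerCompLib.LNil
import Groth.Agent.DerCompLib.Local
import Groth.Agent.DerCompLib.RHomComp
import Mathlib.Algebra.Homology.DerivedCategory.ExactFunctor

/-!
# Iterated cones and the left orthogonal of derived complete objects
-/

set_option autoImplicit false
set_option linter.style.haveILetI false
set_option linter.unusedSectionVars false
set_option backward.isDefEq.respectTransparency false

universe u

open CategoryTheory CategoryTheory.Limits Opposite HomologicalComplex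
open CategoryTheory.Pretriangulated (Triangle)
attribute [local instance] HasDerivedCategory.standard

namespace Groth.Agent.DerCompLib

variable {C : Type u} [SmallCategory C] {J : GrothendieckTopology C} {O : Sheaf J CommRingCat.{u}}

/-- A power of `s` is zero on `K`. -/
def Nilp (s : DerComp.GSec O) (K : DerivedCategory (ModSite.Mod O)) : Prop :=
  ∃ k : ℕ, s ^ k • 𝟙 K = 0

/-- All iterated cones of `X` by the sections of the list vanish. -/
def KZ : List (DerComp.GSec O) → DerivedCategory (ModSite.Mod O) → Prop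
  | [], X => IsZero X
  | a :: l, X => ∀ (Z : DerivedCategory (ModSite.Mod O)) (p : X ⟶ Z) (q : Z ⟶ X⟦(1 : ℤ)⟧),
      Triangle.mk (a • 𝟙 X) p q ∈ Pretriangulated.distinguishedTriangles → KZ l Z

/-- Orthogonal on the left to derived complete objects. -/
def Orth (I : DerComp.IdealSh O) (X : DerivedCategory (ModSite.Mod O)) : Prop :=
  ∀ L, DerComp.IsDerComp O I L → Subsingleton (X ⟶ L)

variable {I : DerComp.IdealSh O}

theorem kz_of_iso : ∀ {l : List (DerComp.GSec O)} {X Y : DerivedCategory (ModSite.Mod O)} (_ : X ≅ Y),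
    KZ l X → KZ l Y
  | [], _, _, e, h => IsZero.of_iso h e.symm
  | a :: l, X, Y, e, h => fun Z p q hT => h Z (e.hom ≫ p) (q ≫ e.inv⟦(1 : ℤ)⟧') (by
      refine Pretriangulated.isomorphic_distinguished _ hT _
        (Triangle.isoMk _ _ e e (Iso.refl Z) ?_ ?_ ?_)
      · change (a • 𝟙 X) ≫ e.hom = e.hom ≫ (a • 𝟙 Y)
        rw [Linear.smul_comp, Linear.comp_smul, Category.id_comp, Category.comp_id]
      · exact (Category.comp_id _)
      · change (q ≫ e.inv⟦(1 : ℤ)⟧') ≫ e.hom⟦(1 : ℤ)⟧' = 𝟙 Z ≫ q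
        rw [Category.assoc, ← Functor.map_comp, Iso.inv_hom_id, CategoryTheory.Functor.map_id,
          Category.comp_id, Category.id_comp])

theorem isDerComp_shift {L : DerivedCategory (ModSite.Mod O)} (hL : DerComp.IsDerComp O I L) (n : ℤ) :
    DerComp.IsDerComp O I (L⟦n⟧) := fun U f hf m =>
  (Equiv.subsingleton_congr
    ((Iso.refl _).homCongr ((shiftFunctorAdd (DerivedCategory (ModSite.Mod O)) n m).app L))).1
    (hL U f hf (n + m))

theorem orth_shift {X : DerivedCategory (ModSite.Mod O)} (hX : Orth I X) (n : ℤ) : Orth I (X⟦n⟧) :=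
  fun L hL => (subsingleton_shift_iff X L n).2 (hX _ (isDerComp_shift hL (-n)))

theorem orth_of_iso {X Y : DerivedCategory (ModSite.Mod O)} (e : X ≅ Y) (hX : Orth I X) : Orth I Y :=
  fun L hL => (e.homCongr (Iso.refl L)).subsingleton_congr.1 (hX L hL)

theorem orth_obj₃ {T : Triangle (DerivedCategory (ModSite.Mod O))}
    (hT : T ∈ Pretriangulated.distinguishedTriangles) (h₁ : Orth I T.obj₁) (h₂ : Orth I T.obj₂) :
    Orth I T.obj₃ := fun L hL => ⟨fun a b => sub_eq_zero.1 (by
  obtain ⟨c, hc⟩ := T.yoneda_exact₃ hT (a - b) ((h₂ L hL).elim _ _)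
  haveI := orth_shift h₁ 1 L hL
  rw [hc, Subsingleton.elim c 0, comp_zero])⟩

theorem tv_of_nilp (s : DerComp.GSec O) {K : DerivedCategory (ModSite.Mod O)} (h : Nilp s K) (W : C) :
    TV W (s.1 W) K := by
  obtain ⟨k, hk⟩ := h
  intro n
  refine DCompLib.FComplete.of_pow (n := k) ?_
  have h1 : (s ^ k) • 𝟙 (K⟦n⟧) = 0 := by rw [← smulD_shift, hk, Functor.map_zero]
  have h2 : ∀ x : Sec W (K⟦n⟧), (s.1 W) ^ k • x = 0 := fun x => by
    have := sec_smul (s ^ k) (K⟦n⟧) x
    rw [h1, comp_zero] at this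
    exact this.symm
  have : (fun (x : ℕ → Sec W (K⟦n⟧)) (i : ℕ) => x i - (s.1 W) ^ k • x (i + 1)) = id := by
    funext x i
    rw [h2, sub_zero]; rfl
  unfold DCompLib.FComplete
  rw [this]
  exact Function.bijective_id

/-- Objects killed by powers of generators are derived complete. -/
theorem isDerComp_of_nilp {ι : Type*} (s : ι → DerComp.GSec O) (hI : I.IsGenBy s)
    (K : DerivedCategory (ModSite.Mod O)) (h : ∀ i, Nilp (s i) K) : DerComp.IsDerComp O I K := by
  rw [isDerComp_iff_le]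
  refine hI.2 _ fun i U W g => ?_
  rw [(s i).2 g]
  exact tv_of_nilp (s i) (h i) W

/-- An invertible action on maps into an object with vanishing `T(-, s)` gives zero. -/
theorem subsingleton_of_bijective_smul (s : DerComp.GSec O) (X K : DerivedCategory (ModSite.Mod O))
    (hK : ∀ W, TV W (s.1 W) K) (hb : Function.Surjective fun x : X ⟶ K => s • x) :
    Subsingleton (X ⟶ K) := by
  haveI := hasProduct_copies K
  haveI := isIso_thetaT s K covering_univ fun W _ => hK W
  refine ⟨fun x y => sub_eq_zero.1 ?_⟩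
  generalize x - y = z
  choose d hd using hb
  let b : ℕ → (X ⟶ K) := fun n => d^[n] z
  have hb' : ∀ n, b n = s • b (n + 1) := fun n => by
    simp only [b, Function.iterate_succ_apply']
    exact (hd _).symm
  have h0 : Pi.lift b ≫ thetaT s K = 0 := Limits.Pi.hom_ext _ _ fun n => by
    simp only [thetaT, Category.assoc, Pi.lift_π, Preadditive.comp_sub, zero_comp, Pi.lift_π_assoc,
      Linear.comp_smul, Category.comp_id]
    rw [sub_eq_zero]
    exact hb' n
  have := congrArg (· ≫ Pi.π (fun _ : ℕ => K) 0) ((cancel_mono (thetaT s K)).1 (h0.trans zero_comp.symm))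
  simp only [Pi.lift_π, zero_comp] at this
  exact this

theorem tv_shift {L : DerivedCategory (ModSite.Mod O)} (hL : DerComp.IsDerComp O I L)
    (s : DerComp.GSec O) (hs : ∀ W, s.1 W ∈ I.ideal W) (W : C) : TV W (s.1 W) L :=
  (subsingleton_tests_iff W (s.1 W) L).1 (hL W _ (hs W))

/-- Vanishing iterated cones imply orthogonality. -/
theorem orth_of_kz : ∀ (l : List (DerComp.GSec O)) (_ : ∀ a ∈ l, ∀ W, a.1 W ∈ I.ideal W)
    (X : DerivedCategory (ModSite.Mod O)), KZ l X → Orth I X
  | [], _, X, h => fun L _ => ⟨fun a b => IsZero.eq_of_src h a b⟩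
  | a :: l, hl, X, h => fun L hL => by
    obtain ⟨Z, p, q, hT⟩ := Pretriangulated.distinguished_cocone_triangle (a • 𝟙 X)
    have hZ : Orth I Z := orth_of_kz l (fun b hb => hl b (List.mem_cons_of_mem a hb)) Z (h Z p q hT)
    refine subsingleton_of_bijective_smul a X L (fun W => tv_shift hL a (hl a (List.mem_cons_self)) W) ?_
    intro y
    have hT' := Pretriangulated.inv_rot_of_distTriang _ hT
    obtain ⟨x, hx⟩ := Triangle.yoneda_exact₂ _ hT' y (by
      haveI := orth_shift hZ (-1) L hL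
      exact (this.elim _ _ :))
    exact ⟨x, by
      refine Eq.trans ?_ hx.symm
      change a • x = (a • 𝟙 X) ≫ x
      rw [Linear.smul_comp, Category.id_comp]⟩

theorem nilp_cone {a : DerComp.GSec O} {X Z : DerivedCategory (ModSite.Mod O)} {p : X ⟶ Z}
    {q : Z ⟶ X⟦(1 : ℤ)⟧} (hT : Triangle.mk (a • 𝟙 X) p q ∈ Pretriangulated.distinguishedTriangles) :
    Nilp a Z ∧ ∀ c : DerComp.GSec O, Nilp c X → Nilp c Z := by
  have hsq : ∀ c : DerComp.GSec O, (c • 𝟙 X) ≫ p = 0 → (c • 𝟙 (X⟦(1 : ℤ)⟧)) = 0 ∨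
      q ≫ (c • 𝟙 (X⟦(1 : ℤ)⟧)) = 0 → c ^ 2 • 𝟙 Z = 0 := by
    intro c h1 h2
    have h3 : q ≫ (c • 𝟙 (X⟦(1 : ℤ)⟧)) = 0 := h2.elim (fun h => by rw [h, comp_zero]) id
    have hp : p ≫ (c • 𝟙 Z) = 0 := by
      rw [Linear.comp_smul, Category.comp_id]
      rwa [Linear.smul_comp, Category.id_comp] at h1
    obtain ⟨t, ht⟩ := Triangle.yoneda_exact₃ _ hT (c • 𝟙 Z) hp
    have ht' : c • 𝟙 Z = q ≫ t := ht
    rw [pow_two, mul_smul]
    conv_lhs => arg 2; rw [ht']
    calc c • (q ≫ t) = (q ≫ (c • 𝟙 (X⟦(1 : ℤ)⟧))) ≫ t := by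
          simp only [Linear.comp_smul, Linear.smul_comp, Category.comp_id]
      _ = 0 := by rw [h3, zero_comp]
  refine ⟨⟨2, hsq a ?_ (Or.inr ?_)⟩, fun c ⟨k, hk⟩ => ⟨k * 2, ?_⟩⟩
  · exact Pretriangulated.comp_distTriang_mor_zero₁₂ _ hT
  · rw [← smulD_shift]
    exact Pretriangulated.comp_distTriang_mor_zero₃₁ _ hT
  · rw [pow_mul]
    refine hsq _ (by rw [hk, zero_comp]) (Or.inl ?_)
    rw [← smulD_shift, hk, Functor.map_zero]

/-- Orthogonal objects have vanishing iterated cones. -/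
theorem kz_of_orth : ∀ (l acc : List (DerComp.GSec O))
    (_ : ∀ Z, (∀ a ∈ acc ++ l, Nilp a Z) → DerComp.IsDerComp O I Z)
    (X : DerivedCategory (ModSite.Mod O)), Orth I X → (∀ a ∈ acc, Nilp a X) → KZ l X
  | [], acc, hc, X, hX, hn => by
    refine (IsZero.iff_id_eq_zero X).2 ((hX X (hc X ?_)).elim _ _)
    simpa using hn
  | a :: l, acc, hc, X, hX, hn => fun Z p q hT => by
    refine kz_of_orth l (acc ++ [a]) (fun Z' h => hc Z' (by simpa using h)) Z
      (orth_obj₃ hT hX hX) ?_
    intro b hb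
    rcases List.mem_append.1 hb with hb | hb
    · exact (nilp_cone hT).2 b (hn b hb)
    · obtain rfl : b = a := by simpa using hb
      exact (nilp_cone hT).1

/-- A linear exact functor killing killed objects maps everything to `KZ`. -/
theorem kz_map (G : DerivedCategory (ModSite.Mod O) ⥤ DerivedCategory (ModSite.Mod O))
    [G.CommShift ℤ] [G.IsTriangulated] [G.Linear (DerComp.GSec O)] :
    ∀ (l acc : List (DerComp.GSec O))
    (_ : ∀ Z, (∀ a ∈ acc ++ l, Nilp a Z) → IsZero (G.obj Z))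
    (X : DerivedCategory (ModSite.Mod O)), (∀ a ∈ acc, Nilp a X) → KZ l (G.obj X)
  | [], acc, hc, X, hn => hc X (by simpa using hn)
  | a :: l, acc, hc, X, hn => fun Z p q hT => by
    obtain ⟨Z₀, p₀, q₀, hT₀⟩ := Pretriangulated.distinguished_cocone_triangle (a • 𝟙 X)
    have hT₁ := G.map_distinguished _ hT₀
    obtain ⟨e, -⟩ := Pretriangulated.exists_iso_of_arrow_iso _ _ hT₁ hT
      (Arrow.isoMk (Iso.refl _) (Iso.refl _) (by
        change 𝟙 _ ≫ (a • 𝟙 (G.obj X)) = G.map (a • 𝟙 X) ≫ 𝟙 _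
        rw [Category.id_comp, Category.comp_id, Functor.map_smul, CategoryTheory.Functor.map_id]))
    refine kz_of_iso (Triangle.π₃.mapIso e) (kz_map G l (acc ++ [a])
      (fun Z' h => hc Z' (by simpa using h)) Z₀ ?_)
    intro b hb
    rcases List.mem_append.1 hb with hb | hb
    · exact (nilp_cone hT₀).2 b (hn b hb)
    · obtain rfl : b = a := by simpa using hb
      exact (nilp_cone hT₀).1

end Groth.Agent.DerCompLib
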