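import Groth.Agent.DerCompLib.RHomUnit
import Groth.Agent.DerCompLib.AffineGlobal
import Groth.Agent.KiehlLib.ExtFin
import Groth.Agent.CompleteLib.Basic

/-!
# Completion is fully faithful over a complete base for proper schemes
-/

set_option autoImplicit false
set_option linter.style.haveILetI false
set_option linter.unusedSectionVars false
set_option backward.isDefEq.respectTransparency false
set_option backward.isDefEq.respectTransparency.types false
set_option maxHeartbeats 1000000

universe u

open CategoryTheory CategoryTheory.Limits Opposite HomologicalComplex AlgebraicGeometry TopologicalSpace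
open CategoryTheory.Pretriangulated (Triangle)
attribute [local instance] HasDerivedCategory.standard

noncomputable section

namespace Groth.Agent.DerCompLib

section Site

variable {C : Type u} [SmallCategory C] {J : GrothendieckTopology C} {O : Sheaf J CommRingCat.{u}}

/-- The sections whose restrictions to objects over `V` lie in `I'`. -/
def pushIdeal (V : C) (I' : DerComp.IdealSh (O.over V)) : DerComp.IdealSh O where
  ideal W := ⨅ (Z : Over V) (g : Z.left ⟶ W), Ideal.comap (O.obj.map g.op).hom (I'.ideal Z)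
  map_mem {U W} g f hf := by
    simp only [Submodule.mem_iInf, Ideal.mem_comap] at hf ⊢
    intro Z k
    have := hf Z (k ≫ g)
    rw [op_comp, Functor.map_comp] at this
    exact this
  glue {U f} S hS h := by
    simp only [Submodule.mem_iInf, Ideal.mem_comap] at h ⊢
    intro Z k
    refine I'.glue ((Sieve.overEquiv Z).symm (S.pullback k)) ((GrothendieckTopology.mem_over_iff _ _).2
      (by simpa using J.pullback_stable k hS)) fun W g hg => ?_
    have := h (g.left ≫ k) ((Sieve.overEquiv_symm_iff _ _).1 hg) W (𝟙 _)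
    simp only [op_id, CategoryTheory.Functor.map_id, CommRingCat.id_apply, op_comp, Functor.map_comp,
      CommRingCat.comp_apply] at this ⊢
    exact this

/-- Global generators give local generators. -/
theorem isGenBy_over_of_global {I : DerComp.IdealSh O} {ι : Type u} (s : ι → DerComp.GSec O)
    (h : I.IsGenBy s) (V : C) : (I.over V).IsGenBy fun i => DerComp.GSec.ofSect O V ((s i).1 V) := by
  refine ⟨fun i Z => I.map_mem Z.hom (h.1 i V), fun I' hI' Z f hf => ?_⟩
  have hc : (pushIdeal V I').Contains s := fun i W => by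
    change _ ∈ ⨅ (Z : Over V) (g : Z.left ⟶ W), Ideal.comap (O.obj.map g.op).hom (I'.ideal Z)
    simp only [Submodule.mem_iInf, Ideal.mem_comap]
    intro Z g
    have e : (O.obj.map g.op).hom ((s i).1 W) = (O.obj.map Z.hom.op).hom ((s i).1 V) :=
      (DerComp.GSec.compat (s i) g).trans (DerComp.GSec.compat (s i) Z.hom).symm
    exact e ▸ hI' i Z
  have := h.2 _ hc Z.left hf
  change f ∈ ⨅ (Z' : Over V) (g : Z'.left ⟶ Z.left), Ideal.comap (O.obj.map g.op).hom (I'.ideal Z') at this
  simp only [Submodule.mem_iInf, Ideal.mem_comap] at this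
  have h1 := this Z (𝟙 _)
  rw [op_id, CategoryTheory.Functor.map_id] at h1
  exact h1

theorem isFiniteType_of_isGenBy_finset {I : DerComp.IdealSh O} (T : Finset (DerComp.GSec O))
    (h : I.IsGenBy fun a : (T : Set (DerComp.GSec O)) => (a : DerComp.GSec O)) : I.IsFiniteType := by
  classical
  intro U
  refine ⟨⊤, J.top_mem U, fun V g _ => ⟨T.card, fun i => (T.equivFin.symm i).1.1 V, ?_⟩⟩
  have h1 := isGenBy_over_of_global _ h V
  exact ⟨fun i => h1.1 ⟨_, (T.equivFin.symm i).2⟩, fun I' hI' => h1.2 I' fun a => by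
    simpa using hI' (T.equivFin ⟨a.1, a.2⟩)⟩

/-- `RΓ` of an internal hom into a completion, for complete cohomology. -/
theorem bijective_comp_toDerCompletion {I : DerComp.IdealSh O} [DerComp.HasDerCompletion O I]
    {P : CochainComplex (ModSite.Mod O) ℤ} (hP : ModSite.IsKFlat P) [ModSite.HasLTensorCx P]
    [DerComp.HasRHom P] [IsNoetherianRing (DerComp.GSec O)] (T : Finset (DerComp.GSec O))
    (hgen : I.IsGenBy fun a : (T : Set (DerComp.GSec O)) => (a : DerComp.GSec O))
    (G : DerivedCategory (ModSite.Mod O))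
    (hF : ∀ s ∈ T, ∀ m : ℤ, DCompLib.FComplete s ((DerivedCategory.Q.obj P)⟦m⟧ ⟶ G)) :
    Function.Bijective fun ψ : DerivedCategory.Q.obj P ⟶ G => ψ ≫ DerComp.toDerCompletion I G := by
  classical
  let U := ModSite.unit O
  let K := (DerComp.RHom P).obj G
  let L := (DerComp.RHom P).obj ((DerComp.derCompletion O I).obj G).obj
  let u : K ⟶ L := (DerComp.RHom P).map (DerComp.toDerCompletion I G)
  let Ig := Ideal.span (T : Set (DerComp.GSec O))
  have hIg : ∀ a ∈ Ig, ∀ W, a.1 W ∈ I.ideal W := fun a ha W =>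
    (Ideal.span_le.2 fun b hb => hgen.1 ⟨b, hb⟩ W :
      Ig ≤ Ideal.comap ((Pi.evalRingHom _ W).comp (DerComp.GSec O).subtype) (I.ideal W)) ha
  have hL : DerComp.IsDerComp O I L := fun V g hg n =>
    subsingleton_test_rhom V g I P _ ((DerComp.derCompletion O I).obj G).property hg n
  obtain ⟨N₀, p₀, q₀, hT₀⟩ := Pretriangulated.distinguished_cocone_triangle (DerComp.toDerCompletion I G)
  obtain ⟨N, p, q, hT⟩ := Pretriangulated.distinguished_cocone_triangle u
  have hN : Orth I N := orth_cone_rhom I P (isFiniteType_of_isGenBy_finset T hgen) hT₀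
    (orth_cone hT₀ fun L hL => bijective_toDerCompletion I G L hL) hT
  have hkz : KZ T.toList N := kz_of_orth T.toList [] (fun Z hZ =>
    isDerComp_of_nilp (fun a : (T : Set (DerComp.GSec O)) => (a : DerComp.GSec O)) hgen Z fun a =>
      hZ a.1 (by simpa using a.2)) N hN (fun a ha => absurd ha List.not_mem_nil)
  have hr : DCompLib.IsRefl Ig ((gR U).map u) := by
    refine DCompLib.isRefl_of_triangle ((gR U).map_distinguished _ hT) (isDerivedComplete_gR U hL _ hIg) ?_
    obtain ⟨B, Z, v, r, t, hS, hB, hZ⟩ := DCompLib.exists_decomp (I := Ig)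
      T.toList (fun f hf => Ideal.subset_span (Finset.mem_toList.1 hf)) ((gR U).obj N)
    refine DerLib.NilpTest.leftOrthogonal_of_test (R := DerComp.GSec O)
      (DRing.IsDerivedComplete _) T.toList ?_ ?_ hS ?_ hZ
      (fun Y hY => subsingleton_hom_gR U T.toList N hkz Y hY)
    · exact fun K' hK' => DCompLib.isDerivedComplete_of_nilp T fun f hf => hK' f (Finset.mem_toList.2 hf)
    · intro f hf K' hK' hi
      exact DCompLib.isZero_of_isIso_smul T (Finset.mem_toList.1 hf) hK' hi
    · exact DCompLib.isDerivedComplete_span_iff.2 fun f hf => hB f (Finset.mem_toList.2 hf)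
  have hK : DRing.IsDerivedComplete Ig ((gR U).obj K) :=
    DCompLib.isDerivedComplete_span_iff.2 fun s hs => (DCompLib.comp_iff s).2 fun n =>
      (hF s hs (-n)).of_linearEquiv ((trEquiv hP (-n) n (neg_add_cancel n) G).symm.trans (gHEquiv U K n))
  obtain ⟨v, hv⟩ := (hr.2 _ hK).2 (𝟙 _)
  have hv' : v ≫ (gR U).map u = 𝟙 _ := (hr.2 _ hr.1).1 (by
    dsimp only
    rw [Category.comp_id, ← Category.assoc]
    exact (congrArg (· ≫ (gR U).map u) hv).trans (Category.id_comp _))
  haveI : IsIso ((gR U).map u) := ⟨v, hv, hv'⟩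
  have h0 : Function.Bijective fun x : SiteCmp.inD O U ⟶ K⟦(0 : ℤ)⟧ => x ≫ u⟦(0 : ℤ)⟧' := by
    refine (Function.Bijective.of_comp_iff' (gHEquiv U L 0).bijective _).1 ?_
    have : (⇑(gHEquiv U L 0) ∘ fun x : SiteCmp.inD O U ⟶ K⟦(0 : ℤ)⟧ => x ≫ u⟦(0 : ℤ)⟧') =
        ((DerivedCategory.homologyFunctor _ 0).mapIso (asIso ((gR U).map u))).toLinearEquiv ∘ gHEquiv U K 0 :=
      funext fun x => gHEquiv_naturality U u 0 x
    rw [this]
    exact (LinearEquiv.bijective _).comp (gHEquiv U K 0).bijective
  have h1 : Function.Bijective fun y : (DerivedCategory.Q.obj P)⟦(0 : ℤ)⟧ ⟶ G =>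
      y ≫ DerComp.toDerCompletion I G := by
    refine (Function.Bijective.of_comp_iff _ (trEquiv hP 0 0 (add_zero 0) G).bijective).1 ?_
    have : ((fun y : (DerivedCategory.Q.obj P)⟦(0 : ℤ)⟧ ⟶ G => y ≫ DerComp.toDerCompletion I G) ∘
        trEquiv hP 0 0 (add_zero 0) G) = trEquiv hP 0 0 (add_zero 0) _ ∘
          fun x : SiteCmp.inD O U ⟶ K⟦(0 : ℤ)⟧ => x ≫ u⟦(0 : ℤ)⟧' :=
      funext fun x => (trEquiv_naturality hP 0 0 (add_zero 0) _ x).symm
    rw [this]
    exact (LinearEquiv.bijective _).comp h0
  let z := (shiftFunctorZero (DerivedCategory (ModSite.Mod O)) ℤ).app (DerivedCategory.Q.obj P)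
  have := (z.homCongr (Iso.refl ((DerComp.derCompletion O I).obj G).obj)).bijective.comp
    (h1.comp (z.symm.homCongr (Iso.refl G)).bijective)
  convert this using 1
  funext ψ
  simp

end Site

section Scheme

variable {A : Type u} [CommRing A] {X : Scheme.{u}} [X.Over (Spec (CommRingCat.of A))]

variable (X) in
/-- The structure map to the global sections. -/
def algHom : A →+* DerComp.GSec X.sheaf :=
  (RingEquiv.ofBijective _ (AffineGlobal.bijective_topHom X)).symm.toRingHom.comp
    (Coh.toGlobal (X ↘ Spec (CommRingCat.of A)))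

theorem algHom_apply (a : A) (U : X.Opens) : (algHom X a).1 U =
    X.presheaf.map (homOfLE (le_top : U ≤ ⊤)).op (Coh.toGlobal (X ↘ Spec (CommRingCat.of A)) a) := by
  refine (DerComp.GSec.compat (algHom X a) (homOfLE (le_top : U ≤ ⊤))).symm.trans ?_
  exact congrArg _ ((RingEquiv.ofBijective _ (AffineGlobal.bijective_topHom X)).apply_symm_apply _)

theorem smul_id_eq (a : A) (M : X.Modules) :
    a • 𝟙 M = DerComp.smulEnd (algHom X a) (M : ModSite.Mod X.sheaf) := by
  refine Scheme.Modules.hom_ext _ _ fun U => ?_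
  ext m
  refine (KLin.smul_app_apply a (𝟙 M) U m).trans ?_
  rw [← algHom_apply]
  rfl

/-- A morphism of `D(O_X)` on the site. -/
abbrev siteHom {K L : DCoh.D X} (x : K ⟶ L) : @Quiver.Hom (DerivedCategory (ModSite.Mod X.sheaf)) _ K L := x

theorem smul_id_eq_D (a : A) (K : DCoh.D X) :
    siteHom (a • 𝟙 K) = algHom X a • siteHom (𝟙 K) := by
  let E := DerivedCategory.Q.objPreimage K
  let e : DerivedCategory.Q.obj E ≅ K := DerivedCategory.Q.objObjPreimageIso K
  let E' : CochainComplex (ModSite.Mod X.sheaf) ℤ := E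
  have h : (show E' ⟶ E' from a • 𝟙 E) = algHom X a • 𝟙 E' :=
    HomologicalComplex.hom_ext _ _ fun i => (smul_id_eq a (E.X i)).trans (Category.comp_id _).symm
  have h' : siteHom (a • 𝟙 (DerivedCategory.Q.obj E)) = algHom X a • 𝟙 (DerivedCategory.Q.obj E') := by
    have h0 := congrArg (fun t => DerivedCategory.Q.map t) h
    simp only [Functor.map_smul, CategoryTheory.Functor.map_id] at h0
    refine Eq.trans ?_ h0
    rw [← CategoryTheory.Functor.map_id DerivedCategory.Q E, ← Functor.map_smul]
  have h1 : a • 𝟙 K = e.inv ≫ (a • 𝟙 (DerivedCategory.Q.obj E)) ≫ e.hom := by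
    rw [Linear.smul_comp, Linear.comp_smul, Category.id_comp, Iso.inv_hom_id]
  rw [h1]
  change siteHom e.inv ≫ siteHom (a • 𝟙 (DerivedCategory.Q.obj E)) ≫ siteHom e.hom = _
  rw [h', Linear.smul_comp, Linear.comp_smul]
  refine congrArg (algHom X a • ·) ?_
  rw [Category.id_comp]
  exact e.inv_hom_id

theorem smul_hom_eq (a : A) {K L : DCoh.D X} (x : K ⟶ L) :
    siteHom (a • x) = algHom X a • siteHom x := by
  have h : a • x = (a • 𝟙 K) ≫ x := by rw [Linear.smul_comp, Category.id_comp]
  rw [h]
  change siteHom (a • 𝟙 K) ≫ siteHom x = _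
  rw [smul_id_eq_D, Linear.smul_comp]
  exact congrArg (algHom X a • ·) (Category.id_comp x)

theorem fComplete_algHom [IsNoetherianRing A] (I : Ideal A) [IsAdicComplete I A] (a : A) (ha : a ∈ I)
    (K L : DCoh.D X) (h : Module.Finite A (K ⟶ L)) :
    DCompLib.FComplete (algHom X a) (@Quiver.Hom (DerivedCategory (ModSite.Mod X.sheaf)) _ K L) := by
  haveI := h
  haveI : IsAdicComplete I (K ⟶ L) := CompleteLib.isAdicComplete_of_finite
  have h' : DCompLib.FComplete a (K ⟶ L) := DCompLib.fComplete_of_isAdicComplete ha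
  unfold DCompLib.FComplete at h' ⊢
  convert h' using 1
  funext x n
  exact congrArg (x n - ·) (smul_hom_eq a (x (n + 1))).symm

theorem injective_smul_unit :
    Function.Injective fun s : DerComp.GSec X.sheaf => s • 𝟙 (AffineGlobal.oS X) := by
  intro s t h
  let F := DerivedCategory.singleFunctor (ModSite.Mod X.sheaf) 0
  have h' : F.map (s • 𝟙 (ModSite.unit X.sheaf)) = F.map (t • 𝟙 (ModSite.unit X.sheaf)) := by
    rw [Functor.map_smul, Functor.map_smul, CategoryTheory.Functor.map_id]
    exact h
  have h'' := F.map_injective h'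
  rw [DerComp.smul_def, DerComp.smul_def, Category.comp_id, Category.comp_id] at h''
  refine Subtype.ext (funext fun U => ?_)
  have := congrArg (fun φ : ModSite.unit X.sheaf ⟶ ModSite.unit X.sheaf =>
    (φ.val.app (op U)).hom (1 : X.sheaf.obj.obj (op U))) h''
  change s.1 U * 1 = t.1 U * 1 at this
  simpa using this

theorem isCohD_oD (X : Scheme.{u}) [IsLocallyNoetherian X] : DCoh.IsCohD (X := X) (AffineGlobal.oD X) := by
  intro i
  by_cases hi : i = 0
  · subst hi
    exact QCohLib.isCoh_of_iso ((DerivedCategory.singleFunctorCompHomologyFunctorIso X.Modules 0).app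
      (Coh.structureModule X)).symm (DevissLib.isCoh_structureModule X)
  · rcases lt_or_gt_of_ne hi with h | h
    · exact DevissLib.isCoh_of_isZero (DerivedCategory.isZero_of_isGE (AffineGlobal.oD X) 0 i h)
    · exact DevissLib.isCoh_of_isZero (DerivedCategory.isZero_of_isLE (AffineGlobal.oD X) 0 i h)

theorem isNoetherianRing_gSec_of_proper [IsNoetherianRing A] [IsProper (X ↘ Spec (CommRingCat.of A))] :
    IsNoetherianRing (DerComp.GSec X.sheaf) := by
  haveI : IsLocallyNoetherian X := LocallyOfFiniteType.isLocallyNoetherian (X ↘ Spec (CommRingCat.of A))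
  letI : Algebra A (DerComp.GSec X.sheaf) := (algHom X).toAlgebra
  have hc : DCoh.IsCohD (X := X) (AffineGlobal.oD X) := isCohD_oD X
  haveI : (AffineGlobal.oD X).IsLE 0 := inferInstance
  haveI : (AffineGlobal.oD X).IsGE 0 := inferInstance
  haveI : Module.Finite A (AffineGlobal.oD X ⟶ AffineGlobal.oD X) :=
    KiehlLib.finite_hom_of_proper _ _ hc 0 hc 0
  let ψ : DerComp.GSec X.sheaf →ₗ[A] (AffineGlobal.oD X ⟶ AffineGlobal.oD X) :=
    { toFun := fun s => show AffineGlobal.oD X ⟶ AffineGlobal.oD X from s • 𝟙 (AffineGlobal.oS X)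
      map_add' := fun s t => add_smul s t (𝟙 (AffineGlobal.oS X))
      map_smul' := fun a s => by
        refine Eq.trans ?_ (smul_hom_eq a (show AffineGlobal.oD X ⟶ AffineGlobal.oD X from s • 𝟙 (AffineGlobal.oS X))).symm
        exact mul_smul (algHom X a) s (𝟙 (AffineGlobal.oS X)) }
  haveI : Module.Finite A (DerComp.GSec X.sheaf) := Module.Finite.of_injective ψ injective_smul_unit
  exact IsNoetherianRing.of_finite A _

end Scheme

end Groth.Agent.DerCompLib
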