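import Groth.Agent.KFlatLib.Generic

/-!
# Totalisation against a module in degree zero, second variable
-/

set_option autoImplicit false
set_option linter.unusedSectionVars false
set_option linter.style.haveILetI false

open CategoryTheory CategoryTheory.Limits HomologicalComplex KFlatLib

universe v₁ v₂ v₃ u₁ u₂ u₃

namespace Groth.Agent.DerCompLib.SingleSnd

variable {A₁ : Type u₁} {A₂ : Type u₂} {B : Type u₃} [Category.{v₁} A₁] [Category.{v₂} A₂]
  [Category.{v₃} B] [Abelian A₁] [Abelian A₂] [Abelian B] (F : A₁ ⥤ A₂ ⥤ B) [F.Additive]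
  [∀ X, (F.obj X).Additive]
  [∀ (K₁ : CochainComplex A₁ ℤ) (K₂ : CochainComplex A₂ ℤ),
    HasMapBifunctor K₁ K₂ F (ComplexShape.up ℤ)] (M : A₂)

/-- `M` in degree zero. -/
noncomputable abbrev sM : CochainComplex A₂ ℤ := (single A₂ (ComplexShape.up ℤ) 0).obj M

/-- The inclusion of the only nonzero summand. -/
noncomputable def singleMap (X : CochainComplex A₁ ℤ) (n : ℤ) : (F.obj (X.X n)).obj M ⟶
    (mapBifunctor X (sM M) F (ComplexShape.up ℤ)).X n :=
  (F.obj (X.X n)).map (singleObjXSelf (ComplexShape.up ℤ) 0 M).inv ≫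
    ιMapBifunctor X (sM M) F (ComplexShape.up ℤ) n 0 n (add_zero n)

instance isIso_singleMap (X : CochainComplex A₁ ℤ) (n : ℤ) : IsIso (singleMap F M X n) := by
  have hz : ∀ p q, q ≠ 0 → IsZero ((F.obj (X.X p)).obj ((sM M).X q)) :=
    fun p q hq => (F.obj (X.X p)).map_isZero (isZero_single_obj_X (ComplexShape.up ℤ) 0 M q hq)
  let r : (mapBifunctor X (sM M) F (ComplexShape.up ℤ)).X n ⟶ (F.obj (X.X n)).obj M :=
    mapBifunctorDesc fun p q h => if hq : q = 0 then
      (F.obj (X.X p)).map (((sM M).XIsoOfEq hq).hom ≫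
        (singleObjXSelf (ComplexShape.up ℤ) 0 M).hom) ≫
        (F.map (X.XIsoOfEq (show p = n by have : p + q = n := h; omega)).hom).app M
      else 0
  refine ⟨r, ?_, mapBifunctor.hom_ext fun p q h => ?_⟩
  · rw [singleMap, Category.assoc, ι_mapBifunctorDesc, dif_pos rfl]
    simp only [XIsoOfEq_rfl, Iso.refl_hom, Category.id_comp, CategoryTheory.Functor.map_id,
      NatTrans.id_app, Category.comp_id, ← Functor.map_comp, Iso.inv_hom_id]
  · by_cases hq : q = 0
    · subst hq
      obtain rfl : p = n := by have : p + 0 = n := h; omega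
      rw [Category.comp_id, ← Category.assoc, ι_mapBifunctorDesc, dif_pos rfl, singleMap]
      simp only [XIsoOfEq_rfl, Iso.refl_hom, Category.id_comp, CategoryTheory.Functor.map_id,
        NatTrans.id_app, Category.comp_id, ← Category.assoc, ← Functor.map_comp, Iso.hom_inv_id]
    · exact (hz p q hq).eq_of_src _ _

/-- Totalisation against a module in degree zero is the functor applied degreewise. -/
noncomputable def singleIso :
    (F.flip.obj M).mapHomologicalComplex (ComplexShape.up ℤ) ≅ bimap₁ F (sM M) :=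
  NatIso.ofComponents (fun X => HomologicalComplex.Hom.isoOfComponents
    (fun n => @asIso _ _ _ _ (singleMap F M X n) (isIso_singleMap F M X n)) (fun n n' hn => by
    have hn' : n + 1 = n' := hn
    show singleMap F M X n ≫ (mapBifunctor X (sM M) F (ComplexShape.up ℤ)).d n n' =
      (F.map (X.d n n')).app M ≫ singleMap F M X n'
    rw [singleMap, singleMap, Category.assoc, mapBifunctor.d_eq, Preadditive.comp_add,
      mapBifunctor.ι_D₁, mapBifunctor.ι_D₂,
      mapBifunctor.d₁_eq _ _ _ _ (hn : (ComplexShape.up ℤ).Rel n n') 0 n'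
        (show n' + 0 = n' by omega),
      mapBifunctor.d₂_eq _ _ _ _ n (rfl : (ComplexShape.up ℤ).Rel 0 (0 + 1)) n'
        (show n + (0 + 1) = n' by omega)]
    simp only [single_obj_d, Functor.map_zero, zero_comp, smul_zero, add_zero]
    rw [show (ComplexShape.ε₁ (ComplexShape.up ℤ) (ComplexShape.up ℤ) (ComplexShape.up ℤ) (n, (0 : ℤ)) : ℤˣ) = 1
      from rfl, one_smul, ← Category.assoc, ← Category.assoc]
    congr 1
    exact (F.map (X.d n n')).naturality (singleObjXSelf (ComplexShape.up ℤ) 0 M).inv))
    fun {X Y} g => by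
      ext n
      show (F.map (g.f n)).app M ≫ singleMap F M Y n = singleMap F M X n ≫ _
      rw [singleMap, singleMap, Category.assoc, ← Category.assoc]
      refine Eq.trans ?_ ((congrArg (_ ≫ ·) (ι_bimap₁_map F (sM M) g n 0 n (add_zero n))).trans
        (Category.assoc _ _ _).symm).symm
      congr 1
      exact ((F.map (g.f n)).naturality (singleObjXSelf (ComplexShape.up ℤ) 0 M).inv).symm

end Groth.Agent.DerCompLib.SingleSnd
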