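import Groth.Agent.DerCompLib.TeleCx
import Groth.Agent.DerCompLib.SingleSnd
import Groth.Agent.DerLib.KInjTriangulated
import Mathlib.CategoryTheory.Functor.Derived.PointwiseLeftDerived

/-!
# `RHom(O_s, -)` as the cotelescope
-/

set_option autoImplicit false
set_option linter.style.haveILetI false
set_option linter.unusedSectionVars false
set_option backward.isDefEq.respectTransparency false

universe u

open CategoryTheory CategoryTheory.Limits Opposite HomologicalComplex CochainComplex.HomComplex
attribute [local instance] HasDerivedCategory.standard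

namespace Groth.Agent.DerCompLib

variable {C : Type u} [SmallCategory C] {J : GrothendieckTopology C} {O : Sheaf J CommRingCat.{u}}
  (s : DerComp.GSec O)

section Cx

variable (X I : CochainComplex (ModSite.Mod O) ℤ)

theorem transp_injective : Function.Injective (transp s X I) := fun f g h => by
  have h1 := congrArg (· ≫ CochainComplex.mappingCocone.fst (coteleC s I)) h
  simp only [transp_fst] at h1
  have h2 : (CochainComplex.mappingCone.inl (teleC s X)).comp (Cochain.ofHom f) (add_zero _) =
      (CochainComplex.mappingCone.inl (teleC s X)).comp (Cochain.ofHom g) (add_zero _) := by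
    refine (tr X I (-1)).injective (neg_injective ?_)
    ext p q hpq
    rw [← transp_snd s X I f p q hpq, ← transp_snd s X I g p q hpq, h]
  have h1' := (trHom X I).injective h1
  ext1 n
  rw [CochainComplex.mappingCone.ext_from_iff _ (n + 1) n rfl]
  constructor
  · simpa using Cochain.congr_v h2 (n + 1) n (by omega)
  · exact congrArg (fun t => HomologicalComplex.Hom.f t n) h1'

theorem isKInjective_prodC [I.IsKInjective] : (prodC I).IsKInjective :=
  DerLib.KInjUse.isKInjective_pi _ fun _ => inferInstance

/-- The cocone triangle in the homotopy category. -/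
theorem cocone_distinguished {K L : CochainComplex (ModSite.Mod O) ℤ} (φ : K ⟶ L) :
    (HomotopyCategory.quotient (ModSite.Mod O) (ComplexShape.up ℤ)).mapTriangle.obj
      (CochainComplex.mappingCocone.triangle φ) ∈ Pretriangulated.distinguishedTriangles := by
  rw [Pretriangulated.rotate_distinguished_triangle]
  refine Pretriangulated.isomorphic_distinguished _
    (HomotopyCategory.mappingCone_triangleh_distinguished φ) _ ?_
  exact ((HomotopyCategory.quotient (ModSite.Mod O) (ComplexShape.up ℤ)).mapTriangleRotateIso.app _) ≪≫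
    (HomotopyCategory.quotient (ModSite.Mod O) (ComplexShape.up ℤ)).mapTriangle.mapIso
      (CochainComplex.mappingCocone.rotateTriangleIso φ)

theorem isKInjective_coteleX [I.IsKInjective] : (coteleX s I).IsKInjective := by
  haveI := isKInjective_prodC I
  rw [CochainComplex.isKInjective_iff_rightOrthogonal]
  exact (HomotopyCategory.subcategoryAcyclic (ModSite.Mod O)).rightOrthogonal.ext_of_isTriangulatedClosed₁
    _ (cocone_distinguished (coteleC s I)) (CochainComplex.IsKInjective.rightOrthogonal (prodC I))
    (CochainComplex.IsKInjective.rightOrthogonal (prodC I))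

theorem Q_coteleX_distinguished :
    DerivedCategory.Q.mapTriangle.obj (CochainComplex.mappingCocone.triangle (coteleC s I)) ∈
      Pretriangulated.distinguishedTriangles :=
  Pretriangulated.isomorphic_distinguished _
    (DerivedCategory.Qh.map_distinguished _ (cocone_distinguished (coteleC s I))) _
    ((Functor.mapTriangleIso (DerivedCategory.quotientCompQhIso (ModSite.Mod O))).symm.app _ ≪≫
      (Functor.mapTriangleCompIso _ _).app _)

theorem isZero_Q_coteleX {P : CochainComplex (ModSite.Mod O) ℤ}
    (hP : (HomotopyCategory.quotient (ModSite.Mod O) (ComplexShape.up ℤ)).map (𝟙 P) = 0) :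
    IsZero (DerivedCategory.Q.obj (coteleX s P)) := by
  have hp : IsZero (DerivedCategory.Q.obj (prodC P)) := by
    rw [IsZero.iff_id_eq_zero, ← CategoryTheory.Functor.map_id]
    refine DerLib.KInjUse.Q_map_zero_of_quotient (DerLib.KInjUse.quotient_eq_zero_of_pi _ fun n => ?_)
    rw [Category.id_comp, ← Category.comp_id (Pi.π (fun _ : ℕ => P) n), Functor.map_comp, hP, comp_zero]
  exact Pretriangulated.Triangle.isZero₁_of_isZero₂₃ _ (Q_coteleX_distinguished s P) hp hp

theorem Q_transp_eq_zero [I.IsKInjective] (f : teleX s X ⟶ I) (h : DerivedCategory.Q.map f = 0) :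
    DerivedCategory.Q.map (transp s X I f) = 0 := by
  let P := CochainComplex.mappingCocone (𝟙 I)
  have h0 := DerLib.KInjUse.quotient_eq_zero_of_Q h
  have H : Homotopy f 0 :=
    HomotopyCategory.homotopyOfEq _ _ (h0.trans (Functor.map_zero _ _ _).symm)
  let ψ : teleX s X ⟶ P := CochainComplex.mappingCocone.lift (𝟙 I) f (-Cochain.ofHomotopy H)
    (by simp [CochainComplex.HomComplex.δ_ofHomotopy])
  have hψ : ψ ≫ CochainComplex.mappingCocone.fst (𝟙 I) = f :=
    CochainComplex.mappingCocone.lift_fst _ _ _ _
  have hP : (HomotopyCategory.quotient (ModSite.Mod O) (ComplexShape.up ℤ)).map (𝟙 P) = 0 := by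
    rw [CategoryTheory.Functor.map_id, ← IsZero.iff_id_eq_zero]
    refine (Pretriangulated.Triangle.isZero₁_iff_isIso₂ _ (cocone_distinguished (𝟙 I))).2 ?_
    change IsIso ((HomotopyCategory.quotient (ModSite.Mod O) (ComplexShape.up ℤ)).map (𝟙 I))
    infer_instance
  rw [← hψ, transp_comp_right, Functor.map_comp,
    (isZero_Q_coteleX s hP).eq_of_tgt (DerivedCategory.Q.map (transp s X P ψ)) 0, zero_comp]

end Cx

/-- `O_s` in degree zero. -/
noncomputable abbrev pzC : CochainComplex (ModSite.Mod O) ℤ :=
  (CochainComplex.singleFunctor (ModSite.Mod O) 0).obj (Pz s)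

/-- The tensor product of complexes with `O_s` is the degreewise one. -/
noncomputable def tensorCxQIso : tFun s ⋙ DerivedCategory.Q ≅ ModSite.tensorCxQ (pzC s) :=
  Functor.isoWhiskerRight (SingleSnd.singleIso (ModSite.tensorBi O) (Pz s)) _

variable [ModSite.HasLTensorCx (pzC s)]

/-- The derived tensor product with `O_s`. -/
noncomputable def lTensorIso :
    DerivedCategory.Q ⋙ ModSite.LTensorCx (pzC s) ≅ tFun s ⋙ DerivedCategory.Q :=
  haveI : IsIso (Functor.totalLeftDerivedCounit (ModSite.tensorCxQ (pzC s)) DerivedCategory.Q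
      (HomologicalComplex.quasiIso (ModSite.Mod O) (ComplexShape.up ℤ))) :=
    Functor.isIso_of_isLeftDerivedFunctor_of_inverts (ModSite.LTensorCx (pzC s)) _
      ((MorphismProperty.IsInvertedBy.iff_of_iso _ (tensorCxQIso s)).1 (tFun_inverts s))
  asIso (Functor.totalLeftDerivedCounit (ModSite.tensorCxQ (pzC s)) DerivedCategory.Q
      (HomologicalComplex.quasiIso (ModSite.Mod O) (ComplexShape.up ℤ))) ≪≫ (tensorCxQIso s).symm

variable [DerComp.HasRHom (pzC s)]

theorem exists_rhom_iso (I : CochainComplex (ModSite.Mod O) ℤ) [I.IsKInjective] :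
    Nonempty (DerivedCategory.Q.obj (coteleX s I) ≅
      (DerComp.RHom (pzC s)).obj (DerivedCategory.Q.obj I)) := by
  haveI := isKInjective_coteleX s I
  obtain ⟨f₀, hf₀⟩ := exists_transp s (coteleX s I) I (𝟙 _)
  let e := lTensorIso s
  let adj := DerComp.RHomAdj (pzC s)
  let h : DerivedCategory.Q.obj (coteleX s I) ⟶
      (DerComp.RHom (pzC s)).obj (DerivedCategory.Q.obj I) :=
    adj.homEquiv _ _ (e.hom.app _ ≫ (teleIso s _).inv ≫ DerivedCategory.Q.map f₀)
  suffices hbij : ∀ Y, Function.Bijective (fun a : Y ⟶ _ => a ≫ h) by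
    haveI := isIso_of_yoneda_map_bijective h hbij
    exact ⟨asIso h⟩
  have key : ∀ (X : CochainComplex (ModSite.Mod O) ℤ) (a : X ⟶ coteleX s I),
      (adj.homEquiv _ _).symm (DerivedCategory.Q.map a ≫ h) =
        e.hom.app X ≫ (teleIso s X).inv ≫ DerivedCategory.Q.map (teleMapX s a ≫ f₀) := by
    intro X a
    rw [Adjunction.homEquiv_naturality_left_symm, Equiv.symm_apply_apply]
    refine (Category.assoc _ _ _).symm.trans
      ((congrArg (· ≫ _) (e.hom.naturality a)).trans ((Category.assoc _ _ _).trans ?_))
    congr 1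
    rw [Functor.map_comp, ← Category.assoc, ← Category.assoc]
    congr 1
    rw [Iso.comp_inv_eq, Category.assoc, teleIso_naturality, Iso.inv_hom_id_assoc]
    rfl
  have htr : ∀ (X : CochainComplex (ModSite.Mod O) ℤ) (f : teleX s X ⟶ I),
      teleMapX s (transp s X I f) ≫ f₀ = f := fun X f =>
    transp_injective s X I (by rw [transp_comp_left, hf₀, Category.comp_id])
  intro Y
  let X := DerivedCategory.Q.objPreimage Y
  let eY : DerivedCategory.Q.obj X ≅ Y := DerivedCategory.Q.objObjPreimageIso Y
  have hX : Function.Bijective (fun a : DerivedCategory.Q.obj X ⟶ _ => a ≫ h) := by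
    constructor
    · intro a b hab
      obtain ⟨d, hd⟩ := DerLib.KInjUse.Q_map_surjective X (coteleX s I) (a - b)
      rw [← sub_eq_zero, ← hd]
      have h0 : DerivedCategory.Q.map d ≫ h = 0 := by
        rw [hd, Preadditive.sub_comp, sub_eq_zero]; exact hab
      have h1 : e.hom.app X ≫ (teleIso s X).inv ≫ DerivedCategory.Q.map (teleMapX s d ≫ f₀) = 0 := by
        rw [← key, h0, Adjunction.homEquiv_counit, Functor.map_zero, zero_comp]
      have h2 : DerivedCategory.Q.map (teleMapX s d ≫ f₀) = 0 := by
        rw [← cancel_epi (teleIso s X).inv, ← cancel_epi (e.hom.app X)]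
        simpa using h1
      have h3 := Q_transp_eq_zero s X I _ h2
      rwa [transp_comp_left, hf₀, Category.comp_id] at h3
    · intro b
      obtain ⟨f, hf⟩ := DerLib.KInjUse.Q_map_surjective (teleX s X) I
        ((teleIso s X).hom ≫ e.inv.app X ≫ (adj.homEquiv _ _).symm b)
      refine ⟨DerivedCategory.Q.map (transp s X I f), (adj.homEquiv _ _).symm.injective ?_⟩
      rw [key, htr, hf, Iso.inv_hom_id_assoc, Iso.hom_inv_id_app_assoc]
  constructor
  · intro a b hab
    rw [← cancel_epi eY.hom]
    exact hX.1 (by simp only [Category.assoc]; exact congrArg (eY.hom ≫ ·) hab)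
  · intro b
    obtain ⟨a, ha⟩ := hX.2 (eY.hom ≫ b)
    exact ⟨eY.inv ≫ a, by simp only [Category.assoc] at ha ⊢; rw [ha, Iso.inv_hom_id_assoc]⟩

end Groth.Agent.DerCompLib
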