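import Groth.Agent.DerCompLib.GlobalRHom
import Groth.Agent.DerCompLib.RHomComp

/-!
# Classes of `RHom(P, G)` out of `O` are maps out of `P`
-/

set_option autoImplicit false
set_option linter.style.haveILetI false
set_option linter.unusedSectionVars false
set_option backward.isDefEq.respectTransparency false

universe u

open CategoryTheory CategoryTheory.Limits Opposite HomologicalComplex
attribute [local instance] HasDerivedCategory.standard

noncomputable section

namespace Groth.Agent.DerCompLib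

variable {C : Type u} [SmallCategory C] {J : GrothendieckTopology C} {O : Sheaf J CommRingCat.{u}}
  {P : CochainComplex (ModSite.Mod O) ℤ}

theorem tensorCxQ_inverts (hP : ModSite.IsKFlat P) :
    (HomologicalComplex.quasiIso (ModSite.Mod O) (ComplexShape.up ℤ)).IsInvertedBy (ModSite.tensorCxQ P) :=
  fun K L g (hg : QuasiIso g) => by
    haveI : QuasiIso (((ModSite.tensorCx O).flip.obj P).map g) :=
      KFlatLib.quasiIso_bimap₁ (ModSite.tensorBi O) P hP g
    exact (DerivedCategory.isIso_Q_map_iff_quasiIso (C := ModSite.Mod O)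
      (((ModSite.tensorCx O).flip.obj P).map g)).2 inferInstance

theorem hasLTensorCx_of_isKFlat (hP : ModSite.IsKFlat P) : ModSite.HasLTensorCx P := by
  haveI := Functor.hasPointwiseLeftDerivedFunctor_of_inverts _ (tensorCxQ_inverts hP)
  infer_instance

/-- `- ⊗^L P` is `- ⊗ P` for a K-flat `P`. -/
def lTensorFac (hP : ModSite.IsKFlat P) [ModSite.HasLTensorCx P] :
    DerivedCategory.Q ⋙ ModSite.LTensorCx P ≅ ModSite.tensorCxQ P :=
  haveI : IsIso (Functor.totalLeftDerivedCounit (ModSite.tensorCxQ P) DerivedCategory.Q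
      (HomologicalComplex.quasiIso (ModSite.Mod O) (ComplexShape.up ℤ))) :=
    Functor.isIso_of_isLeftDerivedFunctor_of_inverts (ModSite.LTensorCx P) _ (tensorCxQ_inverts hP)
  asIso (Functor.totalLeftDerivedCounit (ModSite.tensorCxQ P) DerivedCategory.Q
      (HomologicalComplex.quasiIso (ModSite.Mod O) (ComplexShape.up ℤ)))

theorem lTensor_map_smul (hP : ModSite.IsKFlat P) [ModSite.HasLTensorCx P] (s : DerComp.GSec O)
    (Z : DerivedCategory (ModSite.Mod O)) :
    (ModSite.LTensorCx P).map (s • 𝟙 Z) = s • 𝟙 ((ModSite.LTensorCx P).obj Z) := by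
  let E := DerivedCategory.Q.objPreimage Z
  let eZ : DerivedCategory.Q.obj E ≅ Z := DerivedCategory.Q.objObjPreimageIso Z
  have hE : (ModSite.LTensorCx P).map (s • 𝟙 (DerivedCategory.Q.obj E)) = s • 𝟙 _ := by
    have h := (lTensorFac hP).hom.naturality (s • 𝟙 E)
    simp only [Functor.comp_map, tensor_map_smul, Functor.map_smul, CategoryTheory.Functor.map_id] at h
    rw [← cancel_mono ((lTensorFac hP).hom.app E)]
    refine h.trans ?_
    exact (Linear.comp_smul _ _ _ _ _ _).trans ((congrArg (s • ·) ((Category.comp_id _).trans (Category.id_comp _).symm)).trans (Linear.smul_comp _ _ _ _ _ _).symm)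
  have h : s • 𝟙 Z = eZ.inv ≫ (s • 𝟙 (DerivedCategory.Q.obj E)) ≫ eZ.hom := by
    rw [Linear.smul_comp, Linear.comp_smul, Category.id_comp, Iso.inv_hom_id]
  rw [h, Functor.map_comp, Functor.map_comp, hE, Linear.smul_comp, Linear.comp_smul, Category.id_comp,
    ← Functor.map_comp, Iso.inv_hom_id, CategoryTheory.Functor.map_id]

theorem lTensor_map_smul' (hP : ModSite.IsKFlat P) [ModSite.HasLTensorCx P] (s : DerComp.GSec O)
    {Z Z' : DerivedCategory (ModSite.Mod O)} (x : Z ⟶ Z') :
    (ModSite.LTensorCx P).map (s • x) = s • (ModSite.LTensorCx P).map x := by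
  rw [show s • x = (s • 𝟙 Z) ≫ x by rw [Linear.smul_comp, Category.id_comp], Functor.map_comp,
    lTensor_map_smul hP, Linear.smul_comp, Category.id_comp]

theorem additive_lTensor [ModSite.HasLTensorCx P] [DerComp.HasRHom P] : (ModSite.LTensorCx P).Additive := by
  haveI : PreservesBinaryBiproducts (ModSite.LTensorCx P) := preservesBinaryBiproducts_of_preservesBinaryCoproducts _
  exact Functor.additive_of_preservesBinaryBiproducts _

/-- `O` is a left unit, naturally. -/
def unitTensorNatIso : (ModSite.tensorBi O).obj (ModSite.unit O) ≅ 𝟭 (ModSite.Mod O) :=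
  NatIso.ofComponents (fun M => _root_.ModSiteLib.unitTensorIso M) fun {M N} f => by
    simp only [_root_.ModSiteLib.unitTensorIso, Iso.trans_hom, Functor.mapIso_hom]
    have h1 := congrArg (_root_.ModSiteLib.aP O).map
      (MonoidalCategory.leftUnitor_naturality ((_root_.ModSiteLib.jP O).map f))
    have h2 : (_root_.ModSiteLib.aP O).map ((_root_.ModSiteLib.jP O).map f) ≫
        ((asIso (_root_.ModSiteLib.adjP O).counit).app N).hom =
          ((asIso (_root_.ModSiteLib.adjP O).counit).app M).hom ≫ f :=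
      (_root_.ModSiteLib.adjP O).counit.naturality f
    rw [Functor.map_comp, Functor.map_comp] at h1
    exact (Category.assoc _ _ _).symm.trans ((congrArg (· ≫ _) h1).trans ((Category.assoc _ _ _).trans
      ((congrArg (_ ≫ ·) h2).trans (Category.assoc _ _ _).symm)))

/-- `O ⊗ P ≅ P`. -/
def unitTensorCx (P : CochainComplex (ModSite.Mod O) ℤ) :
    ((ModSite.tensorCx O).flip.obj P).obj
      ((single (ModSite.Mod O) (ComplexShape.up ℤ) 0).obj (ModSite.unit O)) ≅ P :=
  (_root_.Groth.Agent.ModSiteLib.BimapExact.singleIso (ModSite.tensorBi O) P (ModSite.unit O)).symm ≪≫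
    (NatIso.mapHomologicalComplex unitTensorNatIso (ComplexShape.up ℤ)).app P ≪≫ Iso.refl _

/-- `O[m] ⊗^L P ≅ P[m]`. -/
def lTensorUnit (hP : ModSite.IsKFlat P) [ModSite.HasLTensorCx P] (m : ℤ) :
    (ModSite.LTensorCx P).obj ((SiteCmp.inD O (ModSite.unit O))⟦m⟧) ≅ (DerivedCategory.Q.obj P)⟦m⟧ :=
  (ModSite.LTensorCx P).mapIso ((shiftFunctor _ m).mapIso ((DerivedCategory.singleFunctorIsoCompQ _ 0).app _) ≪≫
      ((DerivedCategory.Q.commShiftIso m).app _).symm) ≪≫
    (lTensorFac hP).app _ ≪≫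
    DerivedCategory.Q.mapIso (CochainComplex.mapBifunctorShift₁Iso
      ((single (ModSite.Mod O) (ComplexShape.up ℤ) 0).obj (ModSite.unit O)) P (ModSite.tensorBi O) m) ≪≫
    (DerivedCategory.Q.commShiftIso m).app _ ≪≫
    (shiftFunctor _ m).mapIso (DerivedCategory.Q.mapIso (unitTensorCx P))

/-- Transposition along the shift, linearly. -/
def shiftLin (m n : ℤ) (hm : m + n = 0) (Z Y : DerivedCategory (ModSite.Mod O)) :
    (Z ⟶ Y⟦n⟧) ≃ₗ[DerComp.GSec O] (Z⟦m⟧ ⟶ Y) :=
  let a := (shiftEquiv' (DerivedCategory (ModSite.Mod O)) m n hm).toAdjunction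
  LinearEquiv.ofBijective
    ({ toFun := fun x => (shiftFunctor _ m).map x ≫ a.counit.app Y
       map_add' := fun x y => by rw [Functor.map_add]; exact Preadditive.add_comp _ _ _ _ _ _
       map_smul' := fun s x => by rw [Functor.map_smul]; exact Linear.smul_comp _ _ _ _ _ _ } :
      (Z ⟶ Y⟦n⟧) →ₗ[DerComp.GSec O] (Z⟦m⟧ ⟶ Y))
    (by
      convert (a.homEquiv Z Y).symm.bijective using 1
      funext x
      exact Eq.symm (Adjunction.homEquiv_counit a Z Y x))

theorem shiftLin_naturality (m n : ℤ) (hm : m + n = 0) {Z Y Y' : DerivedCategory (ModSite.Mod O)}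
    (g : Y ⟶ Y') (x : Z ⟶ Y⟦n⟧) : shiftLin m n hm Z Y' (x ≫ g⟦n⟧') = shiftLin m n hm Z Y x ≫ g := by
  let a := (shiftEquiv' (DerivedCategory (ModSite.Mod O)) m n hm).toAdjunction
  change (shiftFunctor _ m).map (x ≫ g⟦n⟧') ≫ a.counit.app Y' = ((shiftFunctor _ m).map x ≫ a.counit.app Y) ≫ g
  rw [Functor.map_comp, Category.assoc, Category.assoc]
  exact congrArg ((shiftFunctor _ m).map x ≫ ·) (a.counit.naturality g)

/-- Transposition along `- ⊗^L P ⊣ RHom(P, -)`, linearly. -/
def adjLin (hP : ModSite.IsKFlat P) [ModSite.HasLTensorCx P] [DerComp.HasRHom P]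
    (Z G : DerivedCategory (ModSite.Mod O)) :
    (Z ⟶ (DerComp.RHom P).obj G) ≃ₗ[DerComp.GSec O] ((ModSite.LTensorCx P).obj Z ⟶ G) :=
  LinearEquiv.ofBijective
    ({ toFun := fun x => (ModSite.LTensorCx P).map x ≫ (DerComp.RHomAdj P).counit.app G
       map_add' := fun x y => by
        haveI := additive_lTensor (P := P)
        rw [Functor.map_add]; exact Preadditive.add_comp _ _ _ _ _ _
       map_smul' := fun s x => by rw [lTensor_map_smul' hP]; exact Linear.smul_comp _ _ _ _ _ _ } :
      (Z ⟶ (DerComp.RHom P).obj G) →ₗ[DerComp.GSec O] ((ModSite.LTensorCx P).obj Z ⟶ G))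
    (by
      convert ((DerComp.RHomAdj P).homEquiv Z G).symm.bijective using 1
      funext x
      exact Eq.symm (Adjunction.homEquiv_counit (DerComp.RHomAdj P) Z G x))

theorem adjLin_naturality (hP : ModSite.IsKFlat P) [ModSite.HasLTensorCx P] [DerComp.HasRHom P]
    {Z G G' : DerivedCategory (ModSite.Mod O)} (g : G ⟶ G') (x : Z ⟶ (DerComp.RHom P).obj G) :
    adjLin hP Z G' (x ≫ (DerComp.RHom P).map g) = adjLin hP Z G x ≫ g := by
  change (ModSite.LTensorCx P).map (x ≫ (DerComp.RHom P).map g) ≫ (DerComp.RHomAdj P).counit.app G' =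
    ((ModSite.LTensorCx P).map x ≫ (DerComp.RHomAdj P).counit.app G) ≫ g
  rw [Functor.map_comp, Category.assoc, Category.assoc]
  exact congrArg ((ModSite.LTensorCx P).map x ≫ ·) ((DerComp.RHomAdj P).counit.naturality g)

/-- Transposition. -/
def trEquiv (hP : ModSite.IsKFlat P) [ModSite.HasLTensorCx P] [DerComp.HasRHom P] (m n : ℤ) (hm : m + n = 0)
    (G : DerivedCategory (ModSite.Mod O)) :
    (SiteCmp.inD O (ModSite.unit O) ⟶ ((DerComp.RHom P).obj G)⟦n⟧) ≃ₗ[DerComp.GSec O]
      ((DerivedCategory.Q.obj P)⟦m⟧ ⟶ G) :=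
  ((shiftLin m n hm _ _).trans (adjLin hP _ G)).trans
    (Linear.homCongr (DerComp.GSec O) (lTensorUnit hP m) (Iso.refl G))

theorem trEquiv_naturality (hP : ModSite.IsKFlat P) [ModSite.HasLTensorCx P] [DerComp.HasRHom P] (m n : ℤ)
    (hm : m + n = 0) {G G' : DerivedCategory (ModSite.Mod O)} (g : G ⟶ G')
    (x : SiteCmp.inD O (ModSite.unit O) ⟶ ((DerComp.RHom P).obj G)⟦n⟧) :
    trEquiv hP m n hm G' (x ≫ ((DerComp.RHom P).map g)⟦n⟧') = trEquiv hP m n hm G x ≫ g := by
  simp only [trEquiv, LinearEquiv.trans_apply, shiftLin_naturality, adjLin_naturality, Linear.homCongr_apply,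
    Iso.refl_hom, Category.comp_id, Category.assoc]

end Groth.Agent.DerCompLib
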