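import Groth.Agent.DerCompLib.AwayMod
import Groth.Agent.DerCompLib.TeleMono
import Groth.Agent.DerCompLib.Exists
import Groth.Agent.DCompLib.Module
import Groth.Agent.KFlatLib.DerivedCoprod
import Mathlib.Algebra.Homology.DerivedCategory.SingleTriangle

/-!
# Derived completeness through the cohomology groups over objects of the site
-/

set_option autoImplicit false
set_option linter.style.haveILetI false
set_option linter.unusedSectionVars false

universe u

open CategoryTheory CategoryTheory.Limits Opposite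
open CategoryTheory.Pretriangulated (Triangle)

attribute [local instance] HasDerivedCategory.standard

namespace Groth.Agent.DerCompLib

variable {C : Type u} [SmallCategory C] {J : GrothendieckTopology C} {O : Sheaf J CommRingCat.{u}}
  (V : C)

theorem freeOnEquiv_eq {M : ModSite.Mod O} (a : ModSite.freeOn O V ⟶ M) :
    ModSiteLib.freeOnEquiv M V a =
      (a.val.app (op V)).hom (ModSiteLib.freeOnEquiv (ModSite.freeOn O V) V (𝟙 _)) := by
  conv_lhs => rw [← Category.id_comp a, ModSiteLib.freeOnEquiv_comp]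

theorem mulFree_add (r s : O.obj.obj (op V)) : mulFree V (r + s) = mulFree V r + mulFree V s := by
  let g := ModSiteLib.freeOnEquiv (ModSite.freeOn O V) V (𝟙 _)
  apply (ModSiteLib.freeOnEquiv _ V).injective
  rw [freeOnEquiv_eq V (mulFree V r + mulFree V s)]
  change _ = ((mulFree V r).val.app (op V)).hom g + ((mulFree V s).val.app (op V)).hom g
  rw [← freeOnEquiv_eq V, ← freeOnEquiv_eq V]
  simp only [mulFree, Equiv.apply_symm_apply]
  exact add_smul (scal V r) (scal V s) g

theorem mulFree_mul (r s : O.obj.obj (op V)) : mulFree V (r * s) = mulFree V s ≫ mulFree V r := by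
  apply (ModSiteLib.freeOnEquiv _ V).injective
  rw [freeOnEquiv_mulFree]
  simp only [mulFree, Equiv.apply_symm_apply]
  rw [smul_smul]
  congr 1
  exact mul_comm r s

theorem mulFree_one : mulFree V (1 : O.obj.obj (op V)) = 𝟙 _ := by
  apply (ModSiteLib.freeOnEquiv _ V).injective
  simp only [mulFree, Equiv.apply_symm_apply]
  rw [show scal (O := O) V 1 = 1 from rfl, one_smul]

theorem mulFree_zero : mulFree V (0 : O.obj.obj (op V)) = 0 := by
  have := mulFree_add V (0 : O.obj.obj (op V)) 0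
  rwa [add_zero, left_eq_add] at this

/-- The group of classes over `V`. -/
def Sec (V : C) (K : DerivedCategory (ModSite.Mod O)) : Type (u + 1) :=
  SiteCmp.inD O (ModSite.freeOn O V) ⟶ K

noncomputable instance (K : DerivedCategory (ModSite.Mod O)) : AddCommGroup (Sec V K) :=
  inferInstanceAs (AddCommGroup (SiteCmp.inD O (ModSite.freeOn O V) ⟶ K))

/-- The map of `inD` attached to a section. -/
noncomputable abbrev mulD (r : O.obj.obj (op V)) :
    SiteCmp.inD O (ModSite.freeOn O V) ⟶ SiteCmp.inD O (ModSite.freeOn O V) :=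
  (DerivedCategory.singleFunctor (ModSite.Mod O) 0).map (mulFree V r)

noncomputable instance (K : DerivedCategory (ModSite.Mod O)) : Module (O.obj.obj (op V)) (Sec V K) where
  smul r φ := mulD V r ≫ φ
  one_smul φ := show mulD V 1 ≫ φ = φ by
    rw [mulD, mulFree_one, CategoryTheory.Functor.map_id, Category.id_comp]
  mul_smul r s φ := show mulD V (r * s) ≫ φ = mulD V r ≫ mulD V s ≫ φ by
    rw [mul_comm, mulD, mulFree_mul, Functor.map_comp, Category.assoc]
  smul_zero r := show mulD V r ≫ (0 : SiteCmp.inD O (ModSite.freeOn O V) ⟶ K) = 0 from comp_zero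
  smul_add r φ ψ := Preadditive.comp_add _ _ _ _ _ _
  add_smul r s φ := show mulD V (r + s) ≫ φ = mulD V r ≫ φ + mulD V s ≫ φ by
    rw [mulD, mulFree_add, Functor.map_add, Preadditive.add_comp]
  zero_smul φ := show mulD V 0 ≫ φ = (0 : SiteCmp.inD O (ModSite.freeOn O V) ⟶ K) by
    rw [mulD, mulFree_zero, Functor.map_zero, zero_comp]

/-- `T(K|_V, g)` vanishes, in terms of classes over `V`. -/
def TV (V : C) (g : O.obj.obj (op V)) (K : DerivedCategory (ModSite.Mod O)) : Prop :=
  ∀ n : ℤ, DCompLib.FComplete g (Sec V (K⟦n⟧))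

/-- Maps out of a countable coproduct in degree zero. -/
theorem bijective_inD_sigma (X : ℕ → ModSite.Mod O) (Y : DerivedCategory (ModSite.Mod O)) :
    Function.Bijective fun (g : SiteCmp.inD O (∐ X) ⟶ Y) (n : ℕ) =>
      (DerivedCategory.singleFunctor (ModSite.Mod O) 0).map (Sigma.ι X n) ≫ g := by
  let X' : ULift.{u} ℕ → ModSite.Mod O := fun k => X k.down
  let S := CochainComplex.singleFunctor (ModSite.Mod O) 0
  let eX : ∐ X' ≅ ∐ X := Sigma.whiskerEquiv Equiv.ulift (fun _ => Iso.refl _)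
  haveI : PreservesColimitsOfShape (Discrete (ULift.{u} ℕ)) S :=
    inferInstanceAs (PreservesColimitsOfShape _ (HomologicalComplex.single _ _ 0))
  obtain ⟨hQ⟩ := KFlatLib.isColimit_Q_sigma fun k => S.obj (X' k)
  let e : DerivedCategory.Q.obj (∐ fun k => S.obj (X' k)) ≅ SiteCmp.inD O (∐ X) :=
    DerivedCategory.Q.mapIso (asIso (sigmaComparison S X') ≪≫ S.mapIso eX) ≪≫
      ((DerivedCategory.singleFunctorIsoCompQ _ 0).app _).symm
  let w : ∀ n : ℕ, DerivedCategory.Q.obj (S.obj (X n)) ≅ SiteCmp.inD O (X n) := fun n =>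
    ((DerivedCategory.singleFunctorIsoCompQ _ 0).app _).symm
  have he : ∀ k, DerivedCategory.Q.map (Sigma.ι (fun k => S.obj (X' k)) k) ≫ e.hom =
      (w k.down).hom ≫ (DerivedCategory.singleFunctor (ModSite.Mod O) 0).map (Sigma.ι X k.down) := by
    intro k
    have h1 : Sigma.ι X' k ≫ eX.hom = Sigma.ι X k.down :=
      (Sigma.ι_comp_map' _ _ _).trans (Category.id_comp _)
    simp only [e, w, Iso.trans_hom, Functor.mapIso_hom, asIso_hom, Iso.symm_hom, Iso.app_inv,
      Functor.map_comp, Category.assoc]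
    rw [← Functor.map_comp_assoc, ι_comp_sigmaComparison, ← Functor.map_comp_assoc, ← Functor.map_comp,
      h1]
    exact (DerivedCategory.singleFunctorIsoCompQ _ 0).inv.naturality _
  constructor
  · intro g g' h
    refine (cancel_epi e.hom).1 (hQ.hom_ext fun j => ?_)
    change DerivedCategory.Q.map (Sigma.ι _ j.as) ≫ e.hom ≫ g = DerivedCategory.Q.map (Sigma.ι _ j.as) ≫ e.hom ≫ g'
    rw [← Category.assoc, ← Category.assoc, he, Category.assoc, Category.assoc]
    exact congrArg (_ ≫ ·) (congrFun h j.as.down)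
  · intro y
    let l := hQ.desc (Cofan.mk Y fun k : ULift.{u} ℕ => (w k.down).hom ≫ y k.down)
    refine ⟨e.inv ≫ l, funext fun n => ?_⟩
    have h1 : DerivedCategory.Q.map (Sigma.ι (fun k => S.obj (X' k)) ⟨n⟩) ≫ l = (w n).hom ≫ y n :=
      hQ.fac _ ⟨⟨n⟩⟩
    have h2 := he ⟨n⟩
    rw [← cancel_epi (w n).hom]
    dsimp only
    rw [← Category.assoc, ← h2, Category.assoc, Iso.hom_inv_id_assoc, h1]

variable (g : O.obj.obj (op V))

/-- The telescope map on free modules. -/
noncomputable def teleF : (∐ fun _ : ℕ => ModSite.freeOn O V) ⟶ ∐ fun _ : ℕ => ModSite.freeOn O V :=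
  Sigma.desc fun n => Sigma.ι (fun _ : ℕ => ModSite.freeOn O V) n -
    mulFree V g ≫ Sigma.ι (fun _ : ℕ => ModSite.freeOn O V) (n + 1)

theorem mono_teleF : Mono (teleF V g) :=
  mono_telescope (mulFree V g) _ fun n => by simp [teleF]

/-- Maps out of the cokernel of a telescope. -/
noncomputable def cokerEquiv {F : ModSite.Mod O} (m : F ⟶ F) (a : (∐ fun _ : ℕ => F) ⟶ ∐ fun _ : ℕ => F)
    (ha : ∀ n, Sigma.ι (fun _ : ℕ => F) n ≫ a =
      Sigma.ι (fun _ : ℕ => F) n - m ≫ Sigma.ι (fun _ : ℕ => F) (n + 1)) (M : ModSite.Mod O) :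
    (cokernel a ⟶ M) ≃ {φ : ℕ → (F ⟶ M) // ∀ n, φ n = m ≫ φ (n + 1)} where
  toFun b := ⟨fun n => Sigma.ι (fun _ : ℕ => F) n ≫ cokernel.π _ ≫ b, fun n => by
    have h := congrArg (fun t => Sigma.ι (fun _ : ℕ => F) n ≫ t ≫ b) (cokernel.condition a)
    simp only [zero_comp, comp_zero, Category.assoc] at h
    rw [← Category.assoc, ha, Preadditive.sub_comp, sub_eq_zero, Category.assoc] at h
    exact h⟩
  invFun φ := cokernel.desc _ (Sigma.desc φ.1) (Limits.Sigma.hom_ext _ _ fun n => by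
    rw [← Category.assoc, ha, Preadditive.sub_comp, Category.assoc, Sigma.ι_desc, Sigma.ι_desc,
      comp_zero, sub_eq_zero]
    exact φ.2 n)
  left_inv b := by
    apply coequalizer.hom_ext
    exact Limits.Sigma.hom_ext _ _ fun n => by simp
  right_inv φ := Subtype.ext (funext fun n => by simp)

theorem cokerEquiv_comp {F : ModSite.Mod O} (m : F ⟶ F) (a : (∐ fun _ : ℕ => F) ⟶ ∐ fun _ : ℕ => F)
    (ha : ∀ n, Sigma.ι (fun _ : ℕ => F) n ≫ a =
      Sigma.ι (fun _ : ℕ => F) n - m ≫ Sigma.ι (fun _ : ℕ => F) (n + 1)) {M N : ModSite.Mod O}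
    (b : cokernel a ⟶ M) (p : M ⟶ N) (n : ℕ) :
    (cokerEquiv m a ha N (b ≫ p)).1 n = (cokerEquiv m a ha M b).1 n ≫ p := by
  simp [cokerEquiv]

theorem ι_teleF (n : ℕ) : Sigma.ι (fun _ : ℕ => ModSite.freeOn O V) n ≫ teleF V g =
    Sigma.ι (fun _ : ℕ => ModSite.freeOn O V) n -
      mulFree V g ≫ Sigma.ι (fun _ : ℕ => ModSite.freeOn O V) (n + 1) :=
  Sigma.ι_desc _ n

/-- Sequences of maps are sequences of sections. -/
noncomputable def seqHomEquiv (M : ModSite.Mod O) :
    {φ : ℕ → (ModSite.freeOn O V ⟶ M) // ∀ n, φ n = mulFree V g ≫ φ (n + 1)} ≃ AwaySeq V g M :=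
  (Equiv.piCongrRight fun _ : ℕ => ModSiteLib.freeOnEquiv M V).subtypeEquiv fun φ =>
    forall_congr' fun n => by
      change φ n = _ ↔ ModSiteLib.freeOnEquiv M V (φ n) = scal V g • ModSiteLib.freeOnEquiv M V (φ (n + 1))
      rw [← freeOnEquiv_mulFree]
      exact (ModSiteLib.freeOnEquiv M V).injective.eq_iff.symm

theorem seqHomEquiv_comp {M N : ModSite.Mod O} (p : M ⟶ N)
    (φ : {φ : ℕ → (ModSite.freeOn O V ⟶ M) // ∀ n, φ n = mulFree V g ≫ φ (n + 1)})
    (ψ : {φ : ℕ → (ModSite.freeOn O V ⟶ N) // ∀ n, φ n = mulFree V g ≫ φ (n + 1)})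
    (h : ∀ n, ψ.1 n = φ.1 n ≫ p) (n : ℕ) :
    (seqHomEquiv V g N ψ).1 n = (p.val.app (op V)).hom ((seqHomEquiv V g M φ).1 n) := by
  change ModSiteLib.freeOnEquiv N V (ψ.1 n) = _
  rw [h, ModSiteLib.freeOnEquiv_comp]
  rfl

attribute [irreducible] cokerEquiv seqHomEquiv

/-- The telescope resolves `j_! O_{V,g}`. -/
noncomputable def cokerTeleIso : cokernel (teleF V g) ≅ awayMod V g :=
  ModSiteLib.isoOfHomEquiv (fun M => ((cokerEquiv (mulFree V g) (teleF V g) (ι_teleF V g) M).trans
      (seqHomEquiv V g M)).trans (awayEquiv V g M).symm)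
    fun {M N} a p => by
      apply (awayEquiv V g N).injective
      refine ((awayEquiv V g N).apply_symm_apply _).trans ?_
      refine Subtype.ext (funext fun n => ?_)
      rw [awayEquiv_comp]
      simp only [Equiv.trans_apply, Equiv.apply_symm_apply]
      exact seqHomEquiv_comp V g p _ _ (cokerEquiv_comp _ _ _ a p) n

/-- The resolution. -/
noncomputable abbrev teleS : ShortComplex (ModSite.Mod O) :=
  ShortComplex.mk (teleF V g) (cokernel.π (teleF V g)) (cokernel.condition _)

theorem teleS_shortExact : (teleS V g).ShortExact :=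
  haveI := mono_teleF V g
  { exact := ShortComplex.exact_cokernel _ }

/-- Classes of a map out of the countable sum. -/
noncomputable def seqOf (K : DerivedCategory (ModSite.Mod O))
    (a : SiteCmp.inD O (∐ fun _ : ℕ => ModSite.freeOn O V) ⟶ K) (n : ℕ) : Sec V K :=
  (DerivedCategory.singleFunctor (ModSite.Mod O) 0).map
    (Sigma.ι (fun _ : ℕ => ModSite.freeOn O V) n) ≫ a

theorem seqOf_teleF (K : DerivedCategory (ModSite.Mod O))
    (a : SiteCmp.inD O (∐ fun _ : ℕ => ModSite.freeOn O V) ⟶ K) (n : ℕ) :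
    seqOf V K ((DerivedCategory.singleFunctor (ModSite.Mod O) 0).map (teleF V g) ≫ a) n =
      seqOf V K a n - g • seqOf V K a (n + 1) := by
  let F := DerivedCategory.singleFunctor (ModSite.Mod O) 0
  change (F.map (Sigma.ι (fun _ : ℕ => ModSite.freeOn O V) n) ≫ F.map (teleF V g) ≫ a :
      SiteCmp.inD O (ModSite.freeOn O V) ⟶ K) =
    F.map (Sigma.ι (fun _ : ℕ => ModSite.freeOn O V) n) ≫ a -
      mulD V g ≫ F.map (Sigma.ι (fun _ : ℕ => ModSite.freeOn O V) (n + 1)) ≫ a
  rw [← Functor.map_comp_assoc, ι_teleF, Functor.map_sub, Preadditive.sub_comp, mulD,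
    Functor.map_comp, Category.assoc]

theorem fComplete_iff (K : DerivedCategory (ModSite.Mod O)) :
    DCompLib.FComplete g (Sec V K) ↔ Function.Bijective
      fun a : SiteCmp.inD O (∐ fun _ : ℕ => ModSite.freeOn O V) ⟶ K =>
        (DerivedCategory.singleFunctor (ModSite.Mod O) 0).map (teleF V g) ≫ a := by
  have hb : Function.Bijective (seqOf V K) := bijective_inD_sigma (fun _ : ℕ => ModSite.freeOn O V) K
  let E := Equiv.ofBijective _ hb
  rw [← Equiv.comp_bijective _ E, ← Equiv.bijective_comp E.symm]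
  unfold DCompLib.FComplete
  congr! 1
  funext x n
  simp only [Function.comp_apply, E, Equiv.ofBijective_apply]
  rw [seqOf_teleF, Equiv.ofBijective_apply_symm_apply (seqOf V K) hb]

omit V g in
theorem vanishing_iff_bijective {D : Type*} [Category D] [Preadditive D] [HasZeroObject D] [HasShift D ℤ]
    [∀ n : ℤ, (shiftFunctor D n).Additive] [Pretriangulated D] {A B T : D} {u : A ⟶ B} {p : B ⟶ T}
    {δ : T ⟶ A⟦(1 : ℤ)⟧} (hT : Triangle.mk u p δ ∈ Pretriangulated.distinguishedTriangles) (K : D) :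
    (∀ n : ℤ, Subsingleton (T ⟶ K⟦n⟧)) ↔
      ∀ n : ℤ, Function.Bijective fun a : B ⟶ K⟦n⟧ => u ≫ a := by
  constructor
  · intro h n
    constructor
    · intro a b hab
      obtain ⟨t, ht⟩ := Triangle.yoneda_exact₂ _ hT (a - b)
        ((Preadditive.comp_sub _ _ _).trans (sub_eq_zero.2 hab))
      rw [← sub_eq_zero, ht, (h n).elim t 0]
      exact comp_zero
    · intro a
      let i := ((shiftFunctorAdd' D n 1 (n + 1) rfl).app K)
      have h0 : δ ≫ a⟦(1 : ℤ)⟧' = 0 := by
        rw [← cancel_mono i.inv, zero_comp]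
        exact (h (n + 1)).elim _ _
      obtain ⟨b', hb'⟩ := Triangle.yoneda_exact₃ _ (Pretriangulated.rot_of_distTriang _ hT)
        (a⟦(1 : ℤ)⟧') h0
      obtain ⟨b, rfl⟩ := (shiftFunctor D (1 : ℤ)).map_surjective b'
      refine ⟨-b, (shiftFunctor D (1 : ℤ)).map_injective ?_⟩
      refine Eq.trans ?_ hb'.symm
      change (shiftFunctor D (1 : ℤ)).map (u ≫ (-b)) = (-(shiftFunctor D (1 : ℤ)).map u) ≫ (shiftFunctor D (1 : ℤ)).map b
      have key : ∀ c : B ⟶ K⟦n⟧, (shiftFunctor D (1 : ℤ)).map (u ≫ (-c)) =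
          (-(shiftFunctor D (1 : ℤ)).map u) ≫ (shiftFunctor D (1 : ℤ)).map c := fun c => by
        rw [Preadditive.comp_neg, Functor.map_neg, Functor.map_comp, Preadditive.neg_comp]
      exact key b
  · intro h n
    refine ⟨fun a b => sub_eq_zero.1 ?_⟩
    generalize a - b = t
    have h1 : p ≫ t = 0 := (h n).1 (by
      change u ≫ p ≫ t = u ≫ 0
      rw [← Category.assoc, show u ≫ p = 0 from Pretriangulated.comp_distTriang_mor_zero₁₂ _ hT,
        zero_comp, comp_zero])
    obtain ⟨s, hs⟩ := Triangle.yoneda_exact₃ _ hT t h1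
    let i := ((shiftFunctorAdd' D (n - 1) (1 : ℤ) n (by omega)).app K)
    obtain ⟨s', hs'⟩ := (shiftFunctor D (1 : ℤ)).map_surjective ((show (shiftFunctor D (1 : ℤ)).obj A ⟶ _ from s) ≫ i.hom)
    obtain ⟨c, rfl⟩ := (h (n - 1)).2 s'
    rw [hs]
    refine (cancel_mono i.hom).1 ?_
    change (δ ≫ s) ≫ i.hom = 0 ≫ i.hom
    rw [Category.assoc]
    refine (congrArg (δ ≫ ·) hs'.symm).trans ?_
    rw [Functor.map_comp, ← Category.assoc,
      show δ ≫ u⟦(1 : ℤ)⟧' = 0 from Pretriangulated.comp_distTriang_mor_zero₃₁ _ hT, zero_comp, zero_comp]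

theorem subsingleton_tests_iff (K : DerivedCategory (ModSite.Mod O)) :
    (∀ n : ℤ, Subsingleton (SiteCmp.inD O (awayMod V g) ⟶ K⟦n⟧)) ↔ TV V g K := by
  let F := DerivedCategory.singleFunctor (ModSite.Mod O) 0
  have hT := (teleS_shortExact V g).singleTriangle_distinguished
  have e : ∀ n : ℤ, Subsingleton (SiteCmp.inD O (awayMod V g) ⟶ K⟦n⟧) ↔
      Subsingleton (SiteCmp.inD O (cokernel (teleF V g)) ⟶ K⟦n⟧) := fun n =>
    ((F.mapIso (cokerTeleIso V g)).symm.homCongr (Iso.refl _)).subsingleton_congr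
  simp only [e, TV, fComplete_iff]
  exact vanishing_iff_bijective hT K

end Groth.Agent.DerCompLib
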