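import Mathlib.Algebra.Homology.HomotopyCategory.MappingCocone
import Mathlib.Algebra.Homology.HomologicalComplexLimits
import Mathlib.Algebra.Homology.Linear
import Mathlib.Algebra.Category.Ring.Basic

/-!
# The telescope and the cotelescope of complexes
-/

set_option autoImplicit false
set_option linter.style.haveILetI false
set_option linter.unusedSectionVars false

universe w v u

open CategoryTheory CategoryTheory.Limits CochainComplex.HomComplex HomologicalComplex
open CochainComplex (mappingCone mappingCocone)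

namespace Groth.Agent.DerCompLib

variable {A : Type u} [Category.{v} A] [Abelian A] [HasColimitsOfShape (Discrete ℕ) A]
  [HasLimitsOfShape (Discrete ℕ) A] {R : Type w} [CommRing R] [Linear R A] (s : R)

/-- Countable sums of copies. -/
noncomputable abbrev sumC (X : CochainComplex A ℤ) : CochainComplex A ℤ := ∐ fun _ : ℕ => X

/-- Countable products of copies. -/
noncomputable abbrev prodC (I : CochainComplex A ℤ) : CochainComplex A ℤ := ∏ᶜ fun _ : ℕ => I

/-- The telescope map. -/
noncomputable def teleC (X : CochainComplex A ℤ) : sumC X ⟶ sumC X :=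
  Sigma.desc fun n => Sigma.ι (fun _ : ℕ => X) n - (s • 𝟙 X) ≫ Sigma.ι (fun _ : ℕ => X) (n + 1)

/-- The cotelescope map. -/
noncomputable def coteleC (I : CochainComplex A ℤ) : prodC I ⟶ prodC I :=
  Pi.lift fun n => Pi.π (fun _ : ℕ => I) n - Pi.π (fun _ : ℕ => I) (n + 1) ≫ (s • 𝟙 I)

/-- Maps out of a sum and into a product. -/
noncomputable def trHom (X I : CochainComplex A ℤ) : (sumC X ⟶ I) ≃ (X ⟶ prodC I) where
  toFun β := Pi.lift fun n => Sigma.ι (fun _ : ℕ => X) n ≫ β
  invFun γ := Sigma.desc fun n => γ ≫ Pi.π (fun _ : ℕ => I) n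
  left_inv β := Limits.Sigma.hom_ext _ _ fun n => by simp
  right_inv γ := Limits.Pi.hom_ext _ _ fun n => by simp

@[simp] theorem trHom_π (X I : CochainComplex A ℤ) (β : sumC X ⟶ I) (n : ℕ) :
    trHom X I β ≫ Pi.π (fun _ : ℕ => I) n = Sigma.ι (fun _ : ℕ => X) n ≫ β := by
  simp [trHom]

theorem trHom_tele (X I : CochainComplex A ℤ) (β : sumC X ⟶ I) :
    trHom X I (teleC s X ≫ β) = trHom X I β ≫ coteleC s I := by
  refine Limits.Pi.hom_ext _ _ fun n => ?_
  simp only [trHom_π, teleC, coteleC, Category.assoc, Sigma.ι_desc_assoc, Pi.lift_π,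
    Preadditive.sub_comp, Preadditive.comp_sub]
  rw [← Category.assoc (trHom X I β), trHom_π]
  simp only [Linear.smul_comp, Linear.comp_smul, Category.id_comp, Category.comp_id, Category.assoc]

/-- The cofan in degree `p`. -/
noncomputable def isColimitX (X : CochainComplex A ℤ) (p : ℤ) :
    IsColimit (Cofan.mk ((sumC X).X p) fun n => (Sigma.ι (fun _ : ℕ => X) n).f p) :=
  isColimitCofanMkObjOfIsColimit (eval A (ComplexShape.up ℤ) p) _ _
    (coproductIsCoproduct fun _ : ℕ => X)

/-- The fan in degree `q`. -/
noncomputable def isLimitX (I : CochainComplex A ℤ) (q : ℤ) :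
    IsLimit (Fan.mk ((prodC I).X q) fun n => (Pi.π (fun _ : ℕ => I) n).f q) :=
  isLimitFanMkObjOfIsLimit (eval A (ComplexShape.up ℤ) q) _ _ (productIsProduct fun _ : ℕ => I)

/-- Cochains out of a sum and into a product. -/
noncomputable def tr (X I : CochainComplex A ℤ) (d : ℤ) : Cochain (sumC X) I d ≃ Cochain X (prodC I) d where
  toFun z := Cochain.mk fun p q h => (isLimitX I q).lift
    (Fan.mk _ fun n => (Sigma.ι (fun _ : ℕ => X) n).f p ≫ z.v p q h)
  invFun w := Cochain.mk fun p q h => (isColimitX X p).desc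
    (Cofan.mk _ fun n => w.v p q h ≫ (Pi.π (fun _ : ℕ => I) n).f q)
  left_inv z := by
    ext p q h
    refine (isColimitX X p).hom_ext fun n => ?_
    refine ((isColimitX X p).fac _ n).trans ?_
    exact (isLimitX I q).fac _ n
  right_inv w := by
    ext p q h
    refine (isLimitX I q).hom_ext fun n => ?_
    refine ((isLimitX I q).fac _ n).trans ?_
    exact (isColimitX X p).fac _ n

theorem cochain_prod_ext {X I : CochainComplex A ℤ} {d : ℤ} {w w' : Cochain X (prodC I) d}
    (h : ∀ n : ℕ, w.comp (Cochain.ofHom (Pi.π (fun _ : ℕ => I) n)) (add_zero d) =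
      w'.comp (Cochain.ofHom (Pi.π (fun _ : ℕ => I) n)) (add_zero d)) : w = w' := by
  ext p q hpq
  refine (isLimitX I q).hom_ext fun n => ?_
  have := Cochain.congr_v (h n.as) p q hpq
  simpa using this

theorem tr_π (X I : CochainComplex A ℤ) {d : ℤ} (z : Cochain (sumC X) I d) (n : ℕ) :
    (tr X I d z).comp (Cochain.ofHom (Pi.π (fun _ : ℕ => I) n)) (add_zero d) =
      (Cochain.ofHom (Sigma.ι (fun _ : ℕ => X) n)).comp z (zero_add d) := by
  ext p q h
  simp only [Cochain.comp_zero_cochain_v, Cochain.zero_cochain_comp_v, Cochain.ofHom_v]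
  exact (isLimitX I q).fac _ ⟨n⟩

theorem tr_ofHom (X I : CochainComplex A ℤ) (β : sumC X ⟶ I) :
    tr X I 0 (Cochain.ofHom β) = Cochain.ofHom (trHom X I β) :=
  cochain_prod_ext fun n => by rw [tr_π, ← Cochain.ofHom_comp, ← Cochain.ofHom_comp, trHom_π]

theorem δ_tr (X I : CochainComplex A ℤ) {d : ℤ} (z : Cochain (sumC X) I d) (d' : ℤ) :
    δ d d' (tr X I d z) = tr X I d' (δ d d' z) :=
  cochain_prod_ext fun n => by rw [← δ_comp_ofHom, tr_π, δ_ofHom_comp, tr_π]

/-- The telescope of a complex. -/
noncomputable abbrev teleX (X : CochainComplex A ℤ) : CochainComplex A ℤ := mappingCone (teleC s X)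

/-- The cotelescope of a complex. -/
noncomputable abbrev coteleX (I : CochainComplex A ℤ) : CochainComplex A ℤ := mappingCocone (coteleC s I)

variable (X I : CochainComplex A ℤ)

theorem δ_inl_comp (f : teleX s X ⟶ I) :
    δ (-1) 0 ((CochainComplex.mappingCone.inl (teleC s X)).comp (Cochain.ofHom f) (add_zero _)) =
      Cochain.ofHom (teleC s X ≫ CochainComplex.mappingCone.inr (teleC s X) ≫ f) := by
  rw [δ_comp_ofHom, CochainComplex.mappingCone.δ_inl, ← Cochain.ofHom_comp, Category.assoc]

/-- Transposition of maps out of the telescope. -/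
noncomputable def transp (f : teleX s X ⟶ I) : X ⟶ coteleX s I :=
  CochainComplex.mappingCocone.lift (coteleC s I)
    (trHom X I (CochainComplex.mappingCone.inr (teleC s X) ≫ f))
    (-(tr X I (-1) ((CochainComplex.mappingCone.inl (teleC s X)).comp (Cochain.ofHom f) (add_zero _))))
    (by rw [δ_neg, δ_tr, δ_inl_comp, tr_ofHom, trHom_tele, neg_add_cancel])

theorem exists_transp (g : X ⟶ coteleX s I) : ∃ f, transp s X I f = g := by
  let γ := g ≫ CochainComplex.mappingCocone.fst (coteleC s I)
  let η := (Cochain.ofHom g).comp (CochainComplex.mappingCocone.snd (coteleC s I)) (zero_add (-1))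
  have hη : δ (-1) 0 η + Cochain.ofHom (γ ≫ coteleC s I) = 0 := by
    let θ := coteleC s I
    have he : CochainComplex.mappingCocone.liftCochain θ (Cochain.ofHom γ) η (by omega) =
        Cochain.ofHom g := by
      ext p
      rw [Cochain.ofHom_v, ← Category.comp_id
        ((CochainComplex.mappingCocone.liftCochain θ (Cochain.ofHom γ) η (by omega)).v p p (add_zero p)),
        ← Category.comp_id (g.f p), ← CochainComplex.mappingCocone.id_X θ p (p + -1) rfl]
      simp [γ, η, θ]
    have h := congrArg (fun c => (δ 0 1 c).comp (CochainComplex.mappingCocone.snd θ)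
      (show (1 : ℤ) + -1 = 0 by omega)) he
    simp only [δ_ofHom, CochainComplex.mappingCocone.δ_liftCochain _ _ _ _ 1 (zero_add 1),
      Cochain.zero_comp, zero_sub] at h
    ext p
    have h' := Cochain.congr_v h p p (add_zero p)
    have hi : ((CochainComplex.mappingCocone.inr θ).1.comp (CochainComplex.mappingCocone.snd θ)
        (show (1 : ℤ) + -1 = 0 by omega)).v p p (add_zero p) = 𝟙 _ := by
      rw [Cochain.comp_v _ _ _ p (p + 1) p rfl (by omega), CochainComplex.mappingCocone.inr_v_snd_v]
    simp [hi, θ] at h'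
    simp only [Cochain.add_v, Cochain.ofHom_v, Cochain.zero_v, comp_f]
    rw [← neg_eq_zero, neg_add_rev]
    exact h'
  let β := (trHom X I).symm γ
  let α := (tr X I (-1)).symm (-η)
  have hα : δ (-1) 0 α = Cochain.ofHom (teleC s X ≫ β) := by
    apply (tr X I 0).injective
    rw [← δ_tr, Equiv.apply_symm_apply, δ_neg, tr_ofHom, trHom_tele, Equiv.apply_symm_apply]
    exact neg_eq_of_add_eq_zero_right hη
  refine ⟨CochainComplex.mappingCone.desc _ α β hα, ?_⟩
  have h1 : trHom X I (CochainComplex.mappingCone.inr (teleC s X) ≫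
      CochainComplex.mappingCone.desc _ α β hα) = γ := by simp [β]
  have h2 : -(tr X I (-1) ((CochainComplex.mappingCone.inl (teleC s X)).comp
      (Cochain.ofHom (CochainComplex.mappingCone.desc _ α β hα)) (add_zero _))) = η := by
    rw [show (CochainComplex.mappingCone.inl (teleC s X)).comp
      (Cochain.ofHom (CochainComplex.mappingCone.desc _ α β hα)) (add_zero _) = α by
        ext p q h; simp, Equiv.apply_symm_apply, neg_neg]
  ext p
  rw [← Category.comp_id ((transp s X I _).f p), ← Category.comp_id (g.f p),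
    ← CochainComplex.mappingCocone.id_X (coteleC s I) p (p + -1) rfl]
  simp only [transp, Preadditive.comp_add, CochainComplex.mappingCocone.lift_f_fst_f_assoc,
    CochainComplex.mappingCocone.lift_f_snd_v_assoc, h1, h2]
  simp [γ, η]

@[reassoc]
theorem transp_fst (f : teleX s X ⟶ I) :
    transp s X I f ≫ CochainComplex.mappingCocone.fst (coteleC s I) =
      trHom X I (CochainComplex.mappingCone.inr (teleC s X) ≫ f) :=
  CochainComplex.mappingCocone.lift_fst _ _ _ _

theorem transp_snd (f : teleX s X ⟶ I) (p q : ℤ) (h : p + -1 = q) :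
    (transp s X I f).f p ≫ (CochainComplex.mappingCocone.snd (coteleC s I)).v p q h =
      (-(tr X I (-1) ((CochainComplex.mappingCone.inl (teleC s X)).comp (Cochain.ofHom f) (add_zero _)))).v
        p q h :=
  CochainComplex.mappingCocone.lift_f_snd_v _ _ _ _ p q h

theorem cotele_hom_ext {a b : X ⟶ coteleX s I}
    (h₁ : a ≫ CochainComplex.mappingCocone.fst (coteleC s I) = b ≫ CochainComplex.mappingCocone.fst _)
    (h₂ : ∀ p q (h : p + -1 = q), a.f p ≫ (CochainComplex.mappingCocone.snd (coteleC s I)).v p q h =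
      b.f p ≫ (CochainComplex.mappingCocone.snd (coteleC s I)).v p q h) : a = b := by
  ext p
  have e₁ := congrArg (fun (m : X ⟶ prodC I) => m.f p) h₁
  simp only [comp_f] at e₁
  rw [← Category.comp_id (a.f p), ← Category.comp_id (b.f p),
    ← CochainComplex.mappingCocone.id_X (coteleC s I) p (p + -1) rfl]
  simp only [Preadditive.comp_add, reassoc_of% e₁, reassoc_of% (h₂ p (p + -1) rfl)]

theorem transp_add (f g : teleX s X ⟶ I) : transp s X I (f + g) = transp s X I f + transp s X I g := by
  refine cotele_hom_ext s X I ?_ fun p q h => ?_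
  · rw [Preadditive.add_comp, transp_fst, transp_fst, transp_fst]
    exact Limits.Pi.hom_ext _ _ fun n => by simp
  · rw [add_f_apply, Preadditive.add_comp, transp_snd, transp_snd, transp_snd]
    have : ∀ z z' : Cochain (sumC X) I (-1), tr X I (-1) (z + z') = tr X I (-1) z + tr X I (-1) z' :=
      fun z z' => cochain_prod_ext fun n => by
        rw [Cochain.add_comp, tr_π, tr_π, tr_π, Cochain.comp_add]
    rw [Cochain.ofHom_add, Cochain.comp_add, this]
    simp only [Cochain.neg_v, Cochain.add_v]
    abel

/-- Functoriality of the telescope. -/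
noncomputable def teleMapX {X X' : CochainComplex A ℤ} (g : X ⟶ X') : teleX s X ⟶ teleX s X' :=
  CochainComplex.mappingCone.map _ _ (Limits.Sigma.map fun _ : ℕ => g) (Limits.Sigma.map fun _ : ℕ => g)
    (Limits.Sigma.hom_ext _ _ fun n => by
      simp only [teleC, Sigma.ι_desc_assoc, Preadditive.sub_comp, Category.assoc, Sigma.ι_map,
        Sigma.ι_map_assoc, Sigma.ι_desc, Preadditive.comp_sub]
      simp only [Linear.smul_comp, Linear.comp_smul, Category.id_comp, Category.comp_id])

theorem transp_comp_left {X' : CochainComplex A ℤ} (g : X' ⟶ X) (f : teleX s X ⟶ I) :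
    transp s X' I (teleMapX s g ≫ f) = g ≫ transp s X I f := by
  refine cotele_hom_ext s X' I ?_ fun p q h => ?_
  · rw [Category.assoc, transp_fst, transp_fst]
    exact Limits.Pi.hom_ext _ _ fun n => by
      simp [teleMapX, CochainComplex.mappingCone.map]
  · rw [comp_f, Category.assoc, transp_snd, transp_snd]
    simp only [Cochain.neg_v, Preadditive.comp_neg, neg_inj]
    refine (isLimitX I q).hom_ext fun n => ?_
    have e1 := Cochain.congr_v (tr_π X' I ((CochainComplex.mappingCone.inl (teleC s X')).comp
      (Cochain.ofHom (teleMapX s g ≫ f)) (add_zero _)) n.as) p q h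
    have e2 := Cochain.congr_v (tr_π X I ((CochainComplex.mappingCone.inl (teleC s X)).comp
      (Cochain.ofHom f) (add_zero _)) n.as) p q h
    simp only [Cochain.comp_zero_cochain_v, Cochain.zero_cochain_comp_v, Cochain.ofHom_v] at e1 e2
    refine e1.trans (Eq.trans ?_ (Category.assoc _ _ _).symm)
    refine Eq.trans ?_ (congrArg (g.f p ≫ ·) e2).symm
    simp only [teleMapX, CochainComplex.mappingCone.map, comp_f, Category.assoc,
      CochainComplex.mappingCone.inl_v_desc_f_assoc, Cochain.zero_cochain_comp_v, Cochain.ofHom_v]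
    rw [← comp_f_assoc, Sigma.ι_map, comp_f_assoc]

/-- Functoriality of the cotelescope. -/
noncomputable def coteleMapX {I I' : CochainComplex A ℤ} (g : I ⟶ I') : coteleX s I ⟶ coteleX s I' :=
  CochainComplex.mappingCocone.lift (coteleC s I')
    (CochainComplex.mappingCocone.fst (coteleC s I) ≫ Limits.Pi.map fun _ : ℕ => g)
    ((CochainComplex.mappingCocone.snd (coteleC s I)).comp
      (Cochain.ofHom (Limits.Pi.map fun _ : ℕ => g)) (add_zero _))
    (by
      have hc : coteleC s I ≫ (Limits.Pi.map fun _ : ℕ => g) = (Limits.Pi.map fun _ : ℕ => g) ≫ coteleC s I' :=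
        Limits.Pi.hom_ext _ _ fun n => by simp [coteleC]
      have hd : δ (-1) 0 (CochainComplex.mappingCocone.snd (coteleC s I)) +
          Cochain.ofHom (CochainComplex.mappingCocone.fst (coteleC s I) ≫ coteleC s I) = 0 := by
        obtain ⟨f, hf⟩ := exists_transp s (coteleX s I) I (𝟙 _)
        have h1 := congrArg (· ≫ CochainComplex.mappingCocone.fst (coteleC s I)) hf
        simp only [transp_fst, Category.id_comp] at h1
        have h2 : -(tr _ I (-1) ((CochainComplex.mappingCone.inl (teleC s (coteleX s I))).comp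
            (Cochain.ofHom f) (add_zero _))) = CochainComplex.mappingCocone.snd (coteleC s I) := by
          ext p q h
          rw [← transp_snd, hf, id_f, Category.id_comp]
        rw [← h2, ← h1, δ_neg, δ_tr, δ_inl_comp, tr_ofHom, trHom_tele, neg_add_cancel]
      rw [δ_comp_ofHom, Category.assoc, ← hc, ← Category.assoc, Cochain.ofHom_comp (_ ≫ coteleC s I),
        ← Cochain.add_comp, hd, Cochain.zero_comp])

theorem transp_comp_right {I' : CochainComplex A ℤ} (g : I ⟶ I') (f : teleX s X ⟶ I) :
    transp s X I' (f ≫ g) = transp s X I f ≫ coteleMapX s g := by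
  refine cotele_hom_ext s X I' ?_ fun p q h => ?_
  · rw [Category.assoc, coteleMapX, CochainComplex.mappingCocone.lift_fst, transp_fst, transp_fst_assoc]
    exact Limits.Pi.hom_ext _ _ fun n => by
      rw [trHom_π, Category.assoc, Limits.Pi.map_π, reassoc_of% (trHom_π X I), Category.assoc]
  · rw [comp_f, Category.assoc, coteleMapX, CochainComplex.mappingCocone.lift_f_snd_v, transp_snd,
      Cochain.comp_zero_cochain_v, ← Category.assoc, transp_snd]
    simp only [Cochain.neg_v, Preadditive.neg_comp, neg_inj, Cochain.ofHom_v]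
    refine (isLimitX I' q).hom_ext fun n => ?_
    have e1 := Cochain.congr_v (tr_π X I' ((CochainComplex.mappingCone.inl (teleC s X)).comp
      (Cochain.ofHom (f ≫ g)) (add_zero _)) n.as) p q h
    have e2 := Cochain.congr_v (tr_π X I ((CochainComplex.mappingCone.inl (teleC s X)).comp
      (Cochain.ofHom f) (add_zero _)) n.as) p q h
    simp only [Cochain.comp_zero_cochain_v, Cochain.zero_cochain_comp_v, Cochain.ofHom_v] at e1 e2
    refine e1.trans (Eq.trans ?_ (Category.assoc _ _ _).symm)
    have e3 : (Limits.Pi.map fun _ : ℕ => g).f q ≫ (Pi.π (fun _ : ℕ => I') n.as).f q =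
        (Pi.π (fun _ : ℕ => I) n.as).f q ≫ g.f q := by
      rw [← comp_f, Pi.map_π, comp_f]
    refine Eq.trans ?_ (congrArg (_ ≫ ·) e3).symm
    rw [reassoc_of% e2, comp_f]

end Groth.Agent.DerCompLib
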