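import Groth.Agent.DerCompLib.TensorAway
import Groth.Agent.DerCompLib.Transpose
import Groth.Agent.DerLib.KInjUse
import Groth.Agent.KFlatLib.Generic
import Groth.Agent.ModSiteLib.Grothendieck
import Groth.Prelude.Def_KFlatSite
import Mathlib.Algebra.Homology.HomotopyCategory.ShortExact
import Mathlib.Algebra.Homology.DerivedCategory.ShortExact

/-!
# The telescope sequence of complexes
-/

set_option autoImplicit false
set_option linter.style.haveILetI false
set_option linter.unusedSectionVars false
set_option backward.isDefEq.respectTransparency false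

universe u

open CategoryTheory CategoryTheory.Limits Opposite HomologicalComplex
attribute [local instance] HasDerivedCategory.standard

namespace Groth.Agent.DerCompLib

variable {C : Type u} [SmallCategory C] {J : GrothendieckTopology C} {O : Sheaf J CommRingCat.{u}}
  (s : DerComp.GSec O)

/-- `- ⊗ O_s` on complexes. -/
noncomputable abbrev tFun : CochainComplex (ModSite.Mod O) ℤ ⥤ CochainComplex (ModSite.Mod O) ℤ :=
  ((ModSite.tensorBi O).flip.obj (Pz s)).mapHomologicalComplex (ComplexShape.up ℤ)

/-- The maps `X ⟶ X ⊗ O_s`. -/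
noncomputable def tzC (n : ℕ) (X : CochainComplex (ModSite.Mod O) ℤ) : X ⟶ (tFun s).obj X where
  f p := (tz s n).app (X.X p)
  comm' p q _ := ((tz s n).naturality (X.d p q)).symm

theorem teleC_comp_tzC (X : CochainComplex (ModSite.Mod O) ℤ) :
    teleC s X ≫ Sigma.desc (fun n => tzC s n X) = 0 :=
  Limits.Sigma.hom_ext _ _ fun n => by
    simp only [teleC, Sigma.ι_desc_assoc, Preadditive.sub_comp, Category.assoc, Sigma.ι_desc,
      comp_zero, sub_eq_zero]
    ext1 p
    exact (tz_rel s n (X.X p)).trans
      (congrArg (· ≫ (tz s (n + 1)).app (X.X p)) (Category.comp_id _).symm)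

/-- The telescope sequence of a complex. -/
noncomputable abbrev teleSC (X : CochainComplex (ModSite.Mod O) ℤ) :
    ShortComplex (CochainComplex (ModSite.Mod O) ℤ) :=
  ShortComplex.mk (teleC s X) (Sigma.desc fun n => tzC s n X) (teleC_comp_tzC s X)

theorem teleSC_shortExact (X : CochainComplex (ModSite.Mod O) ℤ) : (teleSC s X).ShortExact :=
  shortExact_of_degreewise_shortExact _ fun p => by
    let e : (sumC X).X p ≅ ∐ fun _ : ℕ => X.X p :=
      (isColimitX X p).coconePointUniqueUpToIso (coproductIsCoproduct fun _ : ℕ => X.X p)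
    have he : ∀ n : ℕ, (Sigma.ι (fun _ : ℕ => X) n).f p ≫ e.hom = Sigma.ι (fun _ : ℕ => X.X p) n :=
      fun n => (isColimitX X p).comp_coconePointUniqueUpToIso_hom _ ⟨n⟩
    refine ShortComplex.shortExact_of_iso ?_ (teleSeq_shortExact s (X.X p))
    refine (ShortComplex.isoMk (S₁ := (teleSC s X).map (eval _ (ComplexShape.up ℤ) p))
      (S₂ := teleSeq s (X.X p)) e e (Iso.refl _) ?_ ?_).symm
    · refine (isColimitX X p).hom_ext fun ⟨n⟩ => ?_
      change (Sigma.ι (fun _ : ℕ => X) n).f p ≫ e.hom ≫ tele s (X.X p) =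
        (Sigma.ι (fun _ : ℕ => X) n).f p ≫ (teleC s X).f p ≫ e.hom
      rw [reassoc_of% (he n), tele, DerComp.awayMap, Sigma.ι_desc, ← comp_f_assoc, teleC, Sigma.ι_desc,
        sub_f_apply, Preadditive.sub_comp, he, comp_f, Category.assoc, he]
      rfl
    · refine (isColimitX X p).hom_ext fun ⟨n⟩ => ?_
      change (Sigma.ι (fun _ : ℕ => X) n).f p ≫ e.hom ≫ teleπ s (X.X p) =
        (Sigma.ι (fun _ : ℕ => X) n).f p ≫ (Sigma.desc fun n => tzC s n X).f p ≫ 𝟙 _
      rw [reassoc_of% (he n), teleπ, Sigma.ι_desc, ← comp_f_assoc, Sigma.ι_desc, Category.comp_id]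
      rfl

theorem acyclic_tFun (X : CochainComplex (ModSite.Mod O) ℤ) (h : ∀ i, IsZero (X.homology i)) (i : ℤ) :
    IsZero (((tFun s).obj X).homology i) := by
  haveI : HasCoproduct fun _ : ULift.{u} ℕ => X := inferInstance
  have hz : ∀ i, IsZero ((sumC X).homology i) := fun i => by
    have hU : (∐ fun _ : ULift.{u} ℕ => X).Acyclic :=
      DerLib.KInjUse.acyclic_sigma _ fun _ i => (exactAt_iff_isZero_homology _ _).2 (h i)
    have e : (∐ fun _ : ULift.{u} ℕ => X) ≅ sumC X :=
      Sigma.whiskerEquiv Equiv.ulift fun _ => Iso.refl X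
    exact ((hU i).isZero_homology).of_iso ((HomologicalComplex.homologyFunctor _ _ i).mapIso e.symm)
  exact ((teleSC_shortExact s X).homology_exact₃ i (i + 1) (by simp)).isZero_of_both_zeros
    ((hz i).eq_of_src _ _) ((hz (i + 1)).eq_of_tgt _ _)

theorem tFun_inverts :
    (HomologicalComplex.quasiIso (ModSite.Mod O) (ComplexShape.up ℤ)).IsInvertedBy
      (tFun s ⋙ DerivedCategory.Q) := fun F G g hg => by
  haveI : QuasiIso g := (HomologicalComplex.mem_quasiIso_iff _).1 hg
  haveI : QuasiIso ((tFun s).map g) :=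
    KFlatLib.quasiIso_map_of_acyclic (tFun s)
      (fun S h => shortExact_of_degreewise_shortExact _ fun n =>
        ((h n).map ((ModSite.tensorBi O).flip.obj (Pz s))).shortExact)
      (fun K h => KFlatLib.isZero_homology_of_contractible
        ((Homotopy.ofEq (CategoryTheory.Functor.map_id _ K).symm).trans
          ((((ModSite.tensorBi O).flip.obj (Pz s)).mapHomotopy h).trans
            (Homotopy.ofEq (Functor.map_zero _ _ _)))))
      (acyclic_tFun s) g
  exact (DerivedCategory.isIso_Q_map_iff_quasiIso (C := ModSite.Mod O) ((tFun s).map g)).2 inferInstance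

/-- The comparison of the telescope with `- ⊗ O_s`. -/
noncomputable def teleComp (X : CochainComplex (ModSite.Mod O) ℤ) : teleX s X ⟶ (tFun s).obj X :=
  CochainComplex.mappingCone.descShortComplex (teleSC s X)

instance quasiIso_teleComp (X : CochainComplex (ModSite.Mod O) ℤ) : QuasiIso (teleComp s X) :=
  CochainComplex.mappingCone.quasiIso_descShortComplex (teleSC_shortExact s X)

theorem teleComp_naturality {X Y : CochainComplex (ModSite.Mod O) ℤ} (g : X ⟶ Y) :
    teleMapX s g ≫ teleComp s Y = teleComp s X ≫ (tFun s).map g := by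
  let φ : teleSC s X ⟶ teleSC s Y :=
    { τ₁ := Limits.Sigma.map fun _ : ℕ => g
      τ₂ := Limits.Sigma.map fun _ : ℕ => g
      τ₃ := (tFun s).map g
      comm₁₂ := Limits.Sigma.hom_ext _ _ fun n => by
        simp only [teleC, Sigma.ι_desc_assoc, Preadditive.sub_comp, Category.assoc, Sigma.ι_map,
          Sigma.ι_map_assoc, Sigma.ι_desc, Preadditive.comp_sub]
        simp only [Linear.smul_comp, Linear.comp_smul, Category.id_comp]
      comm₂₃ := Limits.Sigma.hom_ext _ _ fun n => by
        simp only [Sigma.ι_map_assoc, Sigma.ι_desc, Sigma.ι_desc_assoc]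
        ext1 p
        exact (tz s n).naturality (g.f p) }
  exact CochainComplex.mappingCone.map_descShortComplex (f := φ)

/-- `Q` of the telescope is `Q(- ⊗ O_s)`. -/
noncomputable def teleIso (X : CochainComplex (ModSite.Mod O) ℤ) :
    DerivedCategory.Q.obj (teleX s X) ≅ DerivedCategory.Q.obj ((tFun s).obj X) :=
  haveI := (DerivedCategory.isIso_Q_map_iff_quasiIso (C := ModSite.Mod O) (teleComp s X)).2 inferInstance
  asIso (DerivedCategory.Q.map (teleComp s X))

theorem teleIso_naturality {X Y : CochainComplex (ModSite.Mod O) ℤ} (g : X ⟶ Y) :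
    DerivedCategory.Q.map (teleMapX s g) ≫ (teleIso s Y).hom =
      (teleIso s X).hom ≫ DerivedCategory.Q.map ((tFun s).map g) := by
  simp only [teleIso, asIso_hom, ← Functor.map_comp, teleComp_naturality]

end Groth.Agent.DerCompLib
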